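import Mathlib

/-! Hua's identity for inverse-closed additive subgroups of a ring and the Artin–Zorn theorem:
a finite (Moufang-)alternative division ring is associative. -/

set_option autoImplicit false

namespace H05.AZ

open Polynomial

/-- Norm surjectivity for an automorphism of a finite field. -/
theorem norm_surj {K : Type*} [Field K] [Finite K] (σ : K ≃+* K) (β : K) (hβ : σ β = β) :
    ∃ a : K, ∏ i ∈ Finset.range (orderOf σ), (σ ^ i) a = β := by
  classical
  let H : Subgroup (K ≃+* K) := Subgroup.zpowers σ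
  haveI : Finite (K ≃+* K) := Finite.of_injective (fun f : K ≃+* K => (f : K → K)) DFunLike.coe_injective
  let F := FixedPoints.subfield H K
  have hβF : β ∈ F := by
    rintro ⟨g, n, rfl⟩
    exact (MulAction.mem_stabilizer_iff (G := K ≃+* K)).1
      (Subgroup.zpow_mem _ ((MulAction.mem_stabilizer_iff (G := K ≃+* K)).2 hβ) n)
  haveI : FaithfulSMul H K := ⟨fun {a b} h => Subtype.ext (RingEquiv.ext h)⟩
  obtain ⟨a, ha⟩ := FiniteField.norm_surjective F K ⟨β, hβF⟩
  refine ⟨a, ?_⟩
  have h1 := Algebra.norm_eq_prod_automorphisms F a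
  rw [ha] at h1
  change β = _ at h1
  haveI : Fintype H := Fintype.ofFinite _
  rw [h1, ← (FixedPoints.toAlgAutMulEquiv H K).toEquiv.prod_comp]
  have hfin : IsOfFinOrder σ := isOfFinOrder_of_finite σ
  rw [← (finEquivZPowers hfin).prod_comp, Finset.prod_range]
  refine Finset.prod_congr rfl fun i _ => ?_
  rfl

section Hua
variable {E : Type*} [Ring E]

theorem inv_mem {S S' : AddSubgroup E} (h1 : (1 : E) ∈ S)
    (hS : ∀ A ∈ S, A ≠ 0 → ∃ A' ∈ S', A * A' = 1 ∧ A' * A = 1)
    (hS' : ∀ A' ∈ S', A' ≠ 0 → ∃ A ∈ S, A * A' = 1 ∧ A' * A = 1) :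
    ∀ A ∈ S, A ≠ 0 → ∃ A' ∈ S, A * A' = 1 ∧ A' * A = 1 := by
  intro M hM hM0
  have h10 : (1 : E) ≠ 0 := fun h => hM0 (by rw [← mul_one M, h, mul_zero])
  have h1' : (1 : E) ∈ S' := by
    obtain ⟨A, hA, h, -⟩ := hS 1 h1 h10
    rw [one_mul] at h
    exact h ▸ hA
  by_cases hm : M + 1 = 0
  · have : M = -1 := eq_neg_of_add_eq_zero_left hm
    exact ⟨M, hM, by simp [this], by simp [this]⟩
  obtain ⟨N, hN, hN1, hN2⟩ := hS _ (S.add_mem hM h1) hm
  obtain ⟨M', -, hM1, hM2⟩ := hS M hM hM0
  have e1 : 1 - N = M * N := by rw [← hN1]; noncomm_ring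
  have hne : 1 - N ≠ 0 := by
    intro h
    have hN' : N = 1 := (sub_eq_zero.1 h).symm
    rw [hN', mul_one] at hN1
    exact hM0 (by simpa using hN1)
  obtain ⟨Q, hQ, hQ1, -⟩ := hS' _ (S'.sub_mem h1' hN) hne
  have e2 : (Q - 1) * M = 1 := by
    have : Q * M = M + 1 := by
      calc Q * M = Q * M * (N * (M + 1)) := by rw [hN2, mul_one]
        _ = Q * (M * N) * (M + 1) := by noncomm_ring
        _ = M + 1 := by rw [← e1, hQ1, one_mul]
    rw [sub_mul, this]; simp
  have e3 : Q - 1 = M' := by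
    calc Q - 1 = (Q - 1) * (M * M') := by rw [hM1, mul_one]
      _ = M' := by rw [← mul_assoc, e2, one_mul]
  exact ⟨Q - 1, S.sub_mem hQ h1, by rw [e3, hM1], e2⟩

theorem hua {S : AddSubgroup E}
    (hS : ∀ A ∈ S, A ≠ 0 → ∃ A' ∈ S, A * A' = 1 ∧ A' * A = 1) {A B : E} (hA : A ∈ S) (hB : B ∈ S) :
    A * B * A ∈ S := by
  by_cases hA0 : A = 0
  · simp [hA0]
  by_cases hB0 : B = 0
  · simp [hB0]
  obtain ⟨A', hA', a1, a2⟩ := hS A hA hA0
  obtain ⟨B', hB', b1, b2⟩ := hS B hB hB0
  by_cases hX : B' - A = 0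
  · have : A = B' := (sub_eq_zero.1 hX).symm
    rw [this, b2, one_mul]; exact hB'
  obtain ⟨X', hX', x1, x2⟩ := hS _ (S.sub_mem hB' hA) hX
  have e1 : (A - A * B * A) * (A' + X') = 1 := by
    have : A - A * B * A = (B' - A) * B * A := by rw [sub_mul, sub_mul, b2, one_mul]
    rw [this]
    have h2 : A' + X' = A' * B' * X' := by
      calc A' + X' = A' * ((B' - A) * X') + (A' * A) * X' := by rw [x1, a2, mul_one, one_mul]
        _ = A' * B' * X' := by noncomm_ring
    rw [h2]
    calc (B' - A) * B * A * (A' * B' * X') = (B' - A) * (B * (A * A') * B') * X' := by noncomm_ring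
      _ = 1 := by rw [a1, mul_one, b1, mul_one, x1]
  have hne : A' + X' ≠ 0 := by
    intro h
    rw [h, mul_zero] at e1
    exact hA0 (by rw [← mul_one A, ← e1, mul_zero])
  obtain ⟨Y, hY, y1, -⟩ := hS _ (S.add_mem hA' hX') hne
  have e2 : A - A * B * A = Y := by
    calc A - A * B * A = (A - A * B * A) * ((A' + X') * Y) := by rw [y1, mul_one]
      _ = Y := by rw [← mul_assoc, e1, one_mul]
  have : A * B * A = A - Y := by rw [← e2]; abel
  rw [this]; exact S.sub_mem hA hY

end Hua

section Alt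
variable {D : Type*} [NonAssocRing D]

/-- right multiplication -/
def R (a : D) : AddMonoid.End D := AddMonoid.End.mulRight a
/-- left multiplication -/
def L (a : D) : AddMonoid.End D := AddMonoid.End.mulLeft a

@[simp] theorem R_apply (a x : D) : R a x = x * a := rfl
@[simp] theorem L_apply (a x : D) : L a x = a * x := rfl
@[simp] theorem add_ap (f g : AddMonoid.End D) (x : D) : (f + g) x = f x + g x := rfl
@[simp] theorem sub_ap (f g : AddMonoid.End D) (x : D) : (f - g) x = f x - g x := rfl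
theorem R_add (a b : D) : R (a + b) = R a + R b := by ext x; simp [mul_add]
theorem R_sub (a b : D) : R (a - b) = R a - R b := by ext x; simp [mul_sub]
theorem R_one : R (1 : D) = 1 := by ext x; simp
theorem L_one : L (1 : D) = 1 := by ext x; simp
theorem R_zero : R (0 : D) = 0 := by ext x; simp
theorem R_inj {a b : D} (h : R a = R b) : a = b := by
  simpa using congrArg (fun f : AddMonoid.End D => f 1) h

/-- Moufang-alternative ring without zero divisors -/
structure Alt (D : Type*) [NonAssocRing D] : Prop where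
  hz : ∀ a b : D, a * b = 0 → a = 0 ∨ b = 0
  hR : ∀ x a b : D, ((x * a) * b) * a = x * ((a * b) * a)
  hL : ∀ x a b : D, a * (b * (a * x)) = (a * (b * a)) * x

/-- powers -/
def pw (a : D) (k : ℕ) : D := (R a ^ k) 1

theorem pw_zero (a : D) : pw a 0 = 1 := by simp [pw]
theorem pw_succ (a : D) (k : ℕ) : pw a (k + 1) = pw a k * a := by simp [pw, pow_succ']
theorem pw_one (a : D) : pw a 1 = a := by simp [pw]

namespace Alt
variable (h : Alt D)
include h

theorem ra (x a : D) : (x * a) * a = x * (a * a) := by simpa using h.hR x a 1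
theorem la (x a : D) : a * (a * x) = (a * a) * x := by simpa using h.hL x a 1
theorem ra' (x a b : D) : (x * a) * b + (x * b) * a = x * (a * b + b * a) := by
  have := h.ra x (a + b)
  simp only [mul_add, add_mul, h.ra] at this ⊢
  have e : x * a * b + x * b * a = (x * (a * a) + x * b * a + (x * a * b + x * (b * b))) -
      x * (a * a) - x * (b * b) := by abel
  rw [e, this]; abel
theorem flex (a x : D) : (a * x) * a = a * (x * a) := by
  have := h.ra' a x a
  rw [mul_add, h.la] at this
  exact add_right_cancel this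
theorem RRR (a b : D) : R ((a * b) * a) = R a * R b * R a := by ext x; simp [h.hR]
theorem LLL (a b : D) : L ((a * b) * a) = L a * L b * L a := by ext x; simp [h.hL, h.flex]
theorem RR (a b : D) : R (a * b + b * a) = R a * R b + R b * R a := by
  ext x; simp [← h.ra', add_comm]
theorem commLR (a : D) : Commute (L a) (R a) := by
  ext x; simp [h.flex]

theorem pw_aux (a : D) (k : ℕ) : (R (pw a k) = R a ^ k ∧ L (pw a k) = L a ^ k) ∧
    (R (pw a (k + 1)) = R a ^ (k + 1) ∧ L (pw a (k + 1)) = L a ^ (k + 1)) := by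
  induction k with
  | zero => simp [pw_zero, pw_one, R_one, L_one]
  | succ k ih =>
    refine ⟨ih.2, ?_⟩
    have e : pw a (k + 1 + 1) = (a * pw a k) * a := by
      have : R a ^ (k + 1 + 1) = R a * R (pw a k) * R a := by rw [ih.1.1, pow_succ, pow_succ']
      simp [pw, this]
    rw [e, h.RRR, h.LLL, ih.1.1, ih.1.2]
    constructor <;> rw [pow_succ, pow_succ']

theorem R_pw (a : D) (k : ℕ) : R (pw a k) = R a ^ k := (h.pw_aux a k).1.1
theorem L_pw (a : D) (k : ℕ) : L (pw a k) = L a ^ k := (h.pw_aux a k).1.2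
theorem pw_add (a : D) (i j : ℕ) : pw a (i + j) = pw a i * pw a j := by
  rw [← R_apply, h.R_pw, add_comm]; simp [pw, pow_add]
theorem pw_mul (a : D) (i j : ℕ) : pw (pw a i) j = pw a (i * j) := by
  rw [pw, h.R_pw, ← pow_mul, pw]
theorem pw_ne {a : D} [Nontrivial D] (ha : a ≠ 0) (k : ℕ) : pw a k ≠ 0 := by
  induction k with
  | zero => simp [pw_zero]
  | succ k ih => rw [pw_succ]; intro h0; rcases h.hz _ _ h0 with h0 | h0 <;> contradiction
theorem cancel {x a b : D} (hx : x ≠ 0) (e : x * a = x * b) : a = b := by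
  rcases h.hz x (a - b) (by rw [mul_sub, e, sub_self]) with h0 | h0
  · exact absurd h0 hx
  · exact sub_eq_zero.1 h0

theorem pw_e2 (x : D) (j : ℕ) (b : D) : (pw x j * b) * x = pw x j * (b * x) := by
  have := ((h.commLR x).pow_left j).eq
  rw [← h.L_pw] at this
  simpa using (congrArg (fun f : AddMonoid.End D => f b) this).symm
theorem pw_e3 (x : D) (j : ℕ) (b : D) : pw x j * (x * b) = pw x (j + 1) * b := by
  rw [← L_apply (pw x (j + 1)), h.L_pw, pow_succ, ← h.L_pw]; simp

/-- twisting -/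
theorem tw_pw {K : Type*} [Field K] {ι : K → D} {σ : K ≃+* K} {x : D}
    (hx : ∀ k, ι k * x = x * ι (σ k)) (j : ℕ) : ∀ k, ι k * pw x j = pw x j * ι ((σ ^ j) k) := by
  induction j with
  | zero => simp [pw_zero]
  | succ j ih =>
    intro k
    have e1 : ι k * pw x (j + 1) = (ι k * pw x j) * x := by
      rw [← R_apply, h.R_pw, pow_succ', ← h.R_pw]; simp
    rw [e1, ih, h.pw_e2, hx, h.pw_e3, pow_succ']; rfl

end Alt

/-- a maximal subfield -/
structure MaxF (D : Type*) [NonAssocRing D] (K : Type*) [Field K] (ι : K → D) (c : K) : Prop where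
  add : ∀ a b, ι (a + b) = ι a + ι b
  one : ι 1 = 1
  mul : ∀ a b, R (ι (a * b)) = R (ι a) * R (ι b)
  gen : ∀ k, k ≠ 0 → ∃ n, k = c ^ n
  max : ∀ y, Commute (R (ι c)) (R y) → ∃ k, y = ι k

namespace MaxF
variable {K : Type*} [Field K] {ι : K → D} {c : K} (m : MaxF D K ι c)
include m

theorem zero : ι 0 = 0 := by simpa using m.add 0 0
theorem sub (a b : K) : ι (a - b) = ι a - ι b := by
  rw [eq_sub_iff_add_eq, ← m.add, sub_add_cancel]
theorem mul_ap (x : D) (a b : K) : x * ι (a * b) = (x * ι a) * ι b := by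
  rw [mul_comm a b, ← R_apply, m.mul]; simp
theorem mul' (a b : K) : ι (a * b) = ι a * ι b := by simpa using m.mul_ap 1 a b
theorem inj [Nontrivial D] {a b : K} (e : ι a = ι b) : a = b := by
  by_contra hne
  have h1 : ι (a - b) = 0 := by rw [m.sub, e, sub_self]
  have := m.mul' (a - b) (a - b)⁻¹
  rw [mul_inv_cancel₀ (sub_ne_zero.2 hne), m.one, h1, zero_mul] at this
  exact one_ne_zero this
theorem pow (a : K) (n : ℕ) : ι (a ^ n) = pw (ι a) n := by
  induction n with
  | zero => simp [m.one, pw_zero]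
  | succ n ih => rw [pow_succ, m.mul', ih, pw_succ]

/-- the ring hom to the endomorphisms -/
def j : K →+* AddMonoid.End D where
  toFun k := R (ι k)
  map_one' := by rw [m.one, R_one]
  map_mul' := m.mul
  map_zero' := by rw [m.zero, R_zero]
  map_add' a b := by rw [m.add, R_add]

variable (h : Alt D)
include h

theorem comm_L (a b : K) : Commute (R (ι a)) (L (ι b)) := by
  by_cases ha : a = 0
  · rw [ha, m.zero, R_zero]; exact Commute.zero_left _
  by_cases hb : b = 0
  · have : L (0 : D) = 0 := by ext; simp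
    rw [hb, m.zero, this]; exact Commute.zero_right _
  obtain ⟨i, rfl⟩ := m.gen a ha
  obtain ⟨k, rfl⟩ := m.gen b hb
  rw [m.pow, m.pow, h.R_pw, h.L_pw]
  exact ((h.commLR _).symm.pow_pow _ _)
theorem bim (a b : K) (x : D) : (ι a * x) * ι b = ι a * (x * ι b) := by
  simpa using congrArg (fun f : AddMonoid.End D => f x) (m.comm_L h b a).eq
theorem Lmul (a b : K) (x : D) : ι (a * b) * x = ι a * (ι b * x) := by
  by_cases ha : a = 0
  · simp [ha, m.zero]
  by_cases hb : b = 0
  · simp [hb, m.zero]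
  obtain ⟨i, rfl⟩ := m.gen a ha
  obtain ⟨k, rfl⟩ := m.gen b hb
  rw [← pow_add, m.pow, m.pow, m.pow, ← L_apply, ← L_apply (pw _ i), ← L_apply (pw _ k), h.L_pw,
    h.L_pw, h.L_pw, pow_add]; rfl

theorem mem_of_comm [Finite K] {y : D} (hy : ι c * y = y * ι c) : ∃ k, y = ι k := by
  classical
  haveI := Fintype.ofFinite K
  apply m.max
  set C := R (ι c) with hC
  set B := R y with hB
  have e1 : C * C * B + B * (C * C) = C * B * C + C * B * C := by
    have h2 : R (ι c * ι c) = C * C := by ext x; simp [hC, h.ra]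
    rw [← h2, ← h.RR, ← h.RRR, ← R_add, ← h.la, ← h.ra, hy, ← h.flex, hy]
  have e2 : Commute C (C * B - B * C) := by
    have : C * (C * B - B * C) - (C * B - B * C) * C =
      (C * C * B + B * (C * C)) - (C * B * C + C * B * C) := by noncomm_ring
    rw [e1, sub_self] at this
    exact sub_eq_zero.1 this
  have e3 : ∀ n : ℕ, C ^ (n + 1) * B - B * C ^ (n + 1) = ((n + 1 : ℕ) : AddMonoid.End D) *
      (C ^ n * (C * B - B * C)) := by
    intro n
    induction n with
    | zero => simp
    | succ n ih =>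
      have : C ^ (n + 1 + 1) * B - B * C ^ (n + 1 + 1) =
          C ^ (n + 1) * (C * B - B * C) + (C ^ (n + 1) * B - B * C ^ (n + 1)) * C := by
        rw [pow_succ C (n + 1)]; noncomm_ring
      rw [this, ih, mul_assoc, mul_assoc, ← e2.eq, ← mul_assoc (C ^ n), ← pow_succ]
      push_cast; noncomm_ring
  have hq : 1 ≤ Fintype.card K := Fintype.card_pos
  have e4 := e3 (Fintype.card K - 1)
  rw [Nat.sub_add_cancel hq] at e4
  have e5 : C ^ Fintype.card K = C := by
    change m.j c ^ _ = m.j c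
    rw [← map_pow, FiniteField.pow_card]
  have e6 : ((Fintype.card K : ℕ) : AddMonoid.End D) = 0 := by
    rw [← map_natCast m.j, FiniteField.cast_card_eq_zero, map_zero]
  rw [e5, e6, zero_mul] at e4
  exact sub_eq_zero.1 e4

theorem eq_one_of_mem [Nontrivial D] {σ : K ≃+* K} {x : D} (hx0 : x ≠ 0)
    (hx : ∀ k, ι k * x = x * ι (σ k)) (hm : ∃ k, x = ι k) : σ = 1 := by
  obtain ⟨a, rfl⟩ := hm
  ext k
  have := hx k
  rw [← m.mul', mul_comm, m.mul'] at this
  exact (m.inj (h.cancel hx0 this)).symm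

theorem top_pw [Nontrivial D] [Finite K] {σ : K ≃+* K} {x : D} (hx0 : x ≠ 0)
    (hx : ∀ k, ι k * x = x * ι (σ k)) : ∃ β, β ≠ 0 ∧ σ β = β ∧ pw x (orderOf σ) = ι β := by
  have h1 := h.tw_pw hx (orderOf σ) c
  rw [pow_orderOf_eq_one] at h1
  obtain ⟨β, hβ⟩ := m.mem_of_comm h h1
  refine ⟨β, ?_, ?_, hβ⟩
  · rintro rfl
    exact h.pw_ne hx0 _ (by rw [hβ, m.zero])
  · have h2 := hx β
    have h3 : ι β * x = x * ι β := by
      rw [← hβ, ← pw_succ, add_comm, h.pw_add, pw_one]
    exact (m.inj (h.cancel hx0 (h3.symm.trans h2))).symm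

theorem indep [Nontrivial D] {σ : K ≃+* K} {y : D}
    (hy : ∀ k, ι k * y = y * ι (σ k)) (n : ℕ) (hn : n < orderOf σ) :
    ∀ b : ℕ → K, ∑ i ∈ Finset.range (n + 1), pw y i * ι (b i) = 0 → b 0 = 0 := by
  induction n with
  | zero =>
    intro b hb
    apply m.inj
    simpa [pw_zero, m.zero] using hb
  | succ n ih =>
    intro b hb
    have hne : c - (σ ^ (n + 1)) c ≠ 0 := by
      intro h0
      apply pow_ne_one_of_lt_orderOf (Nat.succ_ne_zero n) hn
      ext k
      by_cases hk : k = 0
      · simp [hk]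
      obtain ⟨i, rfl⟩ := m.gen k hk
      rw [map_pow, ← sub_eq_zero.1 h0]; rfl
    have key : ∀ i, ι c * (pw y i * ι (b i)) - (pw y i * ι (b i)) * ι ((σ ^ (n + 1)) c) =
        pw y i * ι (b i * ((σ ^ i) c - (σ ^ (n + 1)) c)) := by
      intro i
      rw [← m.bim h, h.tw_pw hy, ← m.mul_ap, ← m.mul_ap, ← mul_sub, ← m.sub]
      congr 2; ring
    have h2 : ∑ i ∈ Finset.range (n + 1 + 1), pw y i * ι (b i * ((σ ^ i) c - (σ ^ (n + 1)) c)) = 0 := by
      simp only [← key, Finset.sum_sub_distrib, ← Finset.mul_sum, ← Finset.sum_mul, hb]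
      simp
    rw [Finset.sum_range_succ, sub_self, mul_zero, m.zero, mul_zero, add_zero] at h2
    have := ih (by omega) _ h2
    rw [pow_zero] at this
    exact (mul_eq_zero.1 this).resolve_right hne

theorem tw_trivial [Nontrivial D] [Finite K] {σ : K ≃+* K} {x : D} (hx0 : x ≠ 0)
    (hx : ∀ k, ι k * x = x * ι (σ k)) : σ = 1 := by
  haveI : Finite (K ≃+* K) :=
    Finite.of_injective (fun f : K ≃+* K => (f : K → K)) DFunLike.coe_injective
  have hs : 0 < orderOf σ := orderOf_pos σ
  rcases Nat.even_or_odd (orderOf σ) with ⟨t, ht⟩ | hodd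
  · exfalso
    have ht0 : t ≠ 0 := by omega
    have ho : orderOf (σ ^ t) = 2 := by
      rw [orderOf_pow' _ ht0, ht, ← two_mul, Nat.gcd_mul_left_left]
      exact Nat.mul_div_cancel _ (by omega)
    have hy := h.tw_pw hx t
    have hy0 := h.pw_ne hx0 t
    set y := pw x t
    set τ := σ ^ t
    obtain ⟨β, -, hβ, e⟩ := m.top_pw h hy0 hy
    obtain ⟨a, ha⟩ := norm_surj τ β hβ
    rw [ho] at ha e
    have ha' : a * τ a = β := by simpa [Finset.prod_range_succ] using ha
    have e' : y * y = ι β := by rw [← e, pw_succ, pw_one]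
    have : (y - ι a) * (y + ι (τ a)) = 0 := by
      rw [sub_mul, mul_add, mul_add, e', hy, ← m.mul', ha']; abel
    have h1 : τ = 1 := by
      apply m.eq_one_of_mem h hy0 hy
      rcases h.hz _ _ this with h0 | h0
      · exact ⟨a, sub_eq_zero.1 h0⟩
      · refine ⟨0 - τ a, ?_⟩
        rw [m.sub, m.zero, zero_sub]; exact eq_neg_of_add_eq_zero_left h0
    rw [h1, orderOf_one] at ho; omega
  · have ho : orderOf (σ ^ 2) = orderOf σ :=
      Nat.Coprime.orderOf_pow (Nat.Coprime.symm (Nat.coprime_two_left.2 hodd))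
    obtain ⟨β, hβ0, hβ, e⟩ := m.top_pw h hx0 hx
    have hx' := h.tw_pw hx 2
    have hx0' := h.pw_ne hx0 2
    have e' : pw (pw x 2) (orderOf σ) = ι (β * β) := by
      rw [h.pw_mul, two_mul, h.pw_add, e, m.mul']
    set x' := pw x 2
    set τ := σ ^ 2 with hτ
    obtain ⟨a, ha⟩ := norm_surj τ β⁻¹ (by simp [hτ, pow_two, hβ])
    rw [ho] at ha
    set y := (ι a * x') * ι a with hydef
    have hy1 : y = x' * ι (τ a * a) := by rw [hydef, hx', m.mul_ap]
    have hy : ∀ k, ι k * y = y * ι (τ k) := fun k => by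
      rw [hy1, ← m.bim h, hx', ← m.mul_ap, ← m.mul_ap, mul_comm]
    have hp : ∀ j, pw y j = pw x' j * ι ((∏ i ∈ Finset.range j, (τ ^ i) a) *
        τ (∏ i ∈ Finset.range j, (τ ^ i) a)) := by
      intro j
      induction j with
      | zero => simp [pw_zero, m.one]
      | succ j ih =>
        rw [pw_succ, hydef, ← h.hR, ← hydef, ih, ← m.mul_ap, h.pw_e2, hx', h.pw_e3, ← m.mul_ap]
        have : ∏ i ∈ Finset.range (j + 1), (τ ^ i) a = τ (∏ i ∈ Finset.range j, (τ ^ i) a) * a := by
          rw [Finset.prod_range_succ', map_prod]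
          simp [pow_succ']
        rw [this]; simp only [map_mul]; congr 2; ring
    have hs1 : pw y (orderOf σ) = 1 := by
      rw [hp, ha, e', ← m.mul', ← m.one]
      congr 1
      have : τ β⁻¹ = β⁻¹ := by simp [hτ, pow_two, hβ]
      rw [this]; field_simp
    have hy0 : y ≠ 0 := by
      intro h0
      obtain ⟨k, hk⟩ := Nat.exists_eq_succ_of_ne_zero hs.ne'
      rw [hk, pw_succ, h0, mul_zero] at hs1
      exact zero_ne_one hs1
    have hsum : (∑ i ∈ Finset.range (orderOf σ), pw y i) * (y - 1) = 0 := by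
      have := congrArg (fun f : AddMonoid.End D => f 1) (mul_geom_sum (R y) (orderOf σ))
      have e2 : (∑ i ∈ Finset.range (orderOf σ), R y ^ i) 1 =
          ∑ i ∈ Finset.range (orderOf σ), pw y i := AddMonoidHom.finsetSum_apply _ _ _
      simp only [AddMonoid.End.coe_mul, Function.comp, e2, sub_ap] at this
      change _ = pw y _ - 1 at this
      rw [hs1, sub_self] at this
      simpa [mul_sub, Finset.sum_mul] using this
    have h1 : τ = 1 := by
      rcases h.hz _ _ hsum with h0 | h0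
      · exfalso
        obtain ⟨k, hk⟩ := Nat.exists_eq_succ_of_ne_zero hs.ne'
        have := m.indep h hy k (by rw [ho]; omega) (fun _ => 1) (by simpa [m.one, hk] using h0)
        exact one_ne_zero this
      · exact m.eq_one_of_mem h hy0 hy ⟨1, by rw [m.one]; exact sub_eq_zero.1 h0⟩
    rw [h1, orderOf_one] at ho
    exact orderOf_eq_one_iff.1 ho.symm

theorem surj [Nontrivial D] [Finite K] (y : D) : ∃ k, y = ι k := by
  classical
  haveI := Fintype.ofFinite K
  apply m.mem_of_comm h
  by_contra hne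
  let φ : K[X] →+* AddMonoid.End D := eval₂RingHom' m.j (L (ι c)) fun a => m.comm_L h a c
  have hφ : ∀ a, φ (X - C a) = L (ι c) - R (ι a) := fun a => by
    simp [φ, eval₂RingHom', j]
  have hq : 1 < Fintype.card K := Fintype.one_lt_card
  have hprod : (X ^ Fintype.card K - X : K[X]) = ∏ a : K, (X - C a) := by
    have hm : (X ^ Fintype.card K - X : K[X]).Monic :=
      monic_X_pow_sub (by rw [degree_X]; exact_mod_cast hq)
    have := prod_multiset_X_sub_C_of_monic_of_roots_card_eq hm (by
      rw [FiniteField.roots_X_pow_card_sub_X, FiniteField.X_pow_card_sub_X_natDegree_eq K hq]; simp)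
    rw [← this, FiniteField.roots_X_pow_card_sub_X]; rfl
  have h0 : φ (X ^ Fintype.card K - X) = 0 := by
    have : φ X = L (ι c) := by simp [φ, eval₂RingHom']
    rw [map_sub, map_pow, this, ← h.L_pw, ← m.pow, FiniteField.pow_card, sub_self]
  rw [hprod, ← Finset.prod_erase_mul _ _ (Finset.mem_univ c), map_mul, hφ] at h0
  have hninj : ¬ Function.Injective (φ (∏ a ∈ Finset.univ.erase c, (X - C a))) := by
    intro hi
    apply hne
    have := congrArg (fun f : AddMonoid.End D => f y) h0
    simp only [AddMonoid.End.coe_mul, Function.comp, sub_ap, L_apply, R_apply] at this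
    exact sub_eq_zero.1 (hi (this.trans (map_zero _).symm))
  have : ∃ a, a ≠ c ∧ ∃ x, x ≠ 0 ∧ ι c * x = x * ι a := by
    by_contra hc
    push Not at hc
    apply hninj
    refine Finset.prod_induction _ (fun p => Function.Injective (φ p)) ?_ ?_ ?_
    · intro p q hp hq
      rw [map_mul]; exact hp.comp hq
    · rw [map_one]; exact Function.injective_id
    · intro a ha
      rw [hφ, injective_iff_map_eq_zero]
      intro x hx
      by_contra hx0
      exact hc a (Finset.ne_of_mem_erase ha) x hx0 (sub_eq_zero.1 hx)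
  obtain ⟨a, hac, x, hx0, hx⟩ := this
  have hex : ∀ k, ∃ k', ι k * x = x * ι k' := by
    intro k
    by_cases hk : k = 0
    · exact ⟨0, by simp [hk, m.zero]⟩
    obtain ⟨i, rfl⟩ := m.gen k hk
    refine ⟨a ^ i, ?_⟩
    clear hk
    induction i with
    | zero => simp [m.one]
    | succ i ih => rw [pow_succ, m.Lmul h, hx, ← m.bim h, ih, ← m.mul_ap, ← pow_succ]
  choose f hf using hex
  have hu : ∀ k k', ι k * x = x * ι k' → f k = k' := fun k k' e =>
    m.inj (h.cancel hx0 ((hf k).symm.trans e))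
  let g : K →+* K :=
    { toFun := f
      map_one' := hu _ _ (by simp [m.one])
      map_mul' := fun a b => hu _ _ (by
        rw [m.Lmul h, hf, ← m.bim h, hf, ← m.mul_ap])
      map_zero' := hu _ _ (by simp [m.zero])
      map_add' := fun a b => hu _ _ (by rw [m.add, m.add, add_mul, mul_add, hf, hf]) }
  let σ : K ≃+* K := RingEquiv.ofBijective g (Finite.injective_iff_bijective.1 g.injective)
  have h1 : σ = 1 := m.tw_trivial h hx0 hf
  apply hac
  have : σ c = a := hu _ _ hx
  rw [← this, h1]; rfl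

end MaxF

theorem exists_maxF [Nontrivial D] [Finite D] (h : Alt D) : ∃ (K : Subring (AddMonoid.End D))
    (_ : Field K) (ι : K → D) (c : K), MaxF D K ι c := by
  classical
  haveI : Finite (AddMonoid.End D) :=
    Finite.of_injective (fun f : AddMonoid.End D => (f : D → D)) DFunLike.coe_injective
  let Good : Subring (AddMonoid.End D) → Prop := fun K =>
    (∀ a ∈ K, ∃ d, a = R d) ∧ ∀ a ∈ K, ∀ b ∈ K, a * b = b * a
  have hgood : ∀ s : Set (AddMonoid.End D), (∀ a ∈ s, ∀ b ∈ s, a * b = b * a) →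
      (∀ a ∈ Submonoid.closure s, ∃ d, a = R d) → Good (Subring.closure s) := by
    intro s hc hm
    refine ⟨fun a ha => ?_, fun a ha b hb => ?_⟩
    · rw [Subring.mem_closure_iff] at ha
      induction ha using AddSubgroup.closure_induction with
      | mem x hx => exact hm x hx
      | zero => exact ⟨0, R_zero.symm⟩
      | add x y _ _ hx hy =>
        obtain ⟨d, rfl⟩ := hx; obtain ⟨e, rfl⟩ := hy; exact ⟨d + e, (R_add _ _).symm⟩
      | neg x _ hx =>
        obtain ⟨d, rfl⟩ := hx; exact ⟨0 - d, by rw [R_sub, R_zero, zero_sub]⟩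
    · have h1 : Subring.closure s ≤ Subring.centralizer s := Subring.closure_le.2 fun x hx y hy =>
        hc y hy x hx
      have h2 : Subring.closure s ≤ Subring.centralizer (Subring.closure s) :=
        Subring.closure_le.2 fun x hx y hy => (h1 hy x hx).symm
      exact h2 hb a ha
  haveI : Finite (Subring (AddMonoid.End D)) :=
    Finite.of_injective (fun K : Subring (AddMonoid.End D) => (K : Set (AddMonoid.End D)))
      SetLike.coe_injective
  obtain ⟨K, hK, hmax⟩ := Set.Finite.exists_maximal (Set.toFinite {K | Good K})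
    ⟨_, hgood ∅ (by simp) (by
      intro a ha
      rw [Submonoid.closure_empty, Submonoid.mem_bot] at ha
      exact ⟨1, by rw [ha, R_one]⟩)⟩
  letI : CommRing K := { (inferInstance : Ring K) with
    mul_comm := fun a b => Subtype.ext (hK.2 _ a.2 _ b.2) }
  have hR : ∀ a : K, (a : AddMonoid.End D) = R ((a : AddMonoid.End D) 1) := fun a => by
    obtain ⟨d, hd⟩ := hK.1 _ a.2
    rw [hd]; simp
  haveI : Nontrivial K := ⟨⟨0, 1, fun e => by
    have := congrArg (fun a : K => (a : AddMonoid.End D) 1) e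
    simp at this⟩⟩
  haveI : NoZeroDivisors K := ⟨fun {a b} e => by
    have := congrArg (fun a : K => (a : AddMonoid.End D) 1) e
    simp only [Subring.coe_mul, AddMonoid.End.coe_mul, Function.comp] at this
    rw [hR a, R_apply] at this
    rcases h.hz _ _ this with h0 | h0
    · right; ext1; rw [hR b, h0, R_zero]; rfl
    · left; ext1; rw [hR a, h0, R_zero]; rfl⟩
  haveI : IsDomain K := NoZeroDivisors.to_isDomain _
  letI : Field K := (Finite.isField_of_domain K).toField
  obtain ⟨g, hg⟩ := IsCyclic.exists_monoid_generator (α := Kˣ)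
  have hgen : ∀ k : K, k ≠ 0 → ∃ n, k = (g : K) ^ n := fun k hk => by
    obtain ⟨n, hn⟩ := hg (Units.mk0 k hk)
    exact ⟨n, by simpa using (congrArg Units.val hn).symm⟩
  refine ⟨K, inferInstance, fun a => (a : AddMonoid.End D) 1, g, fun a b => rfl, rfl,
    fun a b => by rw [← hR, ← hR, ← hR]; rfl, hgen, fun y hy => ?_⟩
  rw [← hR] at hy
  have hc : ∀ k ∈ K, Commute k (R y) := fun k hk => by
    by_cases h0 : (⟨k, hk⟩ : K) = 0
    · have : k = 0 := congrArg Subtype.val h0
      rw [this]; exact Commute.zero_left _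
    obtain ⟨n, hn⟩ := hgen _ h0
    have : k = ((g : K) : AddMonoid.End D) ^ n := congrArg Subtype.val hn
    rw [this]; exact hy.pow_left n
  have hmem : ∀ (k : K) (i : ℕ), ∃ d, (k : AddMonoid.End D) * R y ^ i = R d := by
    intro k i
    by_cases h2 : (2 : K) = 0
    · haveI : CharP K 2 := CharTwo.of_one_ne_zero_of_two_eq_zero one_ne_zero h2
      obtain ⟨r, hr⟩ := (Finite.injective_iff_surjective.1 (frobenius K 2).injective) k
      refine ⟨(r.1 1 * pw y i) * r.1 1, ?_⟩
      rw [h.RRR, ← hR, h.R_pw, mul_assoc, ← ((hc r r.2).pow_right i).eq, ← mul_assoc, ← hr]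
      simp [frobenius_def, pow_two]
    · refine ⟨(k / 2 : K).1 1 * pw y i + pw y i * (k / 2 : K).1 1, ?_⟩
      rw [h.RR, ← hR, h.R_pw, ← ((hc _ (k / 2 : K).2).pow_right i).eq, ← add_mul,
        ← Subring.coe_add]
      congr 2
      field_simp; ring
  have hg2 := hgood (insert (R y) K) (by
    rintro a (rfl | ha) b (rfl | hb)
    · rfl
    · exact (hc b hb).symm.eq
    · exact (hc a ha).eq
    · exact hK.2 a ha b hb) (by
    intro a ha
    have : ∃ (k : K) (i : ℕ), a = (k : AddMonoid.End D) * R y ^ i := by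
      induction ha using Submonoid.closure_induction with
      | mem x hx =>
        rcases hx with rfl | hx
        · exact ⟨1, 1, by simp⟩
        · exact ⟨⟨x, hx⟩, 0, by simp⟩
      | one => exact ⟨1, 0, by simp⟩
      | mul x z _ _ hx hz =>
        obtain ⟨k, i, rfl⟩ := hx
        obtain ⟨l, n, rfl⟩ := hz
        refine ⟨k * l, i + n, ?_⟩
        rw [mul_assoc, ← mul_assoc (R y ^ i), ← ((hc l l.2).pow_right i).eq, pow_add]
        simp [mul_assoc]
    obtain ⟨k, i, rfl⟩ := this
    exact hmem k i)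
  have hle : K ≤ Subring.closure (insert (R y) K) := fun x hx =>
    Subring.subset_closure (Set.mem_insert_of_mem _ hx)
  have := hmax hg2 hle (Subring.subset_closure (Set.mem_insert _ _))
  exact ⟨⟨R y, this⟩, by simp⟩

/-- Artin–Zorn -/
theorem Alt.assoc [Finite D] (h : Alt D) (a b c : D) : a * b * c = a * (b * c) := by
  rcases subsingleton_or_nontrivial D with _ | _
  · exact Subsingleton.elim _ _
  obtain ⟨K, _, ι, g, m⟩ := exists_maxF h
  haveI : Finite (AddMonoid.End D) :=
    Finite.of_injective (fun f : AddMonoid.End D => (f : D → D)) DFunLike.coe_injective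
  obtain ⟨k, rfl⟩ := m.surj h b
  obtain ⟨l, rfl⟩ := m.surj h c
  rw [← m.mul_ap, m.mul']

end Alt

theorem moufang_of {D : Type*} [AddCommGroup D] [Finite D] (M : D →+ AddMonoid.End D) (e : D)
    (he : M e = 1) (S : AddSubgroup (AddMonoid.End D))
    (h1 : ∀ d, d ≠ 0 → ∃ f ∈ S, f * M d = 1) (h2 : ∀ f ∈ S, f ≠ 0 → ∃ d, f * M d = 1)
    (a b : D) : ∃ d, M a * M b * M a = M d := by
  haveI : Finite (AddMonoid.End D) :=
    Finite.of_injective (fun f : AddMonoid.End D => (f : D → D)) DFunLike.coe_injective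
  have := inv_mem (S := M.range) (S' := S) ⟨e, he⟩ (by
    rintro _ ⟨d, rfl⟩ hd
    obtain ⟨f, hf, e⟩ := h1 d (fun h => hd (by rw [h, map_zero]))
    exact ⟨f, hf, mul_eq_one_comm.1 e, e⟩) (by
    intro f hf hf0
    obtain ⟨d, e⟩ := h2 f hf hf0
    exact ⟨_, ⟨d, rfl⟩, mul_eq_one_comm.1 e, e⟩)
  obtain ⟨d, hd⟩ := hua this (A := M a) (B := M b) ⟨a, rfl⟩ ⟨b, rfl⟩
  exact ⟨d, hd.symm⟩

/-- Artin–Zorn for a finite presemifield with both inverse properties. -/
theorem presemifield {A B C : Type*} [AddCommGroup A] [AddCommGroup B] [AddCommGroup C] [Finite C]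
    (μ : A →+ B →+ C) (hA : ∀ a, a ≠ 0 → Function.Bijective (μ a))
    (hB : ∀ b, b ≠ 0 → Function.Bijective (μ.flip b))
    (S : AddSubgroup (C →+ A)) (s1 : ∀ b, b ≠ 0 → ∃ f ∈ S, ∀ a, f (μ a b) = a)
    (s2 : ∀ f ∈ S, f ≠ 0 → ∃ b, ∀ a, f (μ a b) = a)
    (T : AddSubgroup (C →+ B)) (t1 : ∀ a, a ≠ 0 → ∃ f ∈ T, ∀ b, f (μ a b) = b)
    (t2 : ∀ f ∈ T, f ≠ 0 → ∃ a, ∀ b, f (μ a b) = b)
    {a0 : A} (ha0 : a0 ≠ 0) (a1 a2 : A) :
    ∃ a3, ∀ b b', μ a0 b' = μ a2 b → μ a1 b' = μ a3 b := by
  rcases subsingleton_or_nontrivial B with _ | _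
  · exact ⟨0, fun b b' _ => by rw [Subsingleton.elim b' 0]; simp⟩
  obtain ⟨b0, hb0⟩ := exists_ne (0 : B)
  let α : A ≃+ C := AddEquiv.ofBijective (μ.flip b0) (hB b0 hb0)
  let β : B ≃+ C := AddEquiv.ofBijective (μ a0) (hA a0 ha0)
  have hα : ∀ a, α.symm (μ a b0) = a := fun a => α.symm_apply_apply a
  have hβ : ∀ b, β.symm (μ a0 b) = b := fun b => β.symm_apply_apply b
  have hα' : ∀ c, μ (α.symm c) b0 = c := fun c => α.apply_symm_apply c
  have hβ' : ∀ c, μ a0 (β.symm c) = c := fun c => β.apply_symm_apply c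
  letI : NonAssocRing C := { ‹AddCommGroup C› with
    mul := fun c d => μ (α.symm c) (β.symm d)
    one := μ a0 b0
    left_distrib := fun a b c => by
      change μ _ (β.symm (b + c)) = μ _ _ + μ _ _
      rw [map_add, map_add]
    right_distrib := fun a b c => by
      change μ (α.symm (a + b)) _ = μ _ _ + μ _ _
      rw [map_add, map_add, AddMonoidHom.add_apply]
    zero_mul := fun a => by
      change μ (α.symm 0) _ = 0
      simp
    mul_zero := fun a => by
      change μ _ (β.symm 0) = 0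
      simp
    one_mul := fun a => by
      change μ (α.symm (μ a0 b0)) _ = _
      rw [hα, hβ']
    mul_one := fun a => by
      change μ _ (β.symm (μ a0 b0)) = _
      rw [hβ, hα'] }
  have hm : ∀ c d : C, c * d = μ (α.symm c) (β.symm d) := fun _ _ => rfl
  have alt : Alt C := by
    refine ⟨fun a b h => ?_, fun x a b => ?_, fun x a b => ?_⟩
    · by_contra hc
      push Not at hc
      have := (hA (α.symm a) (fun h0 => hc.1 (by rw [← hα' a, h0]; simp))).1
        (a₁ := β.symm b) (a₂ := 0) (by rw [← hm, h, map_zero])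
      exact hc.2 (by rw [← hβ' b, this]; simp)
    · obtain ⟨d, hd⟩ := moufang_of AddMonoid.End.mulRight (1 : C) R_one
        (S.map (AddMonoidHom.compHom (μ.flip b0))) (by
          intro d hd
          obtain ⟨f, hf, e⟩ := s1 (β.symm d) (fun h0 => hd (by rw [← hβ' d, h0]; simp))
          refine ⟨_, ⟨f, hf, rfl⟩, ?_⟩
          ext c
          change μ (f (μ _ _)) b0 = c
          rw [e, hα']) (by
          rintro _ ⟨f, hf, rfl⟩ h0
          obtain ⟨b, e⟩ := s2 f hf (by rintro rfl; exact h0 (map_zero _))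
          refine ⟨μ a0 b, ?_⟩
          ext c
          change μ (f (μ _ (β.symm (μ a0 b)))) b0 = c
          rw [hβ, e, hα']) a b
      have h1 : a * b * a = d := by
        have : 1 * a * b * a = 1 * d := congrArg (fun f : AddMonoid.End C => f 1) hd
        simpa using this
      rw [h1]
      exact congrArg (fun f : AddMonoid.End C => f x) hd
    · obtain ⟨d, hd⟩ := moufang_of AddMonoid.End.mulLeft (1 : C) L_one
        (T.map (AddMonoidHom.compHom (μ a0))) (by
          intro d hd
          obtain ⟨f, hf, e⟩ := t1 (α.symm d) (fun h0 => hd (by rw [← hα' d, h0]; simp))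
          refine ⟨_, ⟨f, hf, rfl⟩, ?_⟩
          ext c
          change μ a0 (f (μ _ _)) = c
          rw [e, hβ']) (by
          rintro _ ⟨f, hf, rfl⟩ h0
          obtain ⟨b, e⟩ := t2 f hf (by rintro rfl; exact h0 (map_zero _))
          refine ⟨μ b b0, ?_⟩
          ext c
          change μ a0 (f (μ (α.symm (μ b b0)) _)) = c
          rw [hα, e, hβ']) a b
      have h1 : a * (b * a) = d := by
        have : a * (b * (a * 1)) = d * 1 := congrArg (fun f : AddMonoid.End C => f 1) hd
        simpa using this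
      rw [h1]
      exact congrArg (fun f : AddMonoid.End C => f x) hd
  refine ⟨α.symm (μ a1 b0 * μ a2 b0), fun b b' e => ?_⟩
  have := alt.assoc (μ a1 b0) (μ a2 b0) (μ a0 b)
  rw [hm _ (μ a0 b), hm (μ a2 b0) (μ a0 b), hβ, hα, ← e, hm (μ a1 b0) (μ a0 b'), hα, hβ] at this
  exact this.symm

end H05.AZ
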