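import Mathlib
import Cfsg.Agent.H01.Basic
import Cfsg.Agent.BG.Api2

/-! O'Nan's characterisation of `L_n(q)`, part 1: a doubly transitive group with an abelian
non-semiregular normal subgroup `N x` of the point stabilisers; the lines and hyperplanes. -/

set_option autoImplicit false

namespace H05

open MulAction Subgroup
open scoped Pointwise

variable {G X : Type*} [Group G] [MulAction G X]

theorem ne_smul_of {g : G} {x y : X} (hg : g • x = x) (hxy : x ≠ y) : x ≠ g • y := fun e =>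
  hxy (smul_left_cancel g (hg.trans e))

/-- O'Nan configuration -/
structure ON (p : ℕ) (N : X → Subgroup G) : Prop where
  prime : p.Prime
  two : ∀ a b c d : X, a ≠ b → c ≠ d → ∃ g : G, g • a = c ∧ g • b = d
  conj : ∀ (g : G) x n, n ∈ N x → g * n * g⁻¹ ∈ N (g • x)
  fix : ∀ x, ∀ n ∈ N x, n • x = x
  comm : ∀ x, ∀ a ∈ N x, ∀ b ∈ N x, a * b = b * a
  pg : ∀ x, IsPGroup p (N x)
  ne : ∀ x y, x ≠ y → ∃ n ∈ N x, n ≠ 1 ∧ n • y = y
  faith : ∀ g : G, (∀ x : X, g • x = x) → g = 1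

namespace ON

/-- two point stabiliser in `N x` -/
def K (N : X → Subgroup G) (x y : X) : Subgroup G := N x ⊓ stabilizer G y
/-- three point stabiliser in `N x` -/
def D (N : X → Subgroup G) (x y z : X) : Subgroup G := N x ⊓ stabilizer G y ⊓ stabilizer G z
/-- auxiliary line group -/
def V (N : X → Subgroup G) (x y : X) : Subgroup G := K N x y ⊔ K N y x
/-- collinearity: `z` lies on the line through `x ≠ y` -/
def Col (N : X → Subgroup G) (x y z : X) : Prop := ∀ n ∈ N x, n • y = y → n • z = z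

variable {N : X → Subgroup G}
theorem mem_K {x y : X} {g : G} : g ∈ K N x y ↔ g ∈ N x ∧ g • y = y := Iff.rfl
theorem K_le (x y : X) : K N x y ≤ N x := inf_le_left
theorem D_le (x y z : X) : D N x y z ≤ N x := fun _ hg => hg.1.1
theorem mem_D {x y z : X} {g : G} : g ∈ D N x y z ↔ (g ∈ N x ∧ g • y = y) ∧ g • z = z := Iff.rfl

variable {p : ℕ} (h : ON p N)
include h

theorem N_smul (g : G) (x : X) : N (g • x) = MulAut.conj g • N x := by
  ext n
  rw [H01.mem_conj_smul_iff]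
  constructor
  · intro hn; simpa using h.conj g⁻¹ _ _ hn
  · intro hn; simpa [mul_assoc] using h.conj g _ _ hn

theorem K_smul (g : G) (x y : X) : K N (g • x) (g • y) = MulAut.conj g • K N x y := by
  ext n
  rw [H01.mem_conj_smul_iff, mem_K, mem_K, h.N_smul, H01.mem_conj_smul_iff]
  simp [mul_smul, inv_smul_eq_iff]

theorem V_smul (g : G) (x y : X) : V N (g • x) (g • y) = MulAut.conj g • V N x y := by
  rw [V, V, h.K_smul, h.K_smul, Subgroup.smul_sup]

theorem card_eq (Φ : X → X → Subgroup G) (hΦ : ∀ (g : G) x y, Φ (g • x) (g • y) = MulAut.conj g • Φ x y)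
    {a b c d : X} (hab : a ≠ b) (hcd : c ≠ d) : Nat.card (Φ a b) = Nat.card (Φ c d) := by
  obtain ⟨g, rfl, rfl⟩ := h.two a b c d hab hcd
  rw [hΦ, H01.card_conj_smul]

theorem card_K {a b c d : X} (hab : a ≠ b) (hcd : c ≠ d) :
    Nat.card (K N a b) = Nat.card (K N c d) := h.card_eq _ h.K_smul hab hcd

theorem card_N {a b : X} (hab : a ≠ b) : Nat.card (N a) = Nat.card (N b) := by
  obtain ⟨g, h1, -⟩ := h.two a b b a hab hab.symm
  rw [← h1, h.N_smul, H01.card_conj_smul]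

theorem conj' {g n : G} {x : X} (hg : g • x = x) (hn : n ∈ N x) : g * n * g⁻¹ ∈ N x := by
  have := h.conj g x n hn
  rwa [hg] at this

variable [Finite G]

theorem disj {x y : X} (hxy : x ≠ y) {d : G} (hx : d ∈ N x) (hy : d ∈ N y) : d = 1 := by
  have key : ∀ {a b c e : X}, a ≠ b → c ≠ e → N a ⊓ N b ≤ N c ⊓ N e → N a ⊓ N b = N c ⊓ N e :=
    fun hab hce hle => Subgroup.eq_of_le_of_card_ge hle (h.card_eq (fun a b => N a ⊓ N b)
      (fun g a b => by rw [h.N_smul, h.N_smul, Subgroup.smul_inf]) hce hab).le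
  apply h.faith
  intro z
  by_contra hz
  have hzx : z ≠ x := by rintro rfl; exact hz (h.fix _ _ hx)
  have hzy : z ≠ y := by rintro rfl; exact hz (h.fix _ _ hy)
  have aux : ∀ w, z ≠ w → d ∈ N w → N w ⊓ N z = N z ⊓ N (d • z) := fun w hw hd =>
    key hw.symm (Ne.symm hz) fun n hn => ⟨hn.2, by
      have := h.conj d z n hn.2
      rwa [h.comm w d hd n hn.1, mul_inv_cancel_right] at this⟩
  have e1 : N y ⊓ N z = N x ⊓ N z := (aux y hzy hy).trans (aux x hzx hx).symm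
  have e2 : N y ⊓ N z = N x ⊓ N y := key hzy.symm hxy fun n hn => ⟨(e1 ▸ hn).1, hn.1⟩
  have : d ∈ N y ⊓ N z := e2 ▸ ⟨hx, hy⟩
  exact hz (h.fix _ _ this.2)

theorem center_fix {y : X} {l g : G} (hl : l ∈ N y) (h1 : l ≠ 1) (hc : g * l = l * g) : g • y = y := by
  by_contra hne
  have := h.conj g y l hl
  rw [hc, mul_inv_cancel_right] at this
  exact h1 (h.disj hne this hl)

theorem KK_comm {x y : X} (hxy : x ≠ y) {k l : G} (hk : k ∈ K N x y) (hl : l ∈ K N y x) :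
    k * l = l * k := by
  have : k * l * k⁻¹ * l⁻¹ = 1 := h.disj hxy
    (by simpa [mul_assoc] using (N x).mul_mem hk.1 (h.conj' hl.2 ((N x).inv_mem hk.1)))
    ((N y).mul_mem (h.conj' hk.2 hl.1) ((N y).inv_mem hl.1))
  calc k * l = (k * l * k⁻¹ * l⁻¹) * (l * k) := by group
    _ = l * k := by rw [this, one_mul]

theorem K_fix {x y : X} {k n : G} (hk : k ∈ K N x y) (hn : n ∈ N x) : k • n • y = n • y := by
  rw [← mul_smul, h.comm x k hk.1 n hn, mul_smul, hk.2]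

theorem K_ne_bot {x y : X} (hxy : x ≠ y) : K N x y ≠ ⊥ := by
  obtain ⟨n, hn, h1, h2⟩ := h.ne x y hxy
  intro hb
  have : n ∈ K N x y := ⟨hn, h2⟩
  rw [hb] at this
  exact h1 this

theorem F3 {x y : X} (hxy : x ≠ y) {n l : G} (hn : n ∈ N x) (hl : l ∈ K N y x) :
    l • n • y = n • y := by
  by_cases hy : n • y = y
  · rw [hy]; exact h.fix _ _ hl.1
  have hnorm : K N x y ≤ normalizer (K N y (n • y) : Set G) := by
    intro k hk
    rw [← H01.conj_smul_eq_iff_mem_normalizer, ← h.K_smul, hk.2, h.K_fix hk hn]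
  have := BG.pg_fix_ne_bot h.prime ((h.pg x).to_inf_left) ((h.pg y).to_inf_left) hnorm
    (h.K_ne_bot (Ne.symm hy))
  obtain ⟨⟨a, ha, hac⟩, ha1⟩ := (Subgroup.ne_bot_iff_exists_ne_one).1 this
  have ha1 : a ≠ 1 := fun e => ha1 (Subtype.ext e)
  obtain ⟨k, hk, hk1, hk2⟩ := h.ne x y hxy
  have hax : a • x = x := h.center_fix hk hk1 (hac k ⟨hk, hk2⟩).symm
  have hal : a * l = l * a := h.comm y a ha.1 l hl.1
  -- a n a⁻¹ = n k₁
  have hk₁ : n⁻¹ * (a * n * a⁻¹) ∈ K N x y := by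
    refine ⟨(N x).mul_mem ((N x).inv_mem hn) (h.conj' hax hn), ?_⟩
    have h2 : a • n • y = n • y := ha.2
    have h3 : a⁻¹ • y = y := by rw [inv_smul_eq_iff, h.fix _ _ ha.1]
    simp [mul_smul, h3, h2]
  have c1 := h.KK_comm hxy hk₁ hl
  have hn' : l * n * l⁻¹ ∈ N x := h.conj' hl.2 hn
  have c2 : (n⁻¹ * (l * n * l⁻¹)) * a = a * (n⁻¹ * (l * n * l⁻¹)) := by
    set k₁ := n⁻¹ * (a * n * a⁻¹) with hk₁def
    have e1 : a * n = n * k₁ * a := by rw [hk₁def]; group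
    have e2 : a * (l * n * l⁻¹) = (l * n * l⁻¹) * k₁ * a := by
      calc a * (l * n * l⁻¹) = (a * l) * n * l⁻¹ := by group
        _ = l * (a * n) * l⁻¹ := by rw [hal]; group
        _ = l * n * k₁ * (a * l⁻¹) := by rw [e1]; group
        _ = l * n * (k₁ * l⁻¹) * a := by
          rw [show a * l⁻¹ = l⁻¹ * a by
            calc a * l⁻¹ = l⁻¹ * (l * a) * l⁻¹ := by group
              _ = l⁻¹ * a := by rw [← hal]; group]; group
        _ = _ := by
          rw [show k₁ * l⁻¹ = l⁻¹ * k₁ by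
            calc k₁ * l⁻¹ = l⁻¹ * (l * k₁) * l⁻¹ := by group
              _ = l⁻¹ * k₁ := by rw [← c1]; group]; group
    have e3 : a * n⁻¹ = k₁⁻¹ * n⁻¹ * (a * n * a⁻¹) * a * n⁻¹ := by rw [hk₁def]; group
    have e4 : a * n⁻¹ = n⁻¹ * k₁⁻¹ * a := by
      calc a * n⁻¹ = (n * k₁)⁻¹ * (n * k₁ * a) * n⁻¹ := by group
        _ = (n * k₁)⁻¹ * a := by rw [← e1]; group
        _ = _ := by rw [h.comm x n hn k₁ hk₁.1]; group
    calc (n⁻¹ * (l * n * l⁻¹)) * a = n⁻¹ * k₁⁻¹ * (k₁ * (l * n * l⁻¹)) * a := by group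
      _ = n⁻¹ * k₁⁻¹ * ((l * n * l⁻¹) * k₁ * a) := by rw [h.comm x k₁ hk₁.1 _ hn']; group
      _ = n⁻¹ * k₁⁻¹ * a * (l * n * l⁻¹) := by rw [← e2]; group
      _ = _ := by rw [← e4]; group
  have := h.center_fix ha.1 ha1 c2
  have h3 : l⁻¹ • y = y := by rw [inv_smul_eq_iff, h.fix _ _ hl.1]
  simpa [mul_smul, h3, inv_smul_eq_iff] using this

theorem cm_mem {x y : X} (hxy : x ≠ y) {n l : G} (hn : n ∈ N x) (hl : l ∈ K N y x) :
    n * l * n⁻¹ * l⁻¹ ∈ K N x y := by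
  refine ⟨by simpa [mul_assoc] using (N x).mul_mem hn (h.conj' hl.2 ((N x).inv_mem hn)), ?_⟩
  have h3 : l⁻¹ • y = y := by rw [inv_smul_eq_iff, h.fix _ _ hl.1]
  change _ • y = y
  simp [mul_smul, h3, h.F3 hxy ((N x).inv_mem hn) hl]

theorem cm_inj {y : X} {n l l' : G} (hny : n • y ≠ y) (hl : l ∈ N y) (hl' : l' ∈ N y)
    (e : n * l * n⁻¹ * l⁻¹ = n * l' * n⁻¹ * l'⁻¹) : l = l' := by
  by_contra hne
  apply hny
  refine h.center_fix ((N y).mul_mem ((N y).inv_mem hl') hl) (fun e => hne ?_) ?_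
  · exact (inv_mul_eq_one.1 e).symm
  · calc n * (l'⁻¹ * l) = (n * l' * n⁻¹ * l'⁻¹ * l')⁻¹ * (n * l * n⁻¹ * l⁻¹) * l * n := by group
      _ = (n * l' * n⁻¹ * l'⁻¹ * l')⁻¹ * (n * l' * n⁻¹ * l'⁻¹) * l * n := by rw [e]
      _ = _ := by group

theorem cm_surj' {y : X} {n : G} (hny : n • y ≠ y) {A B : Subgroup G} (hA : A ≤ N y)
    (hAB : ∀ l ∈ A, n * l * n⁻¹ * l⁻¹ ∈ B) (hc : Nat.card B ≤ Nat.card A) {k : G} (hk : k ∈ B) :
    ∃ l ∈ A, n * l * n⁻¹ * l⁻¹ = k := by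
  let f : A → B := fun l => ⟨_, hAB l l.2⟩
  have hf : Function.Injective f := fun l l' e =>
    Subtype.ext (h.cm_inj hny (hA l.2) (hA l'.2) (congrArg Subtype.val e))
  obtain ⟨l, hl⟩ := (hf.bijective_of_nat_card_le hc).2 ⟨k, hk⟩
  exact ⟨l, l.2, congrArg Subtype.val hl⟩

theorem cm_surj {x y : X} (hxy : x ≠ y) {n : G} (hn : n ∈ N x) (hny : n • y ≠ y) {k : G}
    (hk : k ∈ K N x y) : ∃ l ∈ K N y x, n * l * n⁻¹ * l⁻¹ = k :=
  h.cm_surj' hny inf_le_left (fun _ hl => h.cm_mem hxy hn hl) (h.card_K hxy hxy.symm).le hk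

theorem K_eq {a b c : X} (hab : a ≠ b) (hac : a ≠ c) (hc : Col N a b c) : K N a b = K N a c :=
  Subgroup.eq_of_le_of_card_ge (fun n hn => ⟨hn.1, hc n hn.1 hn.2⟩) (h.card_K hac hab).le

theorem exists_move {x y : X} (hxy : x ≠ y) : ∃ n ∈ N x, n • y ≠ y := by
  by_contra hc
  push Not at hc
  obtain ⟨n, hn, h1, -⟩ := h.ne x y hxy
  apply h1
  apply h.faith
  intro z
  by_cases hz : x = z
  · rw [← hz]; exact h.fix _ _ hn
  obtain ⟨g, hg1, hg2⟩ := h.two x z x y hz hxy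
  have := hc _ (h.conj' hg1 hn)
  rw [← hg2] at this
  simpa [mul_smul] using this

theorem V_fix {x y : X} : V N x y ≤ stabilizer G x ⊓ stabilizer G y :=
  sup_le (fun n hn => ⟨h.fix _ _ hn.1, hn.2⟩) (fun n hn => ⟨hn.2, h.fix _ _ hn.1⟩)

omit h [Finite G] in
theorem V_comm (x y : X) : V N x y = V N y x := sup_comm _ _

theorem V_eq {a b a' b' : X} (hab : a ≠ b) (ha : a ≠ a') (hb : b ≠ b') (e : V N a a' = V N b b') :
    V N a b = V N a a' := by
  refine Subgroup.eq_of_le_of_card_ge (sup_le ?_ ?_) (h.card_eq _ h.V_smul ha hab).le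
  · rw [← h.K_eq ha hab fun n hn h2 => by
      have : n ∈ V N a a' := (le_sup_left : K N a a' ≤ _) ⟨hn, h2⟩
      rw [e] at this
      exact (h.V_fix this).1]
    exact le_sup_left
  · rw [e, ← h.K_eq hb hab.symm fun n hn h2 => by
      have : n ∈ V N b b' := (le_sup_left : K N b b' ≤ _) ⟨hn, h2⟩
      rw [← e] at this
      exact (h.V_fix this).1]
    exact le_sup_left

theorem V_N {x y : X} (hxy : x ≠ y) {n : G} (hn : n ∈ N x) : V N x (n • y) = V N x y := by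
  have hne : x ≠ n • y := ne_smul_of (h.fix _ _ hn) hxy
  refine Subgroup.eq_of_le_of_card_ge (sup_le ?_ ?_) (h.card_eq _ h.V_smul hxy hne).le
  · rw [← h.K_eq hxy hne fun k hk h2 => h.K_fix ⟨hk, h2⟩ hn]
    exact le_sup_left
  · intro g hg
    have e : K N (n • y) x = MulAut.conj n • K N y x := by rw [← h.K_smul, h.fix _ _ hn]
    rw [e, H01.mem_conj_smul_iff] at hg
    have : g = (n * (n⁻¹ * g * n) * n⁻¹ * (n⁻¹ * g * n)⁻¹) * (n⁻¹ * g * n) := by group
    rw [this]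
    exact mul_mem ((le_sup_left : K N x y ≤ V N x y) (h.cm_mem hxy hn hg))
      ((le_sup_right : K N y x ≤ V N x y) hg)

theorem fixV {x y w : X} (hxy : x ≠ y) (hxw : x ≠ w) (hw : V N x w ≠ V N x y) {l n : G}
    (hl : l ∈ D N y x w) (hn : n ∈ N x) : l • n • w = n • w := by
  by_contra hne
  set w' := n • w with hw'
  have hxw' : x ≠ w' := ne_smul_of (h.fix _ _ hn) hxw
  have e1 : V N x w' = V N x w := h.V_N hxw hn
  have hyw' : y ≠ w' := fun e => hw (by rw [← e1, ← e])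
  have e2 : V N x (l • w') = V N x w' := by
    have := h.V_smul l x w'
    rw [hl.1.2, e1, ← h.V_smul, hl.1.2, hl.2] at this
    rw [this, e1]
  have e3 : V N y (l • w') = V N y w' := h.V_N hyw' hl.1.1
  have hx2 : l • w' ≠ x := (ne_smul_of hl.1.2 hxw').symm
  have hy2 : l • w' ≠ y := (ne_smul_of (h.fix _ _ hl.1.1) hyw').symm
  have f1 : V N w' (l • w') = V N w' x :=
    h.V_eq (Ne.symm hne) hxw'.symm hx2 (by rw [V_comm w', V_comm (l • w'), e2])
  have f2 : V N w' (l • w') = V N w' y :=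
    h.V_eq (Ne.symm hne) hyw'.symm hy2 (by rw [V_comm w', V_comm (l • w'), e3])
  have f3 : V N x y = V N x w' :=
    h.V_eq hxy hxw' hyw' (by rw [V_comm x, V_comm y, ← f1, f2])
  exact hw (by rw [f3, e1])

omit h [Finite G] in
theorem col_right (x y : X) : Col N x y y := fun _ _ e => e
omit [Finite G] in
theorem col_left (x y : X) : Col N x y x := fun _ hn _ => h.fix _ _ hn

theorem V_ne {x y w : X} (hw : ¬ Col N x y w) : V N x w ≠ V N x y := fun e => hw fun n hn h2 => by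
  have : n ∈ V N x y := (le_sup_left : K N x y ≤ _) ⟨hn, h2⟩
  rw [← e] at this
  exact (h.V_fix this).2

theorem cm_D {x y w : X} (hxy : x ≠ y) (hxw : x ≠ w) (hw : V N x w ≠ V N x y) {l n : G}
    (hl : l ∈ D N y x w) (hn : n ∈ N x) : n * l * n⁻¹ * l⁻¹ ∈ D N x y w := by
  refine ⟨h.cm_mem hxy hn hl.1, ?_⟩
  have h3 : l⁻¹ • w = w := by rw [inv_smul_eq_iff, hl.2]
  change _ • w = w
  simp [mul_smul, h3, h.fixV hxy hxw hw hl ((N x).inv_mem hn)]

theorem card_D_le {x y w : X} (hxy : x ≠ y) (hxw : x ≠ w) (hw : V N x w ≠ V N x y) :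
    Nat.card (D N y x w) ≤ Nat.card (D N x y w) := by
  obtain ⟨n, hn, hny⟩ := h.exists_move hxy
  exact Nat.card_le_card_of_injective (fun l : D N y x w => (⟨_, h.cm_D hxy hxw hw l.2 hn⟩ : D N x y w))
    fun l l' e => Subtype.ext (h.cm_inj hny l.2.1.1 l'.2.1.1 (congrArg Subtype.val e))

theorem card_D {x y w : X} (hxy : x ≠ y) (hw : ¬ Col N x y w) :
    Nat.card (D N y x w) = Nat.card (D N x y w) := by
  have hxw : x ≠ w := by rintro rfl; exact hw (h.col_left _ _)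
  have hyw : y ≠ w := by rintro rfl; exact hw (col_right _ _)
  refine le_antisymm (h.card_D_le hxy hxw (h.V_ne hw)) (h.card_D_le hxy.symm hyw fun e => ?_)
  apply h.V_ne hw
  exact h.V_eq hxw hxy hyw.symm (by rw [V_comm w, e, V_comm])

theorem cm_surj_D {x y w : X} (hxy : x ≠ y) (hw : ¬ Col N x y w) {n : G} (hn : n ∈ N x)
    (hny : n • y ≠ y) {k : G} (hk : k ∈ D N x y w) : ∃ l ∈ D N y x w, n * l * n⁻¹ * l⁻¹ = k :=
  h.cm_surj' hny (D_le _ _ _) (fun _ hl => h.cm_D hxy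
    (by rintro rfl; exact hw (h.col_left _ _)) (h.V_ne hw) hl hn) (h.card_D hxy hw).ge hk

theorem card_sup {x : X} {A B : Subgroup G} (hA : A ≤ N x) (hB : B ≤ N x) :
    Nat.card (A ⊔ B : Subgroup G) * Nat.card (A ⊓ B : Subgroup G) = Nat.card A * Nat.card B :=
  H01.card_sup_mul_card_inf' fun a ha => (Subgroup.centralizer_le_normalizer _)
    fun b hb => h.comm x b (hB hb) a (hA ha)

theorem mem_sup' {x : X} {A B : Subgroup G} (hA : A ≤ N x) (hB : B ≤ N x) {g : G} (hg : g ∈ A ⊔ B) :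
    ∃ a ∈ A, ∃ b ∈ B, a * b = g :=
  (H01.mem_sup_of_le_normalizer fun a ha => (Subgroup.centralizer_le_normalizer _)
    fun b hb => h.comm x b (hB hb) a (hA ha)).1 hg

theorem theta {x y : X} (hxy : x ≠ y) {l : G} (hl : l ∈ K N y x) (h1 : l ≠ 1) :
    ∃ C : Subgroup G, C ≤ K N x y ∧ Nat.card C * Nat.card (K N x y) = Nat.card (N x) ∧
      ∀ c ∈ C, ∃ n ∈ N x, n * l * n⁻¹ * l⁻¹ = c := by
  let θ : N x →* G := MonoidHom.mk' (fun n => n * l * n⁻¹ * l⁻¹) fun a b => by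
    have := h.comm x _ (h.cm_mem hxy b.2 hl).1 _ ((N x).inv_mem a.2)
    have h2 := h.KK_comm hxy (h.cm_mem hxy b.2 hl) ((K N y x).inv_mem hl)
    have h3 := h.KK_comm hxy (h.cm_mem hxy b.2 hl) hl
    simp only [Subgroup.coe_mul, Subgroup.coe_inv]
    set c := (b : G) * l * (b : G)⁻¹ * l⁻¹ with hc
    calc (a : G) * b * l * ((a : G) * b)⁻¹ * l⁻¹ = a * (c * l) * (a : G)⁻¹ * l⁻¹ := by rw [hc]; group
      _ = a * l * (c * (a : G)⁻¹) * l⁻¹ := by rw [h3]; group
      _ = a * l * (a : G)⁻¹ * (c * l⁻¹) := by rw [this]; group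
      _ = _ := by rw [h2]; group
  have hker : θ.ker = (K N x y).subgroupOf (N x) := by
    ext n
    rw [MonoidHom.mem_ker, Subgroup.mem_subgroupOf]
    change (n : G) * l * (n : G)⁻¹ * l⁻¹ = 1 ↔ _
    constructor
    · intro e
      refine ⟨n.2, h.center_fix hl.1 h1 ?_⟩
      calc (n : G) * l = (n * l * (n : G)⁻¹ * l⁻¹) * (l * n) := by group
        _ = _ := by rw [e, one_mul]
    · intro hn
      rw [h.KK_comm hxy hn hl]; group
  refine ⟨θ.range, ?_, ?_, ?_⟩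
  · rintro _ ⟨n, rfl⟩; exact h.cm_mem hxy n.2 hl
  · rw [← H01.card_subgroupOf_of_le (K_le x y), ← hker,
      ← Nat.card_congr (QuotientGroup.quotientKerEquivRange θ).toEquiv,
      ← Subgroup.card_eq_card_quotient_mul_card_subgroup]
  · rintro _ ⟨n, rfl⟩; exact ⟨n, n.2, rfl⟩

theorem card_D_mul {x y w : X} (hxy : x ≠ y) (hw : ¬ Col N x y w) :
    Nat.card (N x) * Nat.card (D N x y w) ≤ Nat.card (K N x y) * Nat.card (K N x y) := by
  have hlt : D N x y w < K N x y := lt_of_le_of_ne inf_le_left fun e => hw fun n hn h2 =>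
    (show n ∈ D N x y w from e ▸ ⟨hn, h2⟩).2
  have : ¬ K N y x ≤ D N y x w := fun hle => by
    have h1 := Subgroup.card_le_of_le hle
    have h2 := H01.card_lt_of_lt hlt
    rw [h.card_D hxy hw, h.card_K hxy.symm hxy] at h1
    omega
  obtain ⟨l, hl, hl2⟩ := SetLike.not_le_iff_exists.1 this
  obtain ⟨C, hC, hc, hC2⟩ := h.theta hxy hl (fun e => hl2 (e ▸ one_mem _))
  have hd : C ⊓ D N x y w = ⊥ := by
    rw [eq_bot_iff]
    rintro c ⟨hc1, hc2⟩
    obtain ⟨n, hn, rfl⟩ := hC2 c hc1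
    by_cases hny : n • y = y
    · rw [h.KK_comm hxy ⟨hn, hny⟩ hl]; simp
    · obtain ⟨l', hl', e⟩ := h.cm_surj_D hxy hw hn hny hc2
      exact absurd (h.cm_inj hny hl'.1.1 hl.1 e ▸ hl') hl2
  have h3 := h.card_sup (hC.trans (K_le _ _)) (D_le x y w)
  rw [hd, Subgroup.card_bot, mul_one] at h3
  have h4 := Subgroup.card_le_of_le (sup_le hC hlt.le)
  rw [← hc, mul_right_comm, ← h3]
  exact Nat.mul_le_mul_right _ h4

theorem sup_of_card {x y w : X} (hxy : x ≠ y) (hxw : x ≠ w)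
    (hc : Nat.card (N x) * Nat.card (D N x y w) ≤ Nat.card (K N x y) * Nat.card (K N x y)) :
    K N x y ⊔ K N x w = N x := by
  refine Subgroup.eq_of_le_of_card_ge (sup_le inf_le_left inf_le_left) ?_
  have h3 := h.card_sup (K_le x y) (K_le x w)
  have : K N x y ⊓ K N x w = D N x y w := by
    ext; simp only [Subgroup.mem_inf, mem_K, mem_D]; tauto
  rw [this, h.card_K hxw hxy] at h3
  rw [← h3] at hc
  exact Nat.le_of_mul_le_mul_right hc Nat.card_pos

theorem sup_K {x y w : X} (hxy : x ≠ y) (hw : ¬ Col N x y w) : K N x y ⊔ K N x w = N x :=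
  h.sup_of_card hxy (by rintro rfl; exact hw (h.col_left _ _)) (h.card_D_mul hxy hw)

theorem col_symm {x y w : X} (hxy : x ≠ y) (hw : Col N y x w) : Col N x y w := by
  by_contra hc
  have hyw : y ≠ w := by rintro rfl; exact hc (col_right _ _)
  have h1 := h.card_D_mul hxy hc
  rw [← h.card_D hxy hc, h.card_N hxy, h.card_K hxy hxy.symm] at h1
  have h2 := h.sup_of_card hxy.symm hyw h1
  rw [← h.K_eq hxy.symm hyw hw, sup_idem] at h2
  obtain ⟨n, hn, hn2⟩ := h.exists_move hxy.symm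
  exact hn2 (h2 ▸ hn : n ∈ K N y x).2

theorem col_swap {x y z : X} (hxy : x ≠ y) (hxz : x ≠ z) (hz : Col N x y z) : Col N x z y :=
  fun n hn h2 => (h.K_eq hxy hxz hz ▸ (⟨hn, h2⟩ : n ∈ K N x z) : n ∈ K N x y).2

omit h [Finite G] in
theorem col_trans {x y z w : X} (hz : Col N x y z) (hw : Col N x z w) : Col N x y w :=
  fun n hn h2 => hw n hn (hz n hn h2)

/-- two distinct points of a line span it -/
theorem col_iff {x y a b : X} (hxy : x ≠ y) (hab : a ≠ b) (ha : Col N x y a) (hb : Col N x y b)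
    (w : X) : Col N a b w ↔ Col N x y w := by
  have k1 : ∀ {x y b : X}, x ≠ y → x ≠ b → Col N x y b → ∀ w, Col N x b w ↔ Col N x y w :=
    fun hxy hxb hb w => ⟨col_trans hb, col_trans (h.col_swap hxy hxb hb)⟩
  have k2 : ∀ {x y : X}, x ≠ y → ∀ w, Col N x y w ↔ Col N y x w :=
    fun hxy w => ⟨h.col_symm hxy.symm, h.col_symm hxy⟩
  by_cases hxa : x = a
  · subst hxa; exact k1 hxy hab hb w
  · rw [← k1 hxy hxa ha, k2 hxa]
    refine k1 (Ne.symm hxa) hab ?_ w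
    rwa [← k2 hxa, k1 hxy hxa ha]

omit [Finite G] in
theorem col_smul (g : G) {x y z : X} (hz : Col N x y z) : Col N (g • x) (g • y) (g • z) := by
  intro n hn h2
  have := hz _ (by simpa using h.conj g⁻¹ _ _ hn) (by simp [mul_smul, h2])
  simpa [mul_smul, inv_smul_eq_iff] using this

theorem col_N {x y z : X} {n : G} (hn : n ∈ N x) (hz : Col N x y z) : Col N x y (n • z) :=
  fun k hk h2 => h.K_fix ⟨hk, hz k hk h2⟩ hn

theorem exists_not_col {x y : X} (hxy : x ≠ y) : ∃ w, ¬ Col N x y w := by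
  by_contra hc
  push Not at hc
  obtain ⟨n, hn, h1, h2⟩ := h.ne x y hxy
  exact h1 (h.faith n fun z => hc z n hn h2)

theorem fix_line {x y w z : X} (hyw : y ≠ w) {g : G} (hg : g ∈ N x) (hy : g • y = y) (hw : g • w = w)
    (hz : Col N y w z) : g • z = z := by
  by_cases hx : Col N y w x
  · by_cases hxy : x = y
    · subst hxy; exact hz g hg hw
    · exact (h.col_iff hyw hxy hx (h.col_left _ _) z).2 hz g hg hy
  have hxy : x ≠ y := by rintro rfl; exact hx (h.col_left _ _)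
  by_cases hzy : y = z
  · rw [← hzy, hy]
  have nc : ∀ t, y ≠ t → Col N y w t → ¬ Col N x y t := fun t ht h1 h2 =>
    hx (col_trans h1 ((h.col_iff hxy ht (col_right _ _) h2 x).2 (h.col_left _ _)))
  obtain ⟨n, hn, hny⟩ := h.exists_move hxy
  obtain ⟨l, hl, rfl⟩ := h.cm_surj_D hxy (nc w hyw (col_right _ _)) hn hny ⟨⟨hg, hy⟩, hw⟩
  exact (h.cm_D hxy (by rintro rfl; exact hx hz) (h.V_ne (nc z hzy hz))
    ⟨hl.1, hz l hl.1.1 hl.2⟩ hn).2

theorem cover {x y w : X} (hyw : y ≠ w) (hx : ¬ Col N y w x) {g : G} (hg : g ∈ N x) (hy : g • y ≠ y) :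
    ∃ l ∈ K N y x, g • l • w = l • w := by
  have hxy : x ≠ y := by rintro rfl; exact hx (h.col_left _ _)
  have hc : ¬ Col N x y w := fun h2 =>
    hx ((h.col_iff hxy hyw (col_right _ _) h2 x).2 (h.col_left _ _))
  obtain ⟨k, hk, k', hk', rfl⟩ := h.mem_sup' inf_le_left inf_le_left ((h.sup_K hxy hc).symm ▸ hg)
  have hk'y : k' • y ≠ y := fun e => hy (by rw [mul_smul, e, hk.2])
  obtain ⟨l, hl, e⟩ := h.cm_surj hxy hk'.1 hk'y ((K N x y).inv_mem hk)
  refine ⟨l, hl, ?_⟩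
  have e2 : k * k' = l * k' * l⁻¹ := by
    have : k = l * k' * l⁻¹ * k'⁻¹ := by rw [← inv_inv k, ← e]; group
    rw [this]; group
  rw [e2]; simp [mul_smul, show k' • w = w from hk'.2]

theorem meet {x y w : X} (hyw : y ≠ w) {g : G} (hg : g ∈ N x) : ∃ z, Col N y w z ∧ g • z = z := by
  by_cases hx : Col N y w x
  · exact ⟨x, hx, h.fix _ _ hg⟩
  by_cases hy : g • y = y
  · exact ⟨y, h.col_left _ _, hy⟩
  obtain ⟨l, hl, e⟩ := h.cover hyw hx hg hy
  exact ⟨_, h.col_N hl.1 (col_right _ _), e⟩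

theorem trans' {x y w z : X} (hyw : y ≠ w) (hx : ¬ Col N y w x) (hyz : y ≠ z) (hz : Col N y w z) :
    ∃ l ∈ K N y x, l • w = z := by
  have hxy : x ≠ y := by rintro rfl; exact hx (h.col_left _ _)
  have hxz : x ≠ z := by rintro rfl; exact hx hz
  have hc : ¬ Col N x z y := fun h2 =>
    hx (col_trans hz ((h.col_iff hxz hyz h2 (col_right _ _) x).2 (h.col_left _ _)))
  simp only [Col, not_forall] at hc
  obtain ⟨g, hg, hgz, hgy⟩ := hc
  obtain ⟨l, hl, e⟩ := h.cover hyw hx hg hgy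
  refine ⟨l, hl, ?_⟩
  by_contra hne
  exact hgy (h.fix_line hne hg e hgz ((h.col_iff hyw hne (h.col_N hl.1 (col_right _ _)) hz y).2
    (h.col_left _ _)))

theorem trans {y w z : X} (hyw : y ≠ w) (hyz : y ≠ z) (hz : Col N y w z) : ∃ n ∈ N y, n • w = z := by
  obtain ⟨x, hx⟩ := h.exists_not_col hyw
  obtain ⟨l, hl, e⟩ := h.trans' hyw hx hyz hz
  exact ⟨l, hl.1, e⟩

end ON

end H05
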