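import Mathlib
import Cfsg.Agent.H05.ONan1
import Cfsg.Agent.H05.AZ

/-! O'Nan's characterisation of `L_n(q)`, part 2: hyperplanes, translation groups and the field. -/

set_option autoImplicit false

namespace H05.ON

open MulAction Subgroup
open scoped Pointwise

variable {G X : Type*} [Group G] [MulAction G X]

/-- hyperplane with full elation groups -/
structure Hyp (N : X → Subgroup G) (A : Set X) : Prop where
  sub : ∀ y ∈ A, ∀ w ∈ A, y ≠ w → ∀ z, Col N y w z → z ∈ A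
  meet : ∀ y w, y ≠ w → ∃ z ∈ A, Col N y w z
  ne : ∃ o, o ∉ A
  full : ∀ x ∈ A, ∀ o ∉ A, ∀ o', Col N x o o' → x ≠ o' →
    ∃ t ∈ N x, (∀ a ∈ A, t • a = a) ∧ t • o = o'

/-- elations with centre `x` and axis `A` -/
def E (N : X → Subgroup G) (x : X) (A : Set X) : Subgroup G := N x ⊓ fixingSubgroup G A

variable {N : X → Subgroup G}
theorem mem_E {x : X} {A : Set X} {g : G} : g ∈ E N x A ↔ g ∈ N x ∧ ∀ a ∈ A, g • a = a := by
  rw [E, Subgroup.mem_inf, mem_fixingSubgroup_iff]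

variable {p : ℕ} (h : ON p N) [Finite G]
include h

theorem semireg' {A : Set X} (hm : ∀ y w, y ≠ w → ∃ z ∈ A, Col N y w z) {x o : X} {g : G}
    (hg : g ∈ E N x A) (ho : o ∉ A) (hgo : g • o = o) : g = 1 := by
  rw [mem_E] at hg
  apply h.faith
  intro z
  by_cases hz : o = z
  · rw [← hz, hgo]
  obtain ⟨a, ha, hc⟩ := hm o z hz
  have hoa : o ≠ a := by rintro rfl; exact ho ha
  exact h.fix_line hoa hg.1 hgo (hg.2 a ha) (h.col_swap hz hoa hc)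

theorem N_mem {A : Set X} (hs : ∀ y ∈ A, ∀ w ∈ A, y ≠ w → ∀ z, Col N y w z → z ∈ A) {x a : X}
    (hx : x ∈ A) (ha : a ∈ A) {n : G} (hn : n ∈ N x) : n • a ∈ A := by
  by_cases e : x = a
  · rw [← e, h.fix _ _ hn]; exact hx
  · exact hs x hx a ha e _ (h.col_N hn (col_right _ _))

theorem cm_E {A : Set X} (hs : ∀ y ∈ A, ∀ w ∈ A, y ≠ w → ∀ z, Col N y w z → z ∈ A) {x y : X}
    (hx : x ∈ A) (hxy : x ≠ y) {l n : G} (hl : l ∈ E N y A) (hn : n ∈ N x) :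
    n * l * n⁻¹ * l⁻¹ ∈ E N x A := by
  have hl' := mem_E.1 hl
  refine mem_E.2 ⟨(h.cm_mem hxy hn ⟨hl'.1, hl'.2 x hx⟩).1, fun a ha => ?_⟩
  have h3 : l⁻¹ • a = a := by rw [inv_smul_eq_iff, hl'.2 a ha]
  simp [mul_smul, h3, hl'.2 _ (h.N_mem hs hx ha ((N x).inv_mem hn))]

theorem theta_E {A : Set X} (hs : ∀ y ∈ A, ∀ w ∈ A, y ≠ w → ∀ z, Col N y w z → z ∈ A)
    (hm : ∀ y w, y ≠ w → ∃ z ∈ A, Col N y w z) {x y o : X}
    (hx : x ∈ A) (hxy : x ≠ y) (ho : o ∉ A) {l : G} (hl : l ∈ E N y A) (h1 : l ≠ 1) {m : G}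
    (hm' : m ∈ N x) : ∃ n ∈ N x, ∃ k ∈ K N x o, n * l * n⁻¹ * l⁻¹ * k = m := by
  have hl' := mem_E.1 hl
  obtain ⟨C, hC, hc, hC2⟩ := h.theta hxy ⟨hl'.1, hl'.2 x hx⟩ h1
  have hxo : x ≠ o := by rintro rfl; exact ho hx
  have hd : C ⊓ K N x o = ⊥ := by
    rw [eq_bot_iff]
    rintro c ⟨hc1, hc2⟩
    obtain ⟨n, hn, rfl⟩ := hC2 c hc1
    exact h.semireg' hm (h.cm_E hs hx hxy hl hn) ho hc2.2
  have h3 := h.card_sup (hC.trans (K_le _ _)) (K_le x o)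
  rw [hd, Subgroup.card_bot, mul_one, h.card_K hxo hxy, hc] at h3
  have h4 : C ⊔ K N x o = N x :=
    Subgroup.eq_of_le_of_card_ge (sup_le (hC.trans (K_le _ _)) (K_le _ _)) h3.ge
  obtain ⟨c, hc1, k, hk, e⟩ := h.mem_sup' (hC.trans (K_le _ _)) (K_le x o) (h4.symm ▸ hm')
  obtain ⟨n, hn, rfl⟩ := hC2 c hc1
  exact ⟨n, hn, k, hk, e⟩

theorem exists_ne_mem {A : Set X} (hm : ∀ y w, y ≠ w → ∃ z ∈ A, Col N y w z) {y o : X}
    (hy : y ∈ A) (ho : o ∉ A) : ∃ a ∈ A, a ≠ y := by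
  have hoy : o ≠ y := by rintro rfl; exact ho hy
  obtain ⟨w, hw⟩ := h.exists_not_col hoy
  have how : o ≠ w := by rintro rfl; exact hw (h.col_left _ _)
  obtain ⟨a, ha, hc⟩ := hm o w how
  exact ⟨a, ha, by rintro rfl; exact hw (h.col_swap how hoy hc)⟩

theorem hyp_fix {y : X} {l : G} (hl : l ∈ N y) (h1 : l ≠ 1) : Hyp N {a | l • a = a} := by
  set A : Set X := {a | l • a = a}
  have hs : ∀ y ∈ A, ∀ w ∈ A, y ≠ w → ∀ z, Col N y w z → z ∈ A :=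
    fun a ha b hb hab z hz => h.fix_line hab hl ha hb hz
  have hm : ∀ y w, y ≠ w → ∃ z ∈ A, Col N y w z := fun a b hab => by
    obtain ⟨z, h1, h2⟩ := h.meet hab hl
    exact ⟨z, h2, h1⟩
  have key : ∀ y l, l ∈ E N y A → l ≠ 1 → ∀ x ∈ A, x ≠ y → ∀ o ∉ A, ∀ o', Col N x o o' → x ≠ o' →
      ∃ t ∈ N x, (∀ a ∈ A, t • a = a) ∧ t • o = o' := by
    intro y l hl h1 x hx hxy o ho o' hc hxo'
    obtain ⟨m, hm', rfl⟩ := h.trans (by rintro rfl; exact ho hx) hxo' hc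
    obtain ⟨n, hn, k, hk, rfl⟩ := h.theta_E hs hm hx hxy ho hl h1 hm'
    have := mem_E.1 (h.cm_E hs hx hxy hl hn)
    exact ⟨_, this.1, this.2, by rw [mul_smul _ k, hk.2]⟩
  have hlE : l ∈ E N y A := mem_E.2 ⟨hl, fun a ha => ha⟩
  refine ⟨hs, hm, ?_, fun x hx o ho o' hc hxo' => ?_⟩
  · by_contra hc
    push Not at hc
    exact h1 (h.faith l hc)
  by_cases hxy : x = y
  · subst hxy
    obtain ⟨a, ha, hax⟩ := h.exists_ne_mem hm hx ho
    have hao : a ≠ o := by rintro rfl; exact ho ha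
    obtain ⟨n, hn, hno⟩ := h.exists_move hao
    obtain ⟨t, ht, ht2, ht3⟩ := key x l hlE h1 a ha hax o ho _ (h.col_N hn (col_right _ _))
      (ne_smul_of (h.fix _ _ hn) hao)
    exact key a t (mem_E.2 ⟨ht, ht2⟩) (by rintro rfl; exact hno (by rw [← ht3, one_smul]))
      x hx hax.symm o ho o' hc hxo'
  · exact key y l hlE h1 x hx hxy o ho o' hc hxo'

theorem E_mul {A : Set X} (hA : Hyp N A) {x y : X} (hx : x ∈ A) (hxy : x ≠ y) {s t : G}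
    (hs : s ∈ E N x A) (ht : t ∈ E N y A) (h1 : t ≠ 1) : ∃ n ∈ N x, n * t * n⁻¹ * t⁻¹ = s := by
  obtain ⟨o, ho⟩ := hA.ne
  obtain ⟨n, hn, k, hk, e⟩ := h.theta_E hA.sub hA.meet hx hxy ho ht h1 (mem_E.1 hs).1
  have h2 := h.cm_E hA.sub hx hxy ht hn
  have : k ∈ E N x A := by
    have : k = (n * t * n⁻¹ * t⁻¹)⁻¹ * s := by rw [← e]; group
    rw [this]; exact mul_mem (inv_mem h2) hs
  rw [h.semireg' hA.meet this ho hk.2, mul_one] at e
  exact ⟨n, hn, e⟩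

theorem E_comm {A B : Set X} {x y : X} (hx : x ∈ B) (hy : y ∈ A) {s t : G}
    (hs : s ∈ E N x A) (ht : t ∈ E N y B) : s * t = t * s := by
  rw [mem_E] at hs ht
  by_cases e : x = y
  · subst e; exact h.comm x s hs.1 t ht.1
  · exact h.KK_comm e ⟨hs.1, hs.2 y hy⟩ ⟨ht.1, ht.2 x hx⟩

theorem E_conj {A : Set X} (hA : Hyp N A) {x y : X} (hx : x ∈ A) {n t : G} (hn : n ∈ N x)
    (ht : t ∈ E N y A) : n * t * n⁻¹ ∈ E N (n • y) A := by
  rw [mem_E] at ht ⊢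
  refine ⟨h.conj _ _ _ ht.1, fun a ha => ?_⟩
  simp [mul_smul, ht.2 _ (h.N_mem hA.sub hx ha ((N x).inv_mem hn))]

theorem card_E {A : Set X} (hA : Hyp N A) {x y : X} (hx : x ∈ A) (hy : y ∈ A) :
    Nat.card (E N x A) = Nat.card (E N y A) := by
  by_cases hxy : x = y
  · rw [hxy]
  obtain ⟨o, ho⟩ := hA.ne
  have key : ∀ x ∈ A, Nat.card (E N x A) * Nat.card (K N x o) = Nat.card (N x) := by
    intro x hx
    have hxo : x ≠ o := by rintro rfl; exact ho hx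
    have h3 := h.card_sup (inf_le_left : E N x A ≤ N x) (K_le x o)
    have hd : N x ⊓ fixingSubgroup G A ⊓ K N x o = ⊥ :=
      eq_bot_iff.2 fun g hg => h.semireg' hA.meet hg.1 ho hg.2.2
    have h4 : N x ⊓ fixingSubgroup G A ⊔ K N x o = N x := by
      refine le_antisymm (sup_le inf_le_left (K_le _ _)) fun n hn => ?_
      obtain ⟨t, ht, ht2, ht3⟩ := hA.full x hx o ho _ (h.col_N hn (col_right _ _))
        (ne_smul_of (h.fix _ _ hn) hxo)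
      have : n = t * (t⁻¹ * n) := by group
      rw [this]
      refine mul_mem (mem_sup_left (mem_E.2 ⟨ht, ht2⟩)) (mem_sup_right ⟨(N x).mul_mem ((N x).inv_mem ht) hn, ?_⟩)
      change _ • o = o
      rw [mul_smul, ← ht3, inv_smul_smul]
    rw [hd, h4, Subgroup.card_bot, mul_one] at h3
    exact h3.symm
  have h1 := key x hx
  rw [h.card_N hxy, ← key y hy, h.card_K (by rintro rfl; exact ho hx : x ≠ o)
    (by rintro rfl; exact ho hy : y ≠ o)] at h1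
  exact Nat.eq_of_mul_eq_mul_right Nat.card_pos h1

/-- elations with axis `A` and centre in `A ∩ B` -/
def TT {A B : Set X} (hA : Hyp N A) (hB : Hyp N B) (hne : (A ∩ B).Nonempty) : Subgroup G where
  carrier := {t | ∃ y ∈ A ∩ B, t ∈ E N y A}
  one_mem' := by obtain ⟨y, hy⟩ := hne; exact ⟨y, hy, one_mem _⟩
  inv_mem' := by rintro t ⟨y, hy, ht⟩; exact ⟨y, hy, inv_mem ht⟩
  mul_mem' := by
    rintro s t ⟨x, hx, hs⟩ ⟨y, hy, ht⟩
    by_cases hxy : x = y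
    · subst hxy; exact ⟨x, hx, mul_mem hs ht⟩
    by_cases h1 : t = 1
    · exact ⟨x, hx, by rwa [h1, mul_one]⟩
    obtain ⟨n, hn, rfl⟩ := h.E_mul hA hx.1 hxy hs ht h1
    refine ⟨n • y, ⟨h.N_mem hA.sub hx.1 hy.1 hn, h.N_mem hB.sub hx.2 hy.2 hn⟩, ?_⟩
    rw [inv_mul_cancel_right]
    exact h.E_conj hA hx.1 hn ht

theorem mem_TT {A B : Set X} (hA : Hyp N A) (hB : Hyp N B) (hne : (A ∩ B).Nonempty) {t : G} :
    t ∈ h.TT hA hB hne ↔ ∃ y ∈ A ∩ B, t ∈ E N y A := Iff.rfl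

section mu
variable {A B : Set X} (hA : Hyp N A) (hB : Hyp N B) {x y : X} (hx : x ∈ A) (hxB : x ∉ B)
  (hy : y ∈ A ∩ B)
include hA hB hx hxB hy

omit hB hx in
theorem mu_mem {s l : G} (hs : s ∈ E N x A) (hl : l ∈ E N y B) : l * s * l⁻¹ * s⁻¹ ∈ E N y A :=
  h.cm_E hA.sub hy.1 (by rintro rfl; exact hxB hy.2) hs (mem_E.1 hl).1

omit hA hx hy in
theorem mu_inj {s l : G} (hs : s ∈ E N x A) (hl : l ∈ E N y B) (h1 : s ≠ 1)
    (e : l * s * l⁻¹ * s⁻¹ = 1) : l = 1 :=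
  h.semireg' hB.meet hl hxB (h.center_fix (mem_E.1 hs).1 h1 (by
    calc l * s = (l * s * l⁻¹ * s⁻¹) * (s * l) := by group
      _ = _ := by rw [e, one_mul]))

omit hx in
theorem mu_surj_l {s c : G} (hs : s ∈ E N x A) (h1 : s ≠ 1) (hc : c ∈ E N y A) :
    ∃ l ∈ E N y B, l * s * l⁻¹ * s⁻¹ = c := by
  have hyx : y ≠ x := by rintro rfl; exact hxB hy.2
  obtain ⟨n, hn, rfl⟩ := h.E_mul hA hy.1 hyx hc hs h1
  obtain ⟨l, hl, hl2, hl3⟩ := hB.full y hy.2 x hxB _ (h.col_N hn (col_right _ _))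
    (ne_smul_of (h.fix _ _ hn) hyx)
  refine ⟨l, mem_E.2 ⟨hl, hl2⟩, ?_⟩
  have hk : l⁻¹ * n ∈ K N y x := ⟨(N y).mul_mem ((N y).inv_mem hl) hn, by
    change _ • x = x
    rw [mul_smul, ← hl3, inv_smul_smul]⟩
  have := h.KK_comm hyx hk ⟨(mem_E.1 hs).1, (mem_E.1 hs).2 y hy.1⟩
  calc l * s * l⁻¹ * s⁻¹ = l * (s * (l⁻¹ * n)) * n⁻¹ * s⁻¹ := by group
    _ = _ := by rw [← this]; group

theorem mu_surj_s {l c : G} (hl : l ∈ E N y B) (h1 : l ≠ 1) (hc : c ∈ E N y A) :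
    ∃ s ∈ E N x A, l * s * l⁻¹ * s⁻¹ = c := by
  let f : E N x A → E N y A := fun s => ⟨_, h.mu_mem hA hxB hy s.2 hl⟩
  have hf : Function.Injective f := fun s s' e => by
    have e' : l * s * l⁻¹ * (s : G)⁻¹ = l * s' * l⁻¹ * (s' : G)⁻¹ := congrArg Subtype.val e
    by_contra hne
    apply h1
    refine h.mu_inj hB hxB (s := (s' : G)⁻¹ * s) (mul_mem (inv_mem s'.2) s.2) hl
      (fun e => hne (Subtype.ext (inv_mul_eq_one.1 e).symm)) ?_
    calc l * ((s' : G)⁻¹ * s) * l⁻¹ * ((s' : G)⁻¹ * s)⁻¹ =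
        (l * s' * l⁻¹)⁻¹ * (l * s * l⁻¹ * (s : G)⁻¹) * s' := by group
      _ = 1 := by rw [e']; group
  obtain ⟨s, hs⟩ := (hf.bijective_of_nat_card_le (h.card_E hA hy.1 hx).le).2 ⟨c, hc⟩
  exact ⟨s, s.2, congrArg Subtype.val hs⟩

omit hB in
theorem pairR {l q s : G} (hl : l ∈ E N y B) (hq : q ∈ N x) (e : l • x = q • y) (hs : s ∈ E N x A) :
    q * (l * s * l⁻¹ * s⁻¹) * q⁻¹ * (l * s * l⁻¹ * s⁻¹)⁻¹ = s := by
  have hyx : y ≠ x := by rintro rfl; exact hxB hy.2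
  have hc := h.mu_mem hA hxB hy hs hl
  set c := l * s * l⁻¹ * s⁻¹ with hcd
  have h1 : l * s * l⁻¹ ∈ N (q • y) := e ▸ h.conj _ _ _ (mem_E.1 hs).1
  have h2 : q * c * q⁻¹ ∈ N (q • y) := h.conj _ _ _ (mem_E.1 hc).1
  have h3 := h.cm_E hA.sub hx hyx.symm hc hq
  have h4 : s⁻¹ * (q * c * q⁻¹ * c⁻¹) = 1 := by
    refine h.disj (ne_smul_of (h.fix _ _ hq) hyx.symm)
      ((N x).mul_mem ((N x).inv_mem (mem_E.1 hs).1) (mem_E.1 h3).1) ?_
    have e1 : s⁻¹ * (q * c * q⁻¹ * c⁻¹) = (l * s * l⁻¹)⁻¹ * (q * c * q⁻¹) := by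
      have := h.E_comm hy.1 hx hc h3
      calc s⁻¹ * (q * c * q⁻¹ * c⁻¹) = (c * s)⁻¹ * (c * (q * c * q⁻¹ * c⁻¹)) := by group
        _ = (c * s)⁻¹ * (q * c * q⁻¹) := by rw [this]; group
        _ = _ := by rw [hcd]; group
    rw [e1]
    exact mul_mem (inv_mem h1) h2
  exact (inv_mul_eq_one.1 h4).symm

theorem pairL {o : X} (ho : o ∉ A) (hoB : o ∈ B) (hK : K N y o ≤ E N y B) {l q s : G}
    (hl : l ∈ E N y B) (hq : q ∈ K N o y) (e : s • o = q • x) (hs : s ∈ E N x A) :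
    (l * s * l⁻¹ * s⁻¹) * q * (l * s * l⁻¹ * s⁻¹)⁻¹ * q⁻¹ = l := by
  have hyo : y ≠ o := by rintro rfl; exact ho hy.1
  have hox : o ≠ x := by rintro rfl; exact hxB hoB
  have hc := h.mu_mem hA hxB hy hs hl
  set c := l * s * l⁻¹ * s⁻¹ with hcd
  have hl' := mem_E.1 hl
  have hs' := mem_E.1 hs
  have hc' := mem_E.1 hc
  have h3 := hK (h.cm_mem hyo hc'.1 hq)
  have h4 : l⁻¹ * (c * q * c⁻¹ * q⁻¹) = 1 := by
    refine h.semireg' hB.meet (mul_mem (inv_mem hl) h3) hxB ?_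
    have hm := mem_E.1 (mul_mem (inv_mem hl) h3)
    have hw : o ≠ q • x := ne_smul_of (h.fix _ _ hq.1) hox
    refine h.fix_line hw hm.1 (hm.2 o hoB) ?_ (h.col_swap hox hw (h.col_N hq.1 (col_right _ _)))
    have e1 : l⁻¹ * (c * q * c⁻¹ * q⁻¹) = (s * l⁻¹ * s⁻¹) * (q * c⁻¹ * q⁻¹) := by rw [hcd]; group
    have e2 : c⁻¹ • x = x := by rw [inv_smul_eq_iff, hc'.2 x hx]
    have e3 : l⁻¹ • o = o := by rw [inv_smul_eq_iff, hl'.2 o hoB]
    rw [e1, mul_smul, mul_smul _ q⁻¹, inv_smul_smul, mul_smul q, e2, ← e, mul_smul, inv_smul_smul,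
      mul_smul, e3]
  exact (inv_mul_eq_one.1 h4).symm

end mu

omit h [Finite G] in
/-- additive version of an abelian subgroup -/
def AC (H : Subgroup G) (_ : ∀ a ∈ H, ∀ b ∈ H, a * b = b * a) : Type _ := Additive H

end H05.ON

namespace H05.ON.AC
variable {G : Type*} [Group G] {H : Subgroup G} {hc : ∀ a ∈ H, ∀ b ∈ H, a * b = b * a}

instance : AddCommGroup (AC H hc) := { (inferInstance : AddGroup (Additive H)) with
  add_comm := fun a b => Subtype.ext (hc _ (Additive.toMul a).2 _ (Additive.toMul b).2) }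
instance [Finite G] : Finite (AC H hc) := inferInstanceAs (Finite H)
/-- value -/
def v (a : AC H hc) : G := (Additive.toMul a : H)
/-- constructor -/
def mk (hc : ∀ a ∈ H, ∀ b ∈ H, a * b = b * a) (g : G) (hg : g ∈ H) : AC H hc := Additive.ofMul ⟨g, hg⟩
@[simp] theorem v_mk (g : G) (hg : g ∈ H) : (mk hc g hg).v = g := rfl
@[simp] theorem v_add (a b : AC H hc) : (a + b).v = a.v * b.v := rfl
@[simp] theorem v_zero : (0 : AC H hc).v = 1 := rfl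
theorem mem (a : AC H hc) : a.v ∈ H := (Additive.toMul a).2
theorem ext {a b : AC H hc} (e : a.v = b.v) : a = b := Subtype.ext e
theorem v_ne {a : AC H hc} (e : a ≠ 0) : a.v ≠ 1 := fun h => e (ext h)

/-- commutator pairing, as a biadditive map -/
def cm {K L : Subgroup G} {hK : ∀ a ∈ K, ∀ b ∈ K, a * b = b * a} {hL : ∀ a ∈ L, ∀ b ∈ L, a * b = b * a}
    (hm : ∀ s ∈ H, ∀ l ∈ K, l * s * l⁻¹ * s⁻¹ ∈ L) (h1 : ∀ s ∈ H, ∀ c ∈ L, s * c = c * s)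
    (h2 : ∀ l ∈ K, ∀ c ∈ L, l * c = c * l) : AC H hc →+ AC K hK →+ AC L hL :=
  AddMonoidHom.mk' (fun s => AddMonoidHom.mk' (fun l => mk hL _ (hm _ s.mem _ l.mem)) fun l l' => by
    apply ext
    simp only [v_mk, v_add]
    have e1 := h2 _ l.mem _ (hm _ s.mem _ l'.mem)
    have e2 := hL _ (hm _ s.mem _ l.mem) _ (hm _ s.mem _ l'.mem)
    rw [e2]
    calc l.v * l'.v * s.v * (l.v * l'.v)⁻¹ * s.v⁻¹ =
        (l.v * (l'.v * s.v * l'.v⁻¹ * s.v⁻¹)) * s.v * l.v⁻¹ * s.v⁻¹ := by group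
      _ = _ := by rw [e1]; group) fun s s' => by
    ext l
    apply ext
    simp only [v_mk, v_add, AddMonoidHom.mk'_apply, AddMonoidHom.add_apply]
    have e1 := h1 _ s.mem _ (hm _ s'.mem _ l.mem)
    calc l.v * (s.v * s'.v) * l.v⁻¹ * (s.v * s'.v)⁻¹ =
        (l.v * s.v * l.v⁻¹ * s.v⁻¹) * (s.v * (l.v * s'.v * l.v⁻¹ * s'.v⁻¹)) * s.v⁻¹ := by group
      _ = _ := by rw [e1]; group

@[simp] theorem cm_v {K L : Subgroup G} {hK : ∀ a ∈ K, ∀ b ∈ K, a * b = b * a}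
    {hL : ∀ a ∈ L, ∀ b ∈ L, a * b = b * a}
    (hm : ∀ s ∈ H, ∀ l ∈ K, l * s * l⁻¹ * s⁻¹ ∈ L) (h1 : ∀ s ∈ H, ∀ c ∈ L, s * c = c * s)
    (h2 : ∀ l ∈ K, ∀ c ∈ L, l * c = c * l) (s : AC H hc) (l : AC K hK) :
    (cm (hL := hL) hm h1 h2 s l).v = l.v * s.v * l.v⁻¹ * s.v⁻¹ := rfl

end H05.ON.AC

namespace H05.ON
open MulAction Subgroup
variable {G X : Type*} [Group G] [MulAction G X] {N : X → Subgroup G} {p : ℕ} (h : ON p N) [Finite G]
  {A B : Set X} (hA : Hyp N A) (hB : Hyp N B) (hne : (A ∩ B).Nonempty) (hne' : (B ∩ A).Nonempty)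
  {x : X} (hx : x ∈ A) (hxB : x ∉ B)
include h

theorem cE (x : X) (A : Set X) : ∀ a ∈ E N x A, ∀ b ∈ E N x A, a * b = b * a :=
  fun a ha b hb => h.comm x a ha.1 b hb.1
theorem cK (x y : X) : ∀ a ∈ K N x y, ∀ b ∈ K N x y, a * b = b * a :=
  fun a ha b hb => h.comm x a ha.1 b hb.1
theorem cT : ∀ a ∈ h.TT hA hB hne, ∀ b ∈ h.TT hA hB hne, a * b = b * a := by
  rintro a ⟨y, hy, ha⟩ b ⟨z, hz, hb⟩
  exact h.E_comm hy.1 hz.1 ha hb

/-- the pairing `E(x,A) × T(B) → T(A)` -/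
def mu : AC _ (h.cE x A) →+ AC _ (h.cT hB hA hne') →+ AC _ (h.cT hA hB hne) :=
  AC.cm (by
      rintro s hs l ⟨y, hy, hl⟩
      exact ⟨y, hy.symm, h.mu_mem hA hxB hy.symm hs hl⟩)
    (by rintro s hs c ⟨y, hy, hc⟩; exact h.E_comm hx hy.1 hs hc)
    (by rintro l ⟨y, hy, hl⟩ c ⟨z, hz, hc⟩; exact h.E_comm hy.2 hz.2 hl hc)

theorem mu_v (s) (l) : (h.mu hA hB hne hne' hx hxB s l).v = l.v * s.v * l.v⁻¹ * s.v⁻¹ := rfl

theorem mu_bij (s) (hs : s ≠ 0) : Function.Bijective (h.mu hA hB hne hne' hx hxB s) := by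
  constructor
  · rw [injective_iff_map_eq_zero]
    intro l e
    obtain ⟨y, hy, hl⟩ := l.mem
    exact AC.ext (h.mu_inj hB hxB s.mem hl (AC.v_ne hs) (congrArg AC.v e))
  · intro c
    obtain ⟨y, hy, hc⟩ := c.mem
    obtain ⟨l, hl, e⟩ := h.mu_surj_l hA hB hxB hy s.mem (AC.v_ne hs) hc
    exact ⟨AC.mk _ l ⟨y, hy.symm, hl⟩, AC.ext e⟩

theorem partition {f : AC _ (h.cT hA hB hne) →+ AC _ (h.cT hA hB hne)}
    (hf : ∀ y ∈ A ∩ B, ∀ c, c.v ∈ N y → (f c).v ∈ N y) {y y' : X} (hy : y ∈ A ∩ B) (hy' : y' ∈ A ∩ B)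
    (hyy : y ≠ y') {c0 c1 : AC _ (h.cT hA hB hne)} (h0 : c0 ≠ 0) (hc0 : c0.v ∈ N y) (e : f c0 = 0)
    (h1 : c1 ≠ 0) (hc1 : c1.v ∈ N y') : f = 0 := by
  have key : ∀ c : AC _ (h.cT hA hB hne), c.v ∉ N y → f c = 0 := by
    intro c hc
    obtain ⟨z, hz, hcz⟩ := c.mem
    obtain ⟨w, hw, hcw⟩ := (c + c0).mem
    have hzw : z ≠ w := by
      rintro rfl
      have : c0.v ∈ N z := by
        have := (N z).mul_mem ((N z).inv_mem hcz.1) hcw.1
        simpa using this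
      exact AC.v_ne h0 (h.disj (by rintro rfl; exact hc hcz.1) hc0 this)
    have e2 : f (c + c0) = f c := by rw [map_add, e, add_zero]
    exact AC.ext (h.disj hzw (hf z hz c hcz.1) (e2 ▸ hf w hw _ hcw.1))
  have hc1' : c1.v ∉ N y := fun hc => AC.v_ne h1 (h.disj hyy hc hc1)
  ext c
  by_cases hc : c.v ∈ N y
  · have := key (c + c1) fun h2 => hc1' (by simpa using (N y).mul_mem ((N y).inv_mem hc) h2)
    rwa [map_add, key c1 hc1', add_zero] at this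
  · exact key c hc

include hA in
theorem exists_E_ne {y : X} (hy : y ∈ A) : ∃ c ∈ E N y A, c ≠ 1 := by
  obtain ⟨o, ho⟩ := hA.ne
  have hyo : y ≠ o := by rintro rfl; exact ho hy
  obtain ⟨n, hn, hno⟩ := h.exists_move hyo
  obtain ⟨t, ht, ht2, ht3⟩ := hA.full y hy o ho _ (h.col_N hn (col_right _ _))
    (ne_smul_of (h.fix _ _ hn) hyo)
  exact ⟨t, mem_E.2 ⟨ht, ht2⟩, by rintro rfl; exact hno (by rw [← ht3, one_smul])⟩

theorem mu_N {y : X} (hy : y ∈ A ∩ B) {s} (hs : s ≠ 0) (l) :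
    (h.mu hA hB hne hne' hx hxB s l).v ∈ N y → l.v ∈ E N y B := by
  intro hm
  obtain ⟨z, hz, hl⟩ := l.mem
  by_cases e : z = y
  · exact e ▸ hl
  have := h.disj e (h.mu_mem hA hxB hz.symm s.mem hl).1 hm
  rw [h.mu_inj hB hxB s.mem hl (AC.v_ne hs) this]
  exact one_mem _

theorem fld {o : X} (ho : o ∉ A) (hoB : o ∈ B) {s0} (hs0 : s0 ≠ 0) (s1 s2) : ∃ s3, ∀ b b',
    h.mu hA hB hne hne' hx hxB s0 b' = h.mu hA hB hne hne' hx hxB s2 b →
    h.mu hA hB hne hne' hx hxB s1 b' = h.mu hA hB hne hne' hx hxB s3 b := by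
  set μ := h.mu hA hB hne hne' hx hxB with hμ
  obtain ⟨y, hy⟩ := id hne
  have hyx : y ≠ x := by rintro rfl; exact hxB hy.2
  by_cases hS : ∃ y' ∈ A ∩ B, y ≠ y'
  · obtain ⟨y', hy', hyy⟩ := hS
    let β := AddEquiv.ofBijective _ (h.mu_bij hA hB hne hne' hx hxB s0 hs0)
    have hβ : ∀ c, μ s0 (β.symm c) = c := fun c => β.apply_symm_apply c
    have hβ' : ∀ c, β.symm (μ s0 c) = c := fun c => β.symm_apply_apply c
    have hpres : ∀ s, ∀ y ∈ A ∩ B, ∀ c, c.v ∈ N y → (μ s (β.symm c)).v ∈ E N y A := fun s y hy c hc =>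
      h.mu_mem hA hxB hy s.mem (h.mu_N hA hB hne hne' hx hxB hy hs0 _ (by rw [← hμ, hβ]; exact hc))
    obtain ⟨c0, hc0, h0⟩ := h.exists_E_ne hA hy.1
    obtain ⟨c1, hc1, h1⟩ := h.exists_E_ne hA hy'.1
    let C0 := AC.mk (h.cT hA hB hne) c0 ⟨y, hy, hc0⟩
    have hl0 := h.mu_N hA hB hne hne' hx hxB hy hs0 (β.symm C0) (by rw [← hμ, hβ]; exact hc0.1)
    obtain ⟨s3, hs3, e3⟩ := h.mu_surj_s hA hB hx hxB hy hl0 (fun e => h0 (by
      have : β.symm C0 = 0 := AC.ext e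
      have h2 := hβ C0
      rw [this, map_zero] at h2
      exact (congrArg AC.v h2).symm)) (hpres s1 y hy _ (hpres s2 y hy C0 hc0.1).1)
    refine ⟨AC.mk _ s3 hs3, fun b b' e => ?_⟩
    have := h.partition hA hB hne (f := ((μ s1).comp β.symm.toAddMonoidHom).comp
      ((μ s2).comp β.symm.toAddMonoidHom) - (μ (AC.mk _ s3 hs3)).comp β.symm.toAddMonoidHom)
      (fun z hz c hc => by
        have h1 := (hpres s1 z hz _ (hpres s2 z hz c hc).1).1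
        have h2 := (hpres (AC.mk _ s3 hs3) z hz c hc).1
        exact (N z).div_mem h1 h2) hy hy' hyy (c0 := C0) (fun e => h0 (congrArg AC.v e)) hc0.1
        (sub_eq_zero.2 (AC.ext e3.symm)) (c1 := AC.mk _ c1 ⟨y', hy', hc1⟩)
        (fun e => h1 (congrArg AC.v e)) hc1.1
    have h2 := DFunLike.congr_fun (sub_eq_zero.1 this) (μ s0 b)
    simp only [AddMonoidHom.comp_apply, AddEquiv.coe_toAddMonoidHom, hβ'] at h2
    rw [← e, hβ'] at h2
    exact h2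
  · push Not at hS
    have hyo : y ≠ o := by rintro rfl; exact ho hy.1
    have hxo : x ≠ o := by rintro rfl; exact ho hx
    have hT : ∀ c : AC _ (h.cT hA hB hne), c.v ∈ E N y A := fun c => by
      obtain ⟨z, hz, hc⟩ := c.mem
      exact hS z hz ▸ hc
    have hT' : ∀ c : AC _ (h.cT hB hA hne'), c.v ∈ E N y B := fun c => by
      obtain ⟨z, hz, hc⟩ := c.mem
      exact hS z hz.symm ▸ hc
    have hK : K N y o ≤ E N y B := fun k hk => mem_E.2 ⟨hk.1, fun b hb => by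
      by_cases hob : o = b
      · rw [← hob]; exact hk.2
      obtain ⟨a, ha, hc⟩ := hA.meet o b hob
      rw [← hS a ⟨ha, hB.sub o hoB b hb hob a hc⟩] at hc
      exact h.col_symm hyo (h.col_swap hob hyo.symm hc) k hk.1 hk.2⟩
    have n1 : ¬ Col N x y o := fun hc => ho (hA.sub x hx y hy.1 hyx.symm o hc)
    have n2 : ¬ Col N o x y := fun hc =>
      n1 (h.col_swap hxo hyx.symm (h.col_symm hxo hc))
    let ν : AC _ (h.cT hA hB hne) →+ AC _ (h.cK x o) →+ AC _ (h.cE x A) :=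
      AC.cm (fun c hc q hq => h.cm_E hA.sub hx hyx.symm (hT (AC.mk _ c hc)) hq.1)
        (fun c hc s hs => h.E_comm hy.1 hx (hT (AC.mk _ c hc)) hs)
        (fun q hq s hs => h.comm x q hq.1 s hs.1)
    let ν' : AC _ (h.cK o y) →+ AC _ (h.cT hA hB hne) →+ AC _ (h.cT hB hA hne') :=
      AC.cm (fun q hq c hc => ⟨y, hy.symm, hK (h.cm_mem hyo (hT (AC.mk _ c hc)).1 hq)⟩)
        (fun q hq l hl => h.KK_comm hyo.symm hq
          ⟨(hT' (AC.mk _ l hl)).1, (mem_E.1 (hT' (AC.mk _ l hl))).2 o hoB⟩)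
        (fun c hc l hl => h.comm y c (hT (AC.mk _ c hc)).1 l (hT' (AC.mk _ l hl)).1)
    refine AZ.presemifield μ (h.mu_bij hA hB hne hne' hx hxB) (fun l hl => ⟨?_, fun c => ?_⟩)
      ν.flip.range (fun l hl => ?_) ?_ ν'.range (fun s hs => ?_) ?_ hs0 s1 s2
    · rw [injective_iff_map_eq_zero]
      intro s e
      by_contra hs
      exact AC.v_ne hl (h.mu_inj hB hxB s.mem (hT' l) (AC.v_ne hs) (congrArg AC.v e))
    · obtain ⟨s, hs, e⟩ := h.mu_surj_s hA hB hx hxB hy (hT' l) (AC.v_ne hl) (hT c)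
      exact ⟨AC.mk _ s hs, AC.ext e⟩
    · have hl' := mem_E.1 (hT' l)
      obtain ⟨q, hq, e⟩ := h.trans' hyx.symm n1 (z := l.v • x)
        (fun e => AC.v_ne hl (h.semireg' hB.meet (hT' l) hxB e.symm))
        (h.col_symm hyx.symm (h.col_N hl'.1 (col_right _ _)))
      exact ⟨_, ⟨AC.mk _ q hq, rfl⟩, fun s => AC.ext (h.pairR hA hx hxB hy (hT' l) hq.1 e.symm s.mem)⟩
    · rintro _ ⟨q, rfl⟩ hq
      have hqy : q.v • y ≠ y := fun e => hq (by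
        ext c
        apply AC.ext
        have := h.KK_comm hyx.symm ⟨q.mem.1, e⟩ ⟨(hT c).1, (mem_E.1 (hT c)).2 x hx⟩
        change q.v * c.v * q.v⁻¹ * c.v⁻¹ = 1
        rw [this]; group)
      obtain ⟨l, hl, hl2, hl3⟩ := hB.full y hy.2 x hxB (q.v • y)
        (h.col_symm hyx (h.col_N q.mem.1 (col_right _ _))) hqy.symm
      exact ⟨AC.mk _ l ⟨y, hy.symm, mem_E.2 ⟨hl, hl2⟩⟩, fun s =>
        AC.ext (h.pairR hA hx hxB hy (mem_E.2 ⟨hl, hl2⟩) q.mem.1 hl3 s.mem)⟩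
    · have hs' := mem_E.1 s.mem
      obtain ⟨q, hq, e⟩ := h.trans' hxo.symm n2 (z := s.v • o)
        (fun e => AC.v_ne hs (h.semireg' hA.meet s.mem ho e.symm))
        (h.col_symm hxo.symm (h.col_N hs'.1 (col_right _ _)))
      exact ⟨_, ⟨AC.mk _ q hq, rfl⟩, fun l =>
        AC.ext (h.pairL hA hB hx hxB hy ho hoB hK (hT' l) hq e.symm s.mem)⟩
    · rintro _ ⟨q, rfl⟩ hq
      have hqx : q.v • x ≠ x := fun e => hq (by
        have : q = 0 := by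
          apply AC.ext
          refine h.semireg' hA.meet (mem_E.2 ⟨q.mem.1, fun a ha => ?_⟩) ho (h.fix _ _ q.mem.1)
          by_cases hxa : x = a
          · rw [← hxa, e]
          obtain ⟨b, hb, hc⟩ := hB.meet x a hxa
          rw [← hS b ⟨hA.sub x hx a ha hxa b hc, hb⟩] at hc
          exact h.fix_line hyx.symm q.mem.1 e q.mem.2 (h.col_swap hxa hyx.symm hc)
        rw [this, map_zero])
      obtain ⟨s, hs, hs2, hs3⟩ := hA.full x hx o ho (q.v • x)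
        (h.col_symm hxo (h.col_N q.mem.1 (col_right _ _))) hqx.symm
      exact ⟨AC.mk _ s (mem_E.2 ⟨hs, hs2⟩), fun l =>
        AC.ext (h.pairL hA hB hx hxB hy ho hoB hK (hT' l) q.mem hs3 (mem_E.2 ⟨hs, hs2⟩))⟩

end H05.ON
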