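import Mathlib
import Cfsg.Agent.H05.ONan2

/-! O'Nan's characterisation of `L_n(q)`, part 3: coordinates. -/

set_option autoImplicit false

namespace H05.ON

open MulAction Subgroup

universe u
variable {G : Type u} {X : Type*} [Group G] [MulAction G X] {N : X → Subgroup G} {p : ℕ} (h : ON p N)
  [Finite G]
include h

theorem coord0 {A : Set X} (hA : Hyp N A) {o x : X} (ho : o ∉ A) (hx : x ∈ A) :
    ∃ (F : Type) (_ : Field F) (_ : Fintype F) (W : Type u) (_ : AddCommGroup W) (_ : Module F W)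
      (ι : W → G), (∀ a b, ι (a + b) = ι a * ι b) ∧ Function.Injective ι ∧
      (∀ v, ∃ w ∈ A, ι v ∈ E N w A) ∧ ∀ w ∈ A, ∃ v, v ≠ 0 ∧ (∀ c : F, ι (c • v) ∈ E N w A) ∧
        ∀ t ∈ E N w A, ∃ c : F, ι (c • v) = t := by
  obtain ⟨y, hyA, hyx⟩ := h.exists_ne_mem hA.meet hx ho
  have hyo : y ≠ o := by rintro rfl; exact ho hyA
  have n1 : ¬ Col N y o x := fun hc =>
    ho (hA.sub y hyA x hx hyx o (h.col_swap hyo hyx hc))
  simp only [Col, not_forall] at n1
  obtain ⟨l0, hl0, hoB, hxB⟩ := n1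
  have hB := h.hyp_fix hl0 (by rintro rfl; exact hxB (one_smul _ _))
  set B : Set X := {a | l0 • a = a}
  replace hoB : o ∈ B := hoB
  replace hxB : x ∉ B := hxB
  have hy : y ∈ A ∩ B := ⟨hyA, h.fix _ _ hl0⟩
  have hne : (A ∩ B).Nonempty := ⟨y, hy⟩
  have hne' : (B ∩ A).Nonempty := ⟨y, hy.symm⟩
  set μ := h.mu hA hB hne hne' hx hxB with hμ
  obtain ⟨s0', hs0', hs01⟩ := h.exists_E_ne hA hx
  let s0 := AC.mk (h.cE x A) s0' hs0'
  have hs0 : s0 ≠ 0 := fun e => hs01 (congrArg AC.v e)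
  let C := AC _ (h.cT hA hB hne)
  let β := AddEquiv.ofBijective _ (h.mu_bij hA hB hne hne' hx hxB s0 hs0)
  have hβ : ∀ c, μ s0 (β.symm c) = c := fun c => β.apply_symm_apply c
  have hβ' : ∀ c, β.symm (μ s0 c) = c := fun c => β.symm_apply_apply c
  let fh : AC _ (h.cE x A) →+ AddMonoid.End C := AddMonoidHom.mk'
    (fun s => (μ s).comp β.symm.toAddMonoidHom) fun a b => by ext c; simp [map_add]; rfl
  have fh_ap : ∀ s c, fh s c = μ s (β.symm c) := fun _ _ => rfl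
  have fh1 : fh s0 = 1 := by ext c; exact hβ c
  let F0 : Subring (AddMonoid.End C) :=
    { fh.range with
      one_mem' := ⟨s0, fh1⟩
      mul_mem' := by
        rintro _ _ ⟨s1, rfl⟩ ⟨s2, rfl⟩
        obtain ⟨s3, h3⟩ := h.fld hA hB hne hne' hx hxB ho hoB hs0 s1 s2
        refine ⟨s3, ?_⟩
        ext c
        exact (h3 _ _ (hβ _)).symm }
  obtain ⟨l1, hl1, hl11⟩ := h.exists_E_ne hB hy.2
  have fh_inj : Function.Injective fh := by
    rw [injective_iff_map_eq_zero]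
    intro s e
    by_contra hs
    have := DFunLike.congr_fun e (μ s0 (AC.mk _ l1 ⟨y, hy.symm, hl1⟩))
    rw [fh_ap, hβ'] at this
    exact hl11 (h.mu_inj hB hxB s.mem hl1 (AC.v_ne hs) (congrArg AC.v this))
  have hσ : ∀ a : F0, ∃ s, fh s = a := fun a => a.2
  choose σ hσ using hσ
  have σ_add : ∀ a b, σ (a + b) = σ a + σ b := fun a b => fh_inj (by rw [map_add, hσ, hσ, hσ]; rfl)
  have σ_fh : ∀ s, σ ⟨fh s, s, rfl⟩ = s := fun s => fh_inj (hσ _)
  have σ0 : σ 0 = 0 := fh_inj (by rw [hσ, map_zero]; rfl)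
  haveI : Finite (AddMonoid.End C) :=
    Finite.of_injective (fun f : AddMonoid.End C => (f : C → C)) DFunLike.coe_injective
  haveI : Nontrivial F0 := ⟨⟨0, 1, fun e => hs0 (fh_inj (by
    rw [fh1, map_zero]; exact (congrArg Subtype.val e).symm))⟩⟩
  haveI : NoZeroDivisors F0 := ⟨fun {a b} e => by
    by_contra hc
    push Not at hc
    have ha : σ a ≠ 0 := fun e => hc.1 (Subtype.ext (by rw [← hσ, e, map_zero]; rfl))
    apply hc.2
    ext1; ext c
    apply β.symm.injective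
    apply (h.mu_bij hA hB hne hne' hx hxB _ ha).1
    have := DFunLike.congr_fun (congrArg Subtype.val e) c
    rw [Subring.coe_mul, ← hσ a] at this
    refine Eq.trans this ?_
    simp⟩
  haveI : IsDomain F0 := NoZeroDivisors.to_isDomain _
  letI : Field F0 := (Finite.isDomain_to_isField F0).toField
  letI : Module F0 C := Module.compHom C F0.subtype
  have hsm : ∀ (a : F0) (c : C), a • c = μ (σ a) (β.symm c) := fun a c => by
    rw [← fh_ap, hσ]; rfl
  let e := Shrink.ringEquiv.{0} F0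
  haveI : Finite (Shrink.{0} F0) := Finite.of_equiv _ e.symm.toEquiv
  letI : Module (Shrink.{0} F0) (F0 × C) := Module.compHom _ e.toRingHom
  have hsm' : ∀ (a : Shrink.{0} F0) (b : F0) (c : C), a • (b, c) = (e a * b, e a • c) := fun _ _ _ => rfl
  have hcomm : ∀ (s : AC _ (h.cE x A)) (c : C), s.v * c.v = c.v * s.v := fun s c => by
    obtain ⟨z, hz, hc⟩ := c.mem
    exact h.E_comm hx hz.1 s.mem hc
  refine ⟨Shrink.{0} F0, inferInstance, Fintype.ofFinite _, F0 × C, inferInstance, inferInstance,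
    fun v => (σ v.1).v * v.2.v, fun a b => ?_, fun a b e => ?_, fun v => ?_, fun w hw => ?_⟩
  · simp only [Prod.fst_add, Prod.snd_add, σ_add, AC.v_add]
    have := hcomm (σ b.1) a.2
    calc (σ a.1).v * (σ b.1).v * (a.2.v * b.2.v) = (σ a.1).v * ((σ b.1).v * a.2.v) * b.2.v := by group
      _ = _ := by rw [this]; group
  · obtain ⟨z, hz, hc⟩ := (h.TT hA hB hne).mul_mem b.2.mem (inv_mem a.2.mem)
    have e1 : (σ b.1).v⁻¹ * (σ a.1).v = b.2.v * a.2.v⁻¹ := by
      calc (σ b.1).v⁻¹ * (σ a.1).v = (σ b.1).v⁻¹ * ((σ a.1).v * a.2.v) * a.2.v⁻¹ := by group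
        _ = _ := by
          have e' : (σ a.1).v * a.2.v = (σ b.1).v * b.2.v := e
          rw [e']; group
    have e2 := h.disj (by rintro rfl; exact hxB hz.2 : x ≠ z)
      (mul_mem (inv_mem (σ b.1).mem) (σ a.1).mem).1 (e1 ▸ hc.1)
    refine Prod.ext (Subtype.ext ?_) (AC.ext ?_)
    · rw [← hσ, ← hσ, AC.ext (inv_mul_eq_one.1 e2)]
    · rw [e1] at e2; exact (mul_inv_eq_one.1 e2).symm
  · obtain ⟨z, hz, hc⟩ := v.2.mem
    obtain ⟨w, hw, hm⟩ := (h.TT hA hA ⟨x, hx, hx⟩).mul_mem ⟨x, ⟨hx, hx⟩, (σ v.1).mem⟩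
      ⟨z, ⟨hz.1, hz.1⟩, hc⟩
    exact ⟨w, hw.1, hm⟩
  by_cases hwx : w = x
  · subst hwx
    refine ⟨(1, 0), by simp, fun c => ?_, fun t ht => ⟨e.symm ⟨_, AC.mk _ t ht, rfl⟩, ?_⟩⟩
    · simpa [hsm'] using (σ _).mem
    · simp [hsm', σ_fh]
  by_cases hwB : w ∈ B
  · obtain ⟨c0, hc0, h0⟩ := h.exists_E_ne hA hw
    let C0 : C := AC.mk (h.cT hA hB hne) c0 ⟨w, ⟨hw, hwB⟩, hc0⟩
    have hl := h.mu_N hA hB hne hne' hx hxB ⟨hw, hwB⟩ hs0 (β.symm C0) (by rw [← hμ, hβ]; exact hc0.1)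
    refine ⟨(0, C0), fun e => h0 (congrArg (fun v : F0 × C => v.2.v) e), fun c => ?_, fun t ht => ?_⟩
    · simp only [hsm', mul_zero, σ0, AC.v_zero, one_mul, hsm]
      exact h.mu_mem hA hxB ⟨hw, hwB⟩ (σ _).mem hl
    · obtain ⟨s, hs, e3⟩ := h.mu_surj_s hA hB hx hxB ⟨hw, hwB⟩ hl (fun e => h0 (by
        have : β.symm C0 = 0 := AC.ext e
        have h2 := hβ C0
        rw [this, map_zero] at h2
        exact (congrArg AC.v h2).symm)) ht
      refine ⟨e.symm ⟨_, AC.mk _ s hs, rfl⟩, ?_⟩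
      simp only [hsm', mul_zero, σ0, AC.v_zero, one_mul, hsm, RingEquiv.apply_symm_apply, σ_fh]
      exact e3
  · obtain ⟨z, hzB, hc⟩ := hB.meet x w (Ne.symm hwx)
    have hz : z ∈ A ∩ B := ⟨hA.sub x hx w hw (Ne.symm hwx) z hc, hzB⟩
    have hxz : x ≠ z := by rintro rfl; exact hxB hzB
    obtain ⟨l, hl, hl2, hl3⟩ := hB.full z hzB x hxB w
      (h.col_symm hxz.symm (h.col_swap (Ne.symm hwx) hxz hc)) (by rintro rfl; exact hwB hzB)
    have hlE : l ∈ E N z B := mem_E.2 ⟨hl, hl2⟩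
    let L := AC.mk (h.cT hB hA hne') l ⟨z, hz.symm, hlE⟩
    have key : ∀ s : AC _ (h.cE x A), s.v * (μ s L).v = l * s.v * l⁻¹ := fun s => by
      rw [hcomm]
      change l * s.v * l⁻¹ * s.v⁻¹ * s.v = _
      group
    refine ⟨(1, μ s0 L), by simp, fun c => ?_, fun t ht => ?_⟩
    · simp only [hsm', mul_one, hsm, hβ', key]
      exact hl3 ▸ h.E_conj hA hz.1 hl (σ _).mem
    · have hs : l⁻¹ * t * l⁻¹⁻¹ ∈ E N x A := by
        have := h.E_conj hA hz.1 ((N z).inv_mem hl) ht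
        rwa [← hl3, inv_smul_smul] at this
      refine ⟨e.symm ⟨_, AC.mk _ _ hs, rfl⟩, ?_⟩
      simp only [hsm', mul_one, hsm, hβ', RingEquiv.apply_symm_apply, σ_fh]
      rw [key, AC.v_mk]
      group

omit h [Finite G] in
/-- projective coordinates -/
structure PG (N : X → Subgroup G) (F : Type*) [Field F] {W : Type*} [AddCommGroup W] [Module F W]
    (pt : W → X) : Prop where
  surj : ∀ z, ∃ v, v ≠ 0 ∧ pt v = z
  eq_iff : ∀ a b, a ≠ 0 → b ≠ 0 → (pt a = pt b ↔ ∃ c : F, b = c • a)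
  col : ∀ a b c, a ≠ 0 → b ≠ 0 → c ≠ 0 → pt a ≠ pt b →
    (Col N (pt a) (pt b) (pt c) ↔ ∃ r s : F, c = r • a + s • b)

theorem coord1 {x0 y0 : X} (hxy : x0 ≠ y0) :
    ∃ (F : Type) (_ : Field F) (_ : Fintype F) (W : Type u) (_ : AddCommGroup W) (_ : Module F W)
      (_ : Finite W) (pt : W → X), PG N F pt := by
  classical
  obtain ⟨l0, hl0, hl1, -⟩ := h.ne x0 y0 hxy
  have hA := h.hyp_fix hl0 hl1
  set A : Set X := {a | l0 • a = a}
  have hx0 : x0 ∈ A := h.fix _ _ hl0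
  obtain ⟨o, ho⟩ := hA.ne
  obtain ⟨F, _, _, W, _, _, ι, hadd, hinj, hmem, hcomp⟩ := h.coord0 hA ho hx0
  haveI : Finite W := Finite.of_injective ι hinj
  have ι0 : ι 0 = 1 := by simpa using hadd 0 0
  have ιne : ∀ v, v ≠ 0 → ι v ≠ 1 := fun v hv e => hv (hinj (e.trans ι0.symm))
  choose ctr hctr hctr' using hmem
  have ctr_eq : ∀ v w, v ≠ 0 → ι v ∈ N w → ctr v = w := fun v w hv hw => by
    by_contra hne
    exact ιne v hv (h.disj hne (hctr' v).1 hw)
  have comp : ∀ v, v ≠ 0 → (∀ c : F, ι (c • v) ∈ E N (ctr v) A) ∧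
      ∀ t ∈ E N (ctr v) A, ∃ c : F, ι (c • v) = t := by
    intro v hv
    obtain ⟨v0, -, h1, h2⟩ := hcomp _ (hctr v)
    obtain ⟨a, ha⟩ := h2 _ (hctr' v)
    have e := hinj ha
    have ha0 : a ≠ 0 := by rintro rfl; exact hv (by rw [← e, zero_smul])
    refine ⟨fun c => by have := h1 (c * a); rwa [mul_smul, e] at this, fun t ht => ?_⟩
    obtain ⟨c, hc⟩ := h2 t ht
    exact ⟨c / a, by rw [← e, smul_smul, div_mul_cancel₀ _ ha0, hc]⟩
  have notA : ∀ v, ι v • o ∉ A := fun v hv => ho (by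
    have := (mem_E.1 (hctr' v)).2 _ hv
    rwa [smul_left_cancel_iff (ι v) |>.1 this] at hv)
  have aff_inj : ∀ v v', ι v • o = ι v' • o → v = v' := fun v v' e => by
    have e1 : ι v = ι v' * ι (v - v') := by rw [← hadd]; congr 1; abel
    rw [e1, mul_smul, smul_left_cancel_iff] at e
    have := h.semireg' hA.meet (hctr' _) ho e
    exact sub_eq_zero.1 (hinj (this.trans ι0.symm))
  let pt : F × W → X := fun v => if v.1 = 0 then ctr v.2 else ι (v.1⁻¹ • v.2) • o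
  have pt0 : ∀ v, pt (0, v) = ctr v := fun v => by simp [pt]
  have pt1 : ∀ a v, a ≠ 0 → pt (a, v) = ι (a⁻¹ • v) • o := fun a v ha => by simp [pt, ha]
  have aff : ∀ z w o', w ∈ A → o' ∉ A → (Col N w o' z ↔ z = w ∨ ∃ t ∈ E N w A, t • o' = z) := by
    intro z w o' hw ho'
    constructor
    · intro hc
      by_cases e : w = z
      · exact Or.inl e.symm
      obtain ⟨t, h1, h2, h3⟩ := hA.full w hw o' ho' z hc e
      exact Or.inr ⟨t, mem_E.2 ⟨h1, h2⟩, h3⟩
    · rintro (rfl | ⟨t, ht, rfl⟩)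
      · exact h.col_left _ _
      · exact h.col_N ht.1 (col_right _ _)
  have hsurj : ∀ z, ∃ v, v ≠ 0 ∧ pt v = z := by
    intro z
    by_cases hz : z ∈ A
    · obtain ⟨v, hv, h1, -⟩ := hcomp z hz
      exact ⟨(0, v), by simpa using hv, by
        rw [pt0]; exact ctr_eq v z hv (by simpa using (h1 1).1)⟩
    by_cases hzo : o = z
    · exact ⟨(1, 0), by simp, by rw [pt1 _ _ one_ne_zero]; simp [ι0, hzo]⟩
    obtain ⟨w, hw, hc⟩ := hA.meet o z hzo
    have hwo : w ≠ o := by rintro rfl; exact ho hw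
    rcases (aff z w o hw ho).1 (h.col_symm hwo (h.col_swap hzo hwo.symm hc)) with rfl | ⟨t, ht, rfl⟩
    · exact absurd hw hz
    · obtain ⟨v, -, -, h2⟩ := hcomp w hw
      obtain ⟨c, rfl⟩ := h2 t ht
      exact ⟨(1, c • v), by simp, by rw [pt1 _ _ one_ne_zero]; simp⟩
  have heq : ∀ a b, a ≠ 0 → b ≠ 0 → (pt a = pt b ↔ ∃ c : F, b = c • a) := by
    rintro ⟨a, v⟩ ⟨b, w⟩ h1 h2
    by_cases ha : a = 0 <;> by_cases hb : b = 0
    · subst ha hb
      have hv : v ≠ 0 := by simpa using h1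
      have hw : w ≠ 0 := by simpa using h2
      rw [pt0, pt0]
      constructor
      · intro e
        obtain ⟨c, hc⟩ := (comp v hv).2 _ (e ▸ hctr' w)
        exact ⟨c, by simp [hinj hc]⟩
      · rintro ⟨c, hc⟩
        have : w = c • v := congrArg Prod.snd hc
        exact (ctr_eq w _ hw (this ▸ ((comp v hv).1 c).1)).symm
    · subst ha
      rw [pt0, pt1 _ _ hb]
      refine ⟨fun e => absurd (e ▸ hctr v) (notA _), fun ⟨c, hc⟩ => absurd ?_ hb⟩
      simpa using congrArg Prod.fst hc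
    · subst hb
      rw [pt0, pt1 _ _ ha]
      refine ⟨fun e => absurd (e ▸ hctr w) (notA _), fun ⟨c, hc⟩ => absurd ?_ h2⟩
      have : c = 0 := by simpa [ha] using (congrArg Prod.fst hc).symm
      rw [hc, this, zero_smul]
    · rw [pt1 _ _ ha, pt1 _ _ hb]
      constructor
      · intro e
        refine ⟨b / a, Prod.ext (by simp [ha]) ?_⟩
        have := aff_inj _ _ e
        change w = (b / a) • v
        rw [div_eq_mul_inv, mul_smul, this, smul_inv_smul₀ hb]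
      · rintro ⟨c, hc⟩
        have h3 : b = c * a := congrArg Prod.fst hc
        have h4 : w = c • v := congrArg Prod.snd hc
        have hc0 : c ≠ 0 := by rintro rfl; exact hb (by simp [h3])
        rw [h3, h4, smul_smul]
        congr 3
        field_simp
  -- special pairs
  have Q1 : ∀ v1 v2, v2 ≠ 0 → ∀ c, c ≠ 0 → (Col N (pt (0, v2)) (pt (1, v1)) (pt c) ↔
      ∃ r s : F, c = r • ((0 : F), v2) + s • ((1 : F), v1)) := by
    intro v1 v2 hv c hc
    rw [pt0, pt1 _ _ one_ne_zero, inv_one, one_smul, aff _ _ _ (hctr _) (notA _)]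
    constructor
    · rintro (e | ⟨t, ht, e⟩)
      · rw [← pt0] at e
        obtain ⟨r, hr⟩ := (heq _ _ (by simpa using hv) hc).1 e.symm
        exact ⟨r, 0, by simp [hr]⟩
      · obtain ⟨a, rfl⟩ := (comp v2 hv).2 t ht
        have : pt (1, a • v2 + v1) = pt c := by
          rw [pt1 _ _ one_ne_zero, inv_one, one_smul, hadd, mul_smul, e]
        obtain ⟨r, hr⟩ := (heq _ _ (by simp) hc).1 this
        exact ⟨r * a, r, by simp [hr, mul_smul]⟩
    · rintro ⟨r, s, rfl⟩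
      by_cases hs : s = 0
      · left
        rw [← pt0]
        exact ((heq _ _ (by simpa using hv) hc).2 ⟨r, by simp [hs]⟩).symm
      · right
        refine ⟨_, (comp v2 hv).1 (r / s), ?_⟩
        have : (r • ((0 : F), v2) + s • ((1 : F), v1) : F × W) = (s, r • v2 + s • v1) := by simp
        rw [this, pt1 _ _ hs, ← mul_smul, ← hadd, smul_add, inv_smul_smul₀ hs, smul_smul,
          div_eq_inv_mul]
  have Q2 : ∀ v1 v2, v1 ≠ 0 → v2 ≠ 0 → ctr v1 ≠ ctr v2 → ∀ c, c ≠ 0 →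
      (Col N (pt (0, v1)) (pt (0, v2)) (pt c) ↔
      ∃ r s : F, c = r • ((0 : F), v1) + s • ((0 : F), v2)) := by
    intro v1 v2 hv1 hv2 hne c hc
    rw [pt0, pt0]
    constructor
    · intro hcol
      by_cases e : ctr v1 = pt c
      · rw [← pt0] at e
        obtain ⟨r, hr⟩ := (heq _ _ (by simpa using hv1) hc).1 e
        exact ⟨r, 0, by simp [hr]⟩
      obtain ⟨n, hn, e2⟩ := h.trans hne e hcol
      obtain ⟨a, ha⟩ := (comp v1 hv1).2 _ (h.cm_E hA.sub (hctr _) hne (hctr' v2) hn)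
      have e3 : ι (a • v1 + v2) = n * ι v2 * n⁻¹ := by rw [hadd, ha]; group
      have hv3 : a • v1 + v2 ≠ 0 := fun e0 => ιne v2 hv2 (by
        rw [e0, ι0] at e3
        simpa using e3.symm)
      have : pt (0, a • v1 + v2) = pt c := by
        rw [pt0, ← e2]
        exact ctr_eq _ _ hv3 (e3 ▸ h.conj _ _ _ (hctr' v2).1)
      obtain ⟨r, hr⟩ := (heq _ _ (by simpa using hv3) hc).1 this
      exact ⟨r * a, r, by simp [hr, mul_smul]⟩
    · rintro ⟨r, s, rfl⟩
      have e0 : (r • ((0 : F), v1) + s • ((0 : F), v2) : F × W) = (0, r • v1 + s • v2) := by simp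
      rw [e0] at hc ⊢
      have hv3 : r • v1 + s • v2 ≠ 0 := by simpa using hc
      rw [pt0]
      by_cases hs : ι (s • v2) = 1
      · rw [ctr_eq _ (ctr v1) hv3 (by rw [hadd, hs, mul_one]; exact ((comp v1 hv1).1 r).1)]
        exact h.col_left _ _
      obtain ⟨n, hn, e⟩ := h.E_mul hA (hctr _) hne ((comp v1 hv1).1 r) ((comp v2 hv2).1 s) hs
      rw [ctr_eq _ (n • ctr v2) hv3 (by
        rw [hadd, ← e, inv_mul_cancel_right]; exact h.conj _ _ _ ((comp v2 hv2).1 s).1)]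
      exact h.col_N hn (col_right _ _)
  have gen : ∀ a b a' b' : F × W, a ≠ 0 → b ≠ 0 → pt a ≠ pt b → pt a' ≠ pt b' →
      (∀ c, c ≠ 0 → (Col N (pt a') (pt b') (pt c) ↔ ∃ r s : F, c = r • a' + s • b')) →
      (∀ c, (∃ r s : F, c = r • a' + s • b') ↔ ∃ r s : F, c = r • a + s • b) →
      ∀ c, c ≠ 0 → (Col N (pt a) (pt b) (pt c) ↔ ∃ r s : F, c = r • a + s • b) := by
    intro a b a' b' ha hb hab hab' hQ hsp c hc
    rw [h.col_iff hab' hab ((hQ a ha).2 ((hsp a).2 ⟨1, 0, by simp⟩))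
      ((hQ b hb).2 ((hsp b).2 ⟨0, 1, by simp⟩)), hQ c hc, hsp]
  have Q3 : ∀ (a : F) v (b : F × W), a ≠ 0 → b ≠ 0 → pt b ≠ pt (a, v) → ∀ c, c ≠ 0 →
      (Col N (pt b) (pt (a, v)) (pt c) ↔ ∃ r s : F, c = r • b + s • (a, v)) := by
    rintro a v ⟨b, w⟩ ha hb hab
    have hd : w - (b / a) • v ≠ 0 := fun e => hab ((heq _ _ (by simp [ha]) hb).2
      ⟨b / a, Prod.ext (by simp [ha]) (sub_eq_zero.1 e)⟩).symm
    refine gen _ _ (0, w - (b / a) • v) (1, a⁻¹ • v) hb (by simp [ha]) hab ?_ (Q1 _ _ hd) fun c => ?_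
    · rw [pt0, pt1 _ _ one_ne_zero]
      exact fun e => notA _ (e ▸ hctr _)
    · constructor
      · rintro ⟨r, s, rfl⟩
        refine ⟨r, s / a - r * b / a, Prod.ext ?_ ?_⟩
        · simp; field_simp; ring
        · simp only [Prod.snd_add, Prod.smul_snd]; module
      · rintro ⟨r, s, rfl⟩
        refine ⟨r, r * b + s * a, Prod.ext ?_ ?_⟩
        · simp
        · simp only [Prod.snd_add, Prod.smul_snd]
          match_scalars <;> field_simp <;> ring
  refine ⟨F, inferInstance, inferInstance, F × W, inferInstance, inferInstance, inferInstance, pt,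
    hsurj, heq, ?_⟩
  rintro ⟨a, v⟩ ⟨b, w⟩ c h1 h2 hc hab
  by_cases hb : b = 0
  · by_cases ha : a = 0
    · subst ha hb
      exact Q2 v w (by simpa using h1) (by simpa using h2) (by rwa [pt0, pt0] at hab) c hc
    · refine gen _ _ (b, w) (a, v) h1 h2 hab hab.symm (Q3 a v _ ha h2 hab.symm) (fun c => ?_) c hc
      constructor <;> rintro ⟨r, s, rfl⟩ <;> exact ⟨s, r, add_comm _ _⟩
  · exact Q3 b w _ hb h1 hab c hc

theorem coord {x0 y0 : X} (hxy : x0 ≠ y0) :
    ∃ (F : Type) (_ : Field F) (_ : Fintype F) (n : ℕ) (pt : (Fin n → F) → X), 3 ≤ n ∧ PG N F pt := by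
  obtain ⟨F, _, _, W, _, _, _, pt, hp⟩ := h.coord1 hxy
  haveI : Module.Finite F W := Module.Finite.of_finite
  let e := (Module.finBasis F W).equivFun
  have hp' : PG N F (fun v => pt (e.symm v)) := by
    refine ⟨fun z => ?_, fun a b ha hb => ?_, fun a b c ha hb hc hab => ?_⟩
    · obtain ⟨v, hv, rfl⟩ := hp.surj z
      exact ⟨e v, by simpa using hv, by simp⟩
    · rw [hp.eq_iff _ _ (by simpa using ha) (by simpa using hb)]
      simp only [← map_smul, EmbeddingLike.apply_eq_iff_eq]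
    · rw [hp.col _ _ _ (by simpa using ha) (by simpa using hb) (by simpa using hc) hab]
      simp only [← map_smul, ← map_add, EmbeddingLike.apply_eq_iff_eq]
  refine ⟨F, inferInstance, inferInstance, _, _, ?_, hp'⟩
  obtain ⟨z0, hz⟩ := h.exists_not_col hxy
  obtain ⟨a, ha, rfl⟩ := hp.surj x0
  obtain ⟨b, hb, rfl⟩ := hp.surj y0
  obtain ⟨c, hc, rfl⟩ := hp.surj z0
  rw [hp.col _ _ _ ha hb hc hxy] at hz
  have hab : LinearIndependent F ![a, b] := by
    rw [LinearIndependent.pair_iff' ha]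
    intro r hr
    exact hxy ((hp.eq_iff _ _ ha hb).2 ⟨r, hr.symm⟩)
  have := (linearIndependent_finCons (x := c) (v := ![a, b])).2 ⟨hab, by
    rw [Matrix.range_cons_cons_empty, Submodule.mem_span_pair]
    rintro ⟨r, s, e⟩
    exact hz ⟨r, s, e.symm⟩⟩
  simpa using this.fintype_card_le_finrank

end H05.ON
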