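import Mathlib
import Cfsg.Agent.H05.ONan3
import Cfsg.Agent.H09.SLBasic

/-! O'Nan's characterisation of `L_n(q)`, part 4: elations are transvections, the normal
subgroup `PSL_n(q)`. -/

set_option autoImplicit false

namespace H05.ON

open MulAction Subgroup
open scoped LinearAlgebra.Projectivization

variable {G X : Type*} [Group G] [MulAction G X] {N : X → Subgroup G} {p : ℕ} (h : ON p N)
  [Finite G] {F : Type*} [Field F] {W : Type*} [AddCommGroup W] [Module F W] {pt : W → X}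
  (hp : PG N F pt)

omit [Finite G] in
theorem PG.smul (hp : PG N F pt) {v : W} (hv : v ≠ 0) {c : F} (hc : c ≠ 0) : pt (c • v) = pt v :=
  ((hp.eq_iff _ _ hv (smul_ne_zero hc hv)).2 ⟨c, rfl⟩).symm

omit [Finite G] in
theorem PG.hyp_ker (hp : PG N F pt) {A : Set X} (hA : Hyp N A) {a : W} (ha : a ≠ 0) (haA : pt a ∉ A) :
    ∃ f : Module.Dual F W, f a = 1 ∧ ∀ v, v ≠ 0 → (pt v ∈ A ↔ f v = 0) := by
  have hs : ∀ (c : F) v, (v = 0 ∨ pt v ∈ A) → (c • v = 0 ∨ pt (c • v) ∈ A) := by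
    intro c v hv
    by_cases h0 : v = 0
    · simp [h0]
    by_cases hc : c = 0
    · simp [hc]
    rw [hp.smul h0 hc]; exact Or.inr (hv.resolve_left h0)
  let U : Submodule F W :=
    { carrier := {v | v = 0 ∨ pt v ∈ A}
      zero_mem' := Or.inl rfl
      smul_mem' := hs
      add_mem' := fun {u v} hu hv => by
        by_cases hu0 : u = 0
        · simpa [hu0] using hv
        by_cases hv0 : v = 0
        · simpa [hv0] using hu
        by_cases e : pt u = pt v
        · obtain ⟨c, rfl⟩ := (hp.eq_iff _ _ hu0 hv0).1 e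
          have := hs (1 + c) u hu
          rwa [add_smul, one_smul] at this
        by_cases h0 : u + v = 0
        · exact Or.inl h0
        exact Or.inr (hA.sub _ (hu.resolve_left hu0) _ (hv.resolve_left hv0) e _
          ((hp.col _ _ _ hu0 hv0 h0 e).2 ⟨1, 1, by simp⟩)) }
  obtain ⟨f, hf, hf2⟩ := U.exists_dual_map_eq_bot_of_notMem (x := a)
    (fun hm => hm.elim ha haA) inferInstance
  have hU : ∀ v, pt v ∈ A → f v = 0 := fun v hv => by
    have : f v ∈ U.map f := ⟨v, Or.inr hv, rfl⟩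
    rwa [hf2] at this
  refine ⟨(f a)⁻¹ • f, by simp [hf], fun v hv => ⟨fun h => by simp [hU v h], fun h => ?_⟩⟩
  have h0 : f v = 0 := by simpa [hf] using h
  have hne : pt a ≠ pt v := fun e => by
    obtain ⟨c, rfl⟩ := (hp.eq_iff _ _ ha hv).1 e
    have : c = 0 := by simpa [hf] using h0
    exact hv (by simp [this])
  obtain ⟨z, hz, hc⟩ := hA.meet _ _ hne
  obtain ⟨w, hw, rfl⟩ := hp.surj z
  obtain ⟨r, s, rfl⟩ := (hp.col _ _ _ ha hv hw hne).1 hc
  have hr : r = 0 := by simpa [h0, hf] using hU _ hz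
  subst hr
  rw [zero_smul, zero_add] at hz hw
  rwa [hp.smul hv (by rintro rfl; simp at hw)] at hz

include h hp

theorem tv_step {v0 : W} (hv0 : v0 ≠ 0) {f : Module.Dual F W} (hf0 : f v0 = 0) {g : G}
    (hg : g ∈ N (pt v0)) (hgf : ∀ v, v ≠ 0 → f v = 0 → g • pt v = pt v) {c : F} {a v : W}
    (ha : f a = 1) (hv : f v = 1) (hga : g • pt a = pt (a + c • v0)) (hav : ∀ r : F, v - a ≠ r • v0) :
    g • pt v = pt (v + c • v0) := by
  have ne0 : ∀ w, f w = 1 → w ≠ 0 := fun w hw e => by simp [e] at hw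
  have nept : ∀ u w, u ≠ 0 → f u = 0 → f w = 1 → pt u ≠ pt w := fun u w hu h1 h2 e => by
    obtain ⟨r, rfl⟩ := (hp.eq_iff _ _ hu (ne0 w h2)).1 e
    simp [h1] at h2
  have hu0 : v - a ≠ 0 := by simpa using hav 0
  have hfu : f (v - a) = 0 := by simp [ha, hv]
  have ha' : f (a + c • v0) = 1 := by simp [ha, hf0]
  obtain ⟨z, hz, hz2⟩ := hp.surj (g • pt v)
  obtain ⟨r, s, e1⟩ := (hp.col _ _ _ hv0 (ne0 v hv) hz (nept _ _ hv0 hf0 hv)).1
    (hz2 ▸ h.col_N hg (col_right _ _))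
  have c1 := h.col_smul g ((hp.col _ _ _ hu0 (ne0 a ha) (ne0 v hv) (nept _ _ hu0 hfu ha)).2
    ⟨1, 1, by simp⟩)
  rw [hgf _ hu0 hfu, hga, ← hz2] at c1
  obtain ⟨r', s', e2⟩ := (hp.col _ _ _ hu0 (ne0 _ ha') hz (nept _ _ hu0 hfu ha')).1 c1
  have hs : s = s' := by
    have := congrArg f (e1.symm.trans e2)
    simpa [hf0, hv, ha] using this
  subst hs
  have e3 : (r' - s) • (v - a) = (r - s * c) • v0 := by
    have := e1.symm.trans e2
    linear_combination (norm := module) -this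
  have hr' : r' - s = 0 := by
    by_contra hne
    exact hav ((r' - s)⁻¹ * (r - s * c)) (by rw [mul_smul, ← e3, inv_smul_smul₀ hne])
  rw [hr', zero_smul] at e3
  have hr : r = s * c := sub_eq_zero.1 ((smul_eq_zero.1 e3.symm).resolve_right hv0)
  have e4 : z = s • (v + c • v0) := by rw [e1, hr]; module
  rw [← hz2, e4, hp.smul (ne0 _ (by simp [hv, hf0])) (by rintro rfl; exact hz (by simp [e4]))]

theorem tv_of {A : Set X} (hA : Hyp N A) {v0 : W} (hv0 : v0 ≠ 0) {f : Module.Dual F W}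
    (hf : ∀ v, v ≠ 0 → (pt v ∈ A ↔ f v = 0)) (hf0 : f v0 = 0) {g : G} (hg : g ∈ E N (pt v0) A)
    {c : F} {a : W} (ha : f a = 1) (hga : g • pt a = pt (a + c • v0)) (v : W) (hv : v ≠ 0) :
    g • pt v = pt (v + (c • f) v • v0) := by
  have hg' := mem_E.1 hg
  have hgf : ∀ v, v ≠ 0 → f v = 0 → g • pt v = pt v := fun v hv e => hg'.2 _ ((hf v hv).2 e)
  by_cases h0 : f v = 0
  · simp [h0, hgf v hv h0]
  have key : ∀ w, f w = 1 → g • pt w = pt (w + c • v0) := by
    intro w hw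
    by_cases hr : ∀ r : F, w - a ≠ r • v0
    · exact h.tv_step hp hv0 hf0 hg'.1 hgf ha hw hga hr
    push Not at hr
    obtain ⟨r, hr⟩ := hr
    obtain ⟨o, ho⟩ := hA.ne
    obtain ⟨z, hz, hzx⟩ := h.exists_ne_mem hA.meet ((hf v0 hv0).2 hf0) ho
    obtain ⟨u, hu, rfl⟩ := hp.surj z
    have hu2 : ∀ r : F, u ≠ r • v0 := fun r e => hzx ((hp.eq_iff _ _ hv0 hu).2 ⟨r, e⟩).symm
    have hfu := (hf u hu).1 hz
    have h1 : f (a + u) = 1 := by simp [ha, hfu]
    refine h.tv_step hp hv0 hf0 hg'.1 hgf h1 hw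
      (h.tv_step hp hv0 hf0 hg'.1 hgf ha h1 hga (by simpa using hu2)) fun s e => hu2 (r - s) ?_
    rw [sub_smul, ← hr, ← e]; abel
  have := key ((f v)⁻¹ • v) (by simp [h0])
  rw [hp.smul hv (inv_ne_zero h0)] at this
  have hne : v + (c • f) v • v0 ≠ 0 := fun e => h0 (by simpa [hf0] using congrArg f e)
  rw [this, ← hp.smul hne (inv_ne_zero h0)]
  congr 1
  simp only [LinearMap.smul_apply, smul_eq_mul, smul_add, smul_smul]
  congr 2
  field_simp

theorem tv1 {v0 : W} (hv0 : v0 ≠ 0) {g : G} (hg : g ∈ N (pt v0)) :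
    ∃ f : Module.Dual F W, f v0 = 0 ∧ ∀ v, v ≠ 0 → g • pt v = pt (v + f v • v0) := by
  by_cases h1 : g = 1
  · exact ⟨0, rfl, fun v _ => by simp [h1]⟩
  have hA := h.hyp_fix hg h1
  obtain ⟨o, ho⟩ := hA.ne
  obtain ⟨a, ha, rfl⟩ := hp.surj o
  obtain ⟨f, hfa, hf⟩ := hp.hyp_ker hA ha ho
  have hf0 : f v0 = 0 := (hf v0 hv0).1 (h.fix _ _ hg)
  have hne : pt v0 ≠ pt a := fun e => ho (e ▸ h.fix _ _ hg)
  obtain ⟨z, hz, hz2⟩ := hp.surj (g • pt a)
  obtain ⟨r, s, rfl⟩ := (hp.col _ _ _ hv0 ha hz hne).1 (hz2 ▸ h.col_N hg (col_right _ _))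
  have hs : s ≠ 0 := by
    rintro rfl
    rw [zero_smul, add_zero] at hz hz2
    rw [hp.smul hv0 (by rintro rfl; simp at hz)] at hz2
    exact ne_smul_of (h.fix _ _ hg) hne hz2
  refine ⟨(r / s) • f, by simp [hf0], h.tv_of hp hA hv0 hf hf0 (mem_E.2 ⟨hg, fun _ h => h⟩) hfa ?_⟩
  rw [← hz2, ← hp.smul hz (inv_ne_zero hs)]
  congr 1
  rw [smul_add, inv_smul_smul₀ hs, smul_smul, add_comm, div_eq_inv_mul]

theorem tv2 [FiniteDimensional F W] {v0 : W} (hv0 : v0 ≠ 0) (f : Module.Dual F W) (hf : f v0 = 0) :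
    ∃ g ∈ N (pt v0), ∀ v, v ≠ 0 → g • pt v = pt (v + f v • v0) := by
  have ne0 : ∀ (f : Module.Dual F W) v, f v0 = 0 → v ≠ 0 → v + f v • v0 ≠ 0 := fun f v hf hv e => by
    have h0 : f v = 0 := by simpa [hf] using congrArg f e
    exact hv (by simpa [h0] using e)
  let Φ : Submodule F (Module.Dual F W) :=
    { carrier := {f | f v0 = 0 ∧ ∃ g ∈ N (pt v0), ∀ v, v ≠ 0 → g • pt v = pt (v + f v • v0)}
      zero_mem' := ⟨rfl, 1, one_mem _, fun v _ => by simp⟩
      add_mem' := by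
        rintro f1 f2 ⟨h1, g1, hg1, e1⟩ ⟨h2, g2, hg2, e2⟩
        refine ⟨by simp [h1, h2], g1 * g2, mul_mem hg1 hg2, fun v hv => ?_⟩
        rw [mul_smul, e2 v hv, e1 _ (ne0 _ _ h2 hv)]
        congr 1
        simp only [map_add, map_smul, h1, LinearMap.add_apply, smul_eq_mul, mul_zero, add_zero]
        module
      smul_mem' := by
        rintro c f ⟨h1, g, hg, e⟩
        refine ⟨by simp [h1], ?_⟩
        by_cases h0 : f = 0
        · exact ⟨1, one_mem _, fun v _ => by simp [h0]⟩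
        obtain ⟨a, ha⟩ := LinearMap.surjective_of_ne_zero h0 1
        have hfix : ∀ v, v ≠ 0 → (g • pt v = pt v ↔ f v = 0) := fun v hv => by
          rw [e v hv]
          refine ⟨fun e2 => ?_, fun e2 => by simp [e2]⟩
          obtain ⟨r, hr⟩ := (hp.eq_iff _ _ hv (ne0 _ _ h1 hv)).1 e2.symm
          by_contra hne
          have h2 : r = 1 := by
            have := congrArg f hr
            simp only [map_add, map_smul, h1, smul_eq_mul, mul_zero, add_zero] at this
            exact (mul_eq_right₀ hne).1 this.symm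
          rw [h2, one_smul, add_eq_left, smul_eq_zero] at hr
          exact hr.elim hne hv0
        have ha0 : a ≠ 0 := by rintro rfl; simp at ha
        have hna : ¬ g • pt a = pt a := by rw [hfix a ha0, ha]; exact one_ne_zero
        have hA := h.hyp_fix hg (by rintro rfl; exact hna (one_smul _ _))
        have hne : pt v0 ≠ pt a := fun e => hna (e ▸ h.fix _ _ hg)
        have ha' : a + c • v0 ≠ 0 := fun e => by simpa [ha, h1] using congrArg f e
        obtain ⟨t, ht, ht2, ht3⟩ := hA.full _ (h.fix _ _ hg) _ hna (pt (a + c • v0))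
          ((hp.col _ _ _ hv0 ha0 ha' hne).2 ⟨c, 1, by rw [one_smul, add_comm]⟩) (fun e => by
            obtain ⟨r, hr⟩ := (hp.eq_iff _ _ hv0 ha').1 e
            simpa [ha, h1] using congrArg f hr)
        exact ⟨t, ht, h.tv_of hp hA hv0 hfix h1 (mem_E.2 ⟨ht, ht2⟩) ha ht3⟩ }
  have : f ∈ Φ := by
    rw [← Subspace.dualCoannihilator_dualAnnihilator_eq (W := Φ), Submodule.mem_dualAnnihilator]
    intro v hv
    rw [Submodule.mem_dualCoannihilator] at hv
    by_cases hv' : v = 0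
    · simp [hv']
    by_cases e : pt v0 = pt v
    · obtain ⟨c, rfl⟩ := (hp.eq_iff _ _ hv0 hv').1 e
      simp [hf]
    obtain ⟨n, hn, hnv⟩ := h.exists_move e
    obtain ⟨f', h1, h2⟩ := h.tv1 hp hv0 hn
    exact absurd (by rw [h2 v hv', hv f' ⟨h1, n, hn, h2⟩]; simp) hnv
  exact this.2

omit h [Finite G] in
theorem PG.exists_equiv : ∃ φ : ℙ F W ≃ X, ∀ v hv, φ (Projectivization.mk F v hv) = pt v := by
  have key : ∀ v hv, pt (Projectivization.mk F v hv).rep = pt v := fun v hv => by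
    obtain ⟨c, hc⟩ := Projectivization.exists_smul_eq_mk_rep F v hv
    rw [← hc]; exact hp.smul hv c.ne_zero
  refine ⟨Equiv.ofBijective (fun P => pt P.rep) ⟨fun P Q e => ?_, fun z => ?_⟩, key⟩
  · obtain ⟨c, hc⟩ := (hp.eq_iff _ _ P.rep_nonzero Q.rep_nonzero).1 e
    rw [← P.mk_rep, ← Q.mk_rep, eq_comm, Projectivization.mk_eq_mk_iff']
    exact ⟨c, hc.symm⟩
  · obtain ⟨v, hv, rfl⟩ := hp.surj z
    exact ⟨_, key v hv⟩

omit hp in
theorem cent_eq_bot [Nontrivial X] : centralizer ((⨆ x, N x : Subgroup G) : Set G) = ⊥ := by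
  rw [eq_bot_iff]
  intro g hg
  apply h.faith
  intro x
  obtain ⟨y, hy⟩ := exists_ne x
  obtain ⟨n, hn, h1, -⟩ := h.ne x y hy.symm
  exact h.center_fix hn h1 (hg n (le_iSup N x hn)).symm

omit hp [Finite G] in
theorem normal_sup : (⨆ x, N x : Subgroup G).Normal := ⟨fun n hn g => by
  refine Subgroup.iSup_induction (C := fun n => g * n * g⁻¹ ∈ (⨆ x, N x : Subgroup G)) N hn
    (fun x n hn => le_iSup N _ (h.conj g x n hn)) (by simp) fun a b ha hb => ?_
  have : g * (a * b) * g⁻¹ = (g * a * g⁻¹) * (g * b * g⁻¹) := by group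
  rw [this]; exact mul_mem ha hb⟩

omit hp in
theorem psl_iso {n : ℕ} {pt : (Fin n → F) → X} (hp : PG N F pt) :
    Nonempty ((⨆ x, N x : Subgroup G) ≃* Matrix.ProjectiveSpecialLinearGroup (Fin n) F) := by
  classical
  obtain ⟨φ, hφ⟩ := hp.exists_equiv
  let κ : G →* Equiv.Perm (ℙ F (Fin n → F)) :=
    (φ.symm.permCongrHom : _ →* _).comp (toPermHom G X)
  have hκ : ∀ g P, φ (κ g P) = g • φ P := fun g P => by simp [κ]
  have hinj : Function.Injective κ := by
    rw [injective_iff_map_eq_one]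
    intro g hg
    refine h.faith g fun x => ?_
    have := hκ g (φ.symm x)
    rw [hg] at this
    simpa using this.symm
  let ρ := toPermHom (Matrix.SpecialLinearGroup (Fin n) F) (ℙ F (Fin n → F))
  have hact : ∀ (g : G) (s : Matrix.SpecialLinearGroup (Fin n) F),
      (∀ v, v ≠ 0 → g • pt v = pt (s.1.mulVec v)) → κ g = ρ s := fun g s e => by
    ext P
    induction P using Projectivization.ind with | _ v hv =>
    apply φ.injective
    rw [hκ, hφ, e v hv]
    exact (hφ _ _).symm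
  have key : (⨆ x, N x : Subgroup G).map κ = ρ.range := by
    apply le_antisymm
    · rw [Subgroup.map_iSup]
      refine iSup_le fun x => ?_
      rintro _ ⟨g, hg, rfl⟩
      obtain ⟨v0, hv0, rfl⟩ := hp.surj x
      obtain ⟨f, hf0, hf⟩ := h.tv1 hp hv0 hg
      have hfv : ∀ v, (fun j => f (Pi.single j 1)) ⬝ᵥ v = f v := fun v => by
        rw [f.pi_apply_eq_sum_univ, dotProduct]
        refine Finset.sum_congr rfl fun j _ => ?_
        rw [smul_eq_mul, mul_comm]
        congr 2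
        ext k; simp [Pi.single_apply, eq_comm]
      refine ⟨⟨1 + Matrix.replicateCol Unit v0 * Matrix.replicateRow Unit fun j => f (Pi.single j 1),
        by rw [Matrix.det_one_add_replicateCol_mul_replicateRow, hfv, hf0, add_zero]⟩,
        (hact _ _ fun v hv => ?_).symm⟩
      rw [hf v hv]
      congr 1
      rw [Matrix.add_mulVec, Matrix.one_mulVec, ← Matrix.vecMulVec_eq, Matrix.vecMulVec_mulVec, hfv]
      simp
    · rintro _ ⟨s, rfl⟩
      have : s ∈ ((⨆ x, N x : Subgroup G).map κ).comap ρ := by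
        rw [H09.eq_top_of_transvection_mem (((⨆ x, N x : Subgroup G).map κ).comap ρ)]
        · trivial
        intro i j hij c
        obtain ⟨g, hg, e⟩ := h.tv2 hp (v0 := Pi.single i 1) (by simp) (c • LinearMap.proj j)
          (by simp [hij.symm])
        refine ⟨g, le_iSup N _ hg, hact _ _ fun v hv => ?_⟩
        rw [e v hv]
        congr 1
        rw [Matrix.SpecialLinearGroup.transvection_coe, Matrix.add_mulVec, Matrix.one_mulVec,
          Matrix.single_mulVec]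
        ext k
        by_cases hk : k = i <;> simp [hk]
      exact this
  have key2 : ρ.range = (Projectivization.PSLAction.toPermHom (K := F) (ι := Fin n)).range := by
    ext σ
    constructor
    · rintro ⟨s, rfl⟩; exact ⟨s, rfl⟩
    · rintro ⟨s, rfl⟩
      obtain ⟨s, rfl⟩ := QuotientGroup.mk_surjective s
      exact ⟨s, rfl⟩
  exact ⟨(((⨆ x, N x : Subgroup G).equivMapOfInjective κ hinj).trans
    (MulEquiv.subgroupCongr (key.trans key2))).trans
    (MonoidHom.ofInjective Matrix.ProjectiveSpecialLinearGroup.toPermHom_injective).symm⟩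

omit hp in
theorem main [Nontrivial X] : ∃ (m : ℕ) (F : Type) (_ : Field F) (_ : Fintype F), 2 ≤ m ∧
    Nat.card X = (Fintype.card F ^ (m + 1) - 1) / (Fintype.card F - 1) ∧ ∃ M : Subgroup G, M.Normal ∧
    Nonempty (M ≃* Matrix.ProjectiveSpecialLinearGroup (Fin (m + 1)) F) ∧
    Subgroup.centralizer (M : Set G) = ⊥ := by
  obtain ⟨x, y, hxy⟩ := exists_pair_ne X
  obtain ⟨F, _, _, n, pt, hn, hp⟩ := h.coord hxy
  obtain ⟨m, rfl⟩ : ∃ m, n = m + 1 := ⟨n - 1, by omega⟩
  obtain ⟨φ, -⟩ := hp.exists_equiv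
  refine ⟨m, F, inferInstance, inferInstance, by omega, ?_, _, h.normal_sup, h.psl_iso hp,
    h.cent_eq_bot⟩
  rw [← Nat.card_congr φ, Projectivization.card'']
  simp

omit h hp [Finite G] in
theorem of_normal [Finite G] (faith : ∀ g : G, (∀ x : X, g • x = x) → g = 1)
    (two : ∀ a b c d : X, a ≠ b → c ≠ d → ∃ g : G, g • a = c ∧ g • b = d) (x : X) (M : Subgroup G)
    (hle : ∀ n ∈ M, n • x = x) (hn : ∀ g : G, g • x = x → ∀ n ∈ M, g * n * g⁻¹ ∈ M)
    (hc : ∀ a ∈ M, ∀ b ∈ M, a * b = b * a) (hns : ∃ n ∈ M, n ≠ 1 ∧ ∃ y, y ≠ x ∧ n • y = y) :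
    ∃ (p : ℕ) (N : X → Subgroup G), ON p N ∧ N x ≤ M := by
  obtain ⟨n, hnM, hn1, y, hyx, hny⟩ := hns
  obtain ⟨p, hp, hpd⟩ := Nat.exists_prime_and_dvd (mt orderOf_eq_one_iff.1 hn1)
  have tr : ∀ z, ∃ g : G, g • x = z := fun z => by
    by_cases e : z = x
    · exact ⟨1, by simp [e]⟩
    · obtain ⟨g, hg, -⟩ := two x z z x (Ne.symm e) e
      exact ⟨g, hg⟩
  have hc' : ∀ g a b : G, g⁻¹ * a * g ∈ M → g⁻¹ * b * g ∈ M → a * b = b * a := fun g a b ha hb => by
    have := hc _ ha _ hb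
    calc a * b = g * (g⁻¹ * a * g * (g⁻¹ * b * g)) * g⁻¹ := by group
      _ = _ := by rw [this]; group
  let N : X → Subgroup G := fun z =>
    { carrier := {a | a ^ p = 1 ∧ ∀ g : G, g • x = z → g⁻¹ * a * g ∈ M}
      one_mem' := ⟨one_pow _, fun g _ => by simp⟩
      inv_mem' := fun {a} ha => ⟨by rw [inv_pow, ha.1, inv_one], fun g hg => by
        simpa [mul_assoc] using M.inv_mem (ha.2 g hg)⟩
      mul_mem' := fun {a b} ha hb => ⟨by
        obtain ⟨g, hg⟩ := tr z
        have : Commute a b := hc' g _ _ (ha.2 g hg) (hb.2 g hg)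
        rw [this.mul_pow, ha.1, hb.1, one_mul], fun g hg => by
          simpa [mul_assoc] using M.mul_mem (ha.2 g hg) (hb.2 g hg)⟩ }
  have hconj : ∀ (g : G) z a, a ∈ N z → g * a * g⁻¹ ∈ N (g • z) := fun g z a ha =>
    ⟨by rw [conj_pow, ha.1]; simp, fun k hk => by
      have := ha.2 (g⁻¹ * k) (by rw [mul_smul, hk, inv_smul_smul])
      simpa [mul_assoc] using this⟩
  refine ⟨p, N, ⟨hp, two, hconj, fun z a ha => ?_, fun z a ha b hb => ?_, fun z a => ⟨1, ?_⟩,
    fun a b hab => ?_, faith⟩, fun a ha => by simpa using ha.2 1 (one_smul _ _)⟩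
  · obtain ⟨g, rfl⟩ := tr z
    have := hle _ (ha.2 g rfl)
    simpa [mul_smul, inv_smul_eq_iff] using this
  · obtain ⟨g, hg⟩ := tr z
    exact hc' g _ _ (ha.2 g hg) (hb.2 g hg)
  · ext; simpa using a.2.1
  · obtain ⟨g, rfl, rfl⟩ := two x y a b hyx.symm hab
    obtain ⟨k, hk⟩ := hpd
    have h0 : 0 < orderOf n := orderOf_pos n
    have hk0 : k ≠ 0 := by rintro rfl; omega
    refine ⟨g * n ^ k * g⁻¹, hconj _ _ _ ⟨by rw [← pow_mul, mul_comm, ← hk, pow_orderOf_eq_one],
      fun g hg => by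
        simpa using hn g⁻¹ (by rw [inv_smul_eq_iff, hg]) _ (M.pow_mem hnM k)⟩, ?_, ?_⟩
    · simp only [ne_eq, conj_eq_one_iff]
      refine pow_ne_one_of_lt_orderOf hk0 ?_
      rw [hk]
      exact lt_mul_left (Nat.pos_of_ne_zero hk0) hp.one_lt
    · have : n ^ k • y = y := (stabilizer G y).pow_mem hny k
      simp [mul_smul, this]

end H05.ON
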