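import Mathlib
import Cfsg.Agent.H08.Simp
import Cfsg.Agent.H08.Util
import Cfsg.Agent.H08.StronglyEmbedded
import Cfsg.Agent.H04.Rank2
import Cfsg.Agent.L.Small
import Cfsg.Agent.S0222
import Cfsg.Agent.S0280

/-!
Simple permutation groups of odd degree whose involutions fix at most three points (helper5):
`bender_bound`, `se_of_fix`, `dih8`, `small_or_gw`.
-/

open Cfsg Subgroup MulAction H08
open scoped MatrixGroups Pointwise

namespace H05.D3

variable {G : Type*} [Group G] [Finite G]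

theorem bender_bound [IsSimpleGroup G] (hG : ¬ IsMulCommutative G) {M : Subgroup G} (hM : IsStronglyEmbedded M) :
    ∃ e : ℕ, 2 ^ e ∣ Nat.card G ∧ Nat.card G < (2 ^ e) ^ 3 := by
  rcases Agent.S0222.result (by by_contra! h; exact hG ⟨⟨h⟩⟩) M hM with ⟨F, _, _, _, h4, ⟨e⟩⟩ | ⟨-, m, -, h⟩ |
    ⟨F, _, _, q, hF, h2, h4, ⟨e⟩⟩
  · obtain ⟨n, -, hn⟩ := FiniteField.card F 2
    have e1 := L.Dk.card_psl (F := F)
    have e2 : Fintype.card F % 2 = 0 := by rw [hn]; exact Nat.mod_eq_zero_of_dvd (dvd_pow_self 2 n.ne_zero)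
    rw [((L.Dk.dd_cases (F := F)).resolve_right (by omega)).2, one_mul, ← Nat.card_congr e.toEquiv] at e1
    refine ⟨n, by rw [e1, ← hn]; exact dvd_mul_right _ _, ?_⟩
    rw [e1, ← hn, pow_succ' _ 2]
    exact Nat.mul_lt_mul_of_pos_left (Nat.sub_lt (by positivity) one_pos) (by omega)
  · refine ⟨(2 * m + 1) * 2, by rw [h, pow_mul, mul_assoc]; exact dvd_mul_right _ _, ?_⟩
    rw [h, pow_mul]
    obtain ⟨k, hk⟩ : ∃ k, 2 ^ (2 * m + 1) = k + 2 := ⟨2 ^ (2 * m + 1) - 2, by
      have := Nat.pow_le_pow_right two_pos (show 1 ≤ 2 * m + 1 by omega); omega⟩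
    rw [hk, show k + 2 - 1 = k + 1 from rfl]
    nlinarith [Nat.zero_le (k ^ 6), Nat.zero_le (k ^ 5), Nat.zero_le (k ^ 4), Nat.zero_le (k ^ 3), Nat.zero_le (k ^ 2)]
  · have e1 := Agent.S0280.result hF 3 (by norm_num)
    simp only [Finset.prod_range_succ, Finset.range_zero, Finset.prod_empty] at e1
    norm_num at e1
    rw [← Nat.card_congr e.toEquiv] at e1
    obtain ⟨r, _, n, hr, hn⟩ := FiniteField.card' F
    have h5 : r = 2 := ((Nat.prime_dvd_prime_iff_eq Nat.prime_two hr).1 (Nat.prime_two.dvd_of_dvd_pow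
      (hn ▸ hF ▸ (even_iff_two_dvd.1 h2).trans (dvd_pow_self q two_ne_zero)))).symm
    subst h5
    obtain ⟨a, -, ha⟩ := (Nat.dvd_prime_pow Nat.prime_two).1 (show q ∣ 2 ^ (n : ℕ) from hn ▸ hF ▸ dvd_pow_self q two_ne_zero)
    have e2 : Nat.gcd 3 (q + 1) * Nat.card G = q ^ 3 * ((q ^ 2 - 1) * (q ^ 3 + 1)) :=
      Nat.eq_of_mul_eq_mul_left (show 0 < q + 1 by omega) (by linear_combination e1)
    refine ⟨a * 3, ?_, ?_⟩
    · refine Nat.Coprime.dvd_of_dvd_mul_left (m := Nat.gcd 3 (q + 1)) ?_ (by rw [e2, pow_mul, ← ha]; exact dvd_mul_right _ _)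
      exact Nat.Coprime.pow_left _ (Nat.Coprime.coprime_dvd_right (Nat.gcd_dvd_left _ _) (by norm_num))
    · rw [pow_mul, ← ha]
      refine lt_of_le_of_lt (Nat.le_mul_of_pos_left _ (Nat.gcd_pos_of_pos_left (q + 1) (by norm_num : 0 < 3))) ?_
      rw [e2, pow_succ' (q ^ 3) 2]
      refine Nat.mul_lt_mul_of_pos_left ?_ (Nat.pow_pos (lt_of_lt_of_le (by norm_num) h4))
      obtain ⟨k, rfl⟩ : ∃ k, q = k + 4 := ⟨q - 4, by omega⟩
      refine lt_of_le_of_lt (Nat.mul_le_mul_right _ (Nat.sub_le _ _)) ?_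
      nlinarith [Nat.zero_le (k ^ 6), Nat.zero_le (k ^ 5), Nat.zero_le (k ^ 4), Nat.zero_le (k ^ 3), Nat.zero_le (k ^ 2)]

variable {Ω : Type*} [MulAction G Ω]

omit [Finite G] in
theorem fix_conj (g s : G) : fixedBy Ω (g * s * g⁻¹) = g • fixedBy Ω s := (smul_fixedBy Ω s g).symm

theorem se_of_fix [IsPretransitive G Ω] (S : Sylow 2 G) {z : G} (hz : z ∈ (S : Subgroup G)) (z2 : orderOf z = 2)
    (h1 : (fixedBy Ω z).Nonempty) (h2 : fixedBy Ω z ≠ Set.univ)
    (h : ∀ s ∈ (S : Subgroup G), orderOf s = 2 → fixedBy Ω s = fixedBy Ω z) :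
    IsStronglyEmbedded (stabilizer G (fixedBy Ω z)) := by
  have hS : (S : Subgroup G) ≤ stabilizer G (fixedBy Ω z) := fun s hs => by
    rw [mem_stabilizer_iff, ← fix_conj]
    exact h _ (mul_mem (mul_mem hs hz) (inv_mem hs)) (by rw [orderOf_conj', z2])
  have key : ∀ t ∈ stabilizer G (fixedBy Ω z), orderOf t = 2 → fixedBy Ω t = fixedBy Ω z := fun t ht t2 => by
    obtain ⟨g, hg⟩ := exists_conj_mem_sylow (S.subtype hS) (x := ⟨t, ht⟩)
      (isPGroup_zpowers_of_orderOf (by rw [← Subgroup.orderOf_coe]; exact t2))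
    have e := h (g * t * (g : G)⁻¹) hg (by rw [orderOf_conj', t2])
    rw [fix_conj] at e
    exact smul_left_cancel (g : G) (e.trans (mem_stabilizer_iff.1 g.2).symm)
  refine isStronglyEmbedded_iff.2 ⟨fun e => h2 ?_, ⟨z, hS hz, z2⟩, fun t ht t2 g hg => ?_⟩
  · obtain ⟨a, ha⟩ := h1
    refine Set.eq_univ_of_forall fun b => ?_
    obtain ⟨g, rfl⟩ := exists_smul_eq G a b
    rw [← mem_stabilizer_iff.1 (show g ∈ stabilizer G (fixedBy Ω z) from e ▸ mem_top g)]
    exact Set.smul_mem_smul_set ha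
  · have e := key _ hg (by rw [orderOf_conj', t2])
    rwa [fix_conj, key t ht t2] at e

theorem dih8 (h8 : Nat.card G ∣ 8) {s z : G} (s2 : orderOf s = 2) (z2 : orderOf z = 2) (hne : s ≠ z)
    (hz : ∀ g, Commute g z) (hs : Nat.card G = 8 → ∃ g, ¬ Commute g s) : ∃ n, Nonempty (G ≃* DihedralGroup n) := by
  have h3 : ∀ A : Subgroup G, s ∈ A → z ∈ A → 2 < Nat.card A := fun A h1 h2 => by
    have := Set.ncard_le_ncard (s := {1, s, z}) (t := (A : Set G)) (by
      rintro _ (rfl | rfl | rfl); exacts [A.one_mem, h1, h2])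
    rw [Set.ncard_eq_three.2 ⟨_, _, _, (ne_one_of_orderOf s2).symm, (ne_one_of_orderOf z2).symm, hne, rfl⟩] at this
    exact this
  have h4 := h3 ⊤ trivial trivial
  rw [card_top] at h4
  have h5 : Nat.card G = 4 ∨ Nat.card G = 8 := by
    have := Nat.le_of_dvd (by norm_num) h8
    interval_cases h : Nat.card G <;> simp_all
  rcases h5 with h5 | h5
  · have hi : (zpowers z).index = 2 := by
      have := (zpowers z).card_mul_index
      rw [Nat.card_zpowers, z2, h5] at this; omega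
    have hs' : s ∉ zpowers z := fun h => by
      have := h3 _ h (mem_zpowers z); rw [Nat.card_zpowers, z2] at this; omega
    refine ⟨_, L.iso_dihedral (zpowers z) hi fun g hg => ?_⟩
    obtain ⟨k, hk⟩ := (mul_mem_iff_of_index_two hi).2 (iff_of_false hg hs')
    have e : g = z ^ k * s := by simp only [hk, mul_assoc, mul_self_of_orderOf s2, mul_one]
    rw [e, ((hz s).zpow_right k).mul_mul_mul_comm, mul_self_of_orderOf s2, ← (Commute.refl z).mul_zpow, mul_self_of_orderOf z2]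
    simp
  · obtain ⟨g, hg⟩ := hs h5
    have hp : IsPGroup 2 G := IsPGroup.of_card (n := 3) h5
    have h6 : Nat.card (centralizer ({s} : Set G)) ≤ 4 := by
      have e1 := (centralizer ({s} : Set G)).card_mul_index
      have e2 : (centralizer ({s} : Set G)).index ≠ 1 := fun e => hg (mem_centralizer_singleton_iff.1
        (index_eq_one.1 e ▸ mem_top g))
      have e3 := (centralizer ({s} : Set G)).index_ne_zero_of_finite
      rw [h5] at e1
      nlinarith [show 2 ≤ (centralizer ({s} : Set G)).index by omega]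
    rcases (H04.isDSQ_of_card_cent_le hp (fun h => hg (h.1.1 g s)) h6).dihedral_or_sd (fun h => by
      have hc : ∀ x ∈ ({s, z} : Set G), ∀ y ∈ ({s, z} : Set G), x * y = y * x := by
        rintro _ (rfl | rfl) _ (rfl | rfl)
        exacts [rfl, hz _, (hz _).symm, rfl]
      have := isMulCommutative_closure hc
      have e := h (closure {s, z}) this fun a ha => by
        induction ha using closure_induction with
        | mem x hx => rcases hx with rfl | rfl <;> [rw [← s2]; rw [← z2]] <;> exact pow_orderOf_eq_one _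
        | one => simp
        | mul x y hx hy e1 e2 =>
          rw [Commute.mul_pow (show Commute x y from congrArg Subtype.val (this.1.1 ⟨x, hx⟩ ⟨y, hy⟩)), e1, e2, one_mul]
        | inv x _ e => rw [inv_pow, e, inv_one]
      have := h3 (closure {s, z}) (subset_closure (by simp)) (subset_closure (by simp))
      omega) with ⟨m, h⟩ | ⟨n, h1, h2, -⟩
    · exact ⟨_, h⟩
    · have := Nat.pow_le_pow_right two_pos (show 4 ≤ n + 1 by omega); omega

omit [Finite G] in
theorem ncard_fix_conj {s t : G} (h : IsConj s t) : (fixedBy Ω t).ncard = (fixedBy Ω s).ncard := by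
  obtain ⟨g, rfl⟩ := isConj_iff.1 h
  rw [fix_conj, Set.ncard_smul_set]

omit [Finite G] in
theorem smul_mem_fix {g s : G} (h : Commute g s) {x : Ω} (hx : x ∈ fixedBy Ω s) : g • x ∈ fixedBy Ω s := by
  rw [mem_fixedBy, ← mul_smul, ← h.eq, mul_smul, mem_fixedBy.1 hx]

theorem exists_fix [Finite Ω] (ho : Odd (Nat.card Ω)) {S : Subgroup G} (hS : IsPGroup 2 S) :
    ∃ a : Ω, ∀ s ∈ S, s • a = a := by
  obtain ⟨a, ha⟩ := hS.nonempty_fixed_point_of_prime_not_dvd_card Ω (Nat.two_dvd_ne_zero.2 (Nat.odd_iff.1 ho))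
  exact ⟨a, fun s hs => ha ⟨s, hs⟩⟩

omit [Finite G] in
theorem orbit_ncard' (S : Subgroup G) (x : Ω) : (orbit S x).ncard = (stabilizer G x).relIndex S := by
  rw [← index_stabilizer]; rfl

theorem exists_invol {S : Subgroup G} (h : 2 ∣ Nat.card S) : ∃ v ∈ S, orderOf v = 2 := by
  obtain ⟨v, hv⟩ := exists_prime_orderOf_dvd_card' 2 h
  exact ⟨v, v.2, by rw [Subgroup.orderOf_coe, hv]⟩

theorem small_or_gw [IsSimpleGroup G] (hG : ¬ IsMulCommutative G) [Finite Ω] [IsPretransitive G Ω]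
    (ho : Odd (Nat.card Ω)) (h3 : 3 < Nat.card Ω) {t : G} (ht : orderOf t = 2) (hc : ∀ u, orderOf u = 2 → IsConj t u)
    (hf : (fixedBy Ω t).ncard ≤ 3) (h16 : ¬ 16 ∣ Nat.card G) :
    Nat.card G < 512 ∨ Nat.card G = 2520 ∨ ∃ q : ℕ, Odd q ∧ 3 < q ∧ 2 * Nat.card G = q * (q ^ 2 - 1) ∧
      (Nat.card (centralizer ({t} : Set G)) + 1 = q ∨ Nat.card (centralizer ({t} : Set G)) = q + 1) := by
  obtain ⟨S⟩ : Nonempty (Sylow 2 G) := inferInstance
  have h2 : ∀ e, 2 ^ e ∣ Nat.card G → 2 ^ e ∣ 8 := fun e he => pow_dvd_pow 2 (n := 3)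
    (not_lt.1 fun h => h16 ((pow_dvd_pow 2 (show 4 ≤ e from h)).trans he))
  obtain ⟨n, hn⟩ := IsPGroup.iff_card.1 S.2
  have h8 : Nat.card S ∣ 8 := hn ▸ h2 n (hn ▸ card_subgroup_dvd_card _)
  obtain ⟨z, hz, -, z2, zc⟩ := exists_central_invol S.2 (N := ⊤) (by rw [normalizer_eq_top]; exact le_top) (by
    rw [inf_top_eq]; exact S.ne_bot_of_dvd_card (ht ▸ orderOf_dvd_natCard t))
  obtain ⟨a, ha⟩ := exists_fix ho S.2
  have hf' : ∀ u, orderOf u = 2 → (fixedBy Ω u).ncard = (fixedBy Ω t).ncard := fun u hu => ncard_fix_conj (hc u hu)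
  by_cases h : ∀ s ∈ (S : Subgroup G), orderOf s = 2 → fixedBy Ω s = fixedBy Ω z
  · obtain ⟨e, e1, e2⟩ := bender_bound hG (se_of_fix S hz z2 ⟨a, ha z hz⟩ (fun e => by
      have := hf' z z2; rw [e, Set.ncard_univ] at this; omega) h)
    exact Or.inl (e2.trans_le (Nat.pow_le_pow_left (Nat.le_of_dvd (by norm_num) (h2 e e1)) 3))
  push Not at h
  obtain ⟨s, hs, s2, hne⟩ := h
  obtain ⟨m, ⟨e⟩⟩ := dih8 (G := S) h8 (s := ⟨s, hs⟩) (z := ⟨z, hz⟩) (by rw [← Subgroup.orderOf_coe]; exact s2)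
    (by rw [← Subgroup.orderOf_coe]; exact z2) (fun e => hne (by rw [show s = z from congrArg Subtype.val e]))
    (fun g => Subtype.ext (zc g g.2)) fun h8' => by
      by_contra! sc
      have sc' : ∀ g ∈ (S : Subgroup G), Commute g s := fun g hg => congrArg Subtype.val (sc ⟨g, hg⟩)
      obtain ⟨b, b1, b2⟩ := Set.not_subset.1 fun h => hne (Set.eq_of_subset_of_ncard_le h (by
        rw [hf' s s2, hf' z z2])).symm
      obtain ⟨c, c1, c2⟩ := Set.not_subset.1 fun h => hne (Set.eq_of_subset_of_ncard_le h (by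
        rw [hf' s s2, hf' z z2]))
      have key : ∀ w ∈ (S : Subgroup G), orderOf w = 2 → (∀ g ∈ (S : Subgroup G), Commute g w) → ∀ x ∈ fixedBy Ω w, x ≠ a →
          (stabilizer G x).relIndex S ≤ 2 := fun w hw w2 wc x hx xa => by
        rw [← orbit_ncard']
        refine (Set.ncard_le_ncard (t := fixedBy Ω w \ {a}) ?_).trans ?_
        · rintro _ ⟨g, rfl⟩
          exact ⟨smul_mem_fix (wc g g.2) hx, fun e => xa (smul_left_cancel (g : G) (e.trans (ha g g.2).symm))⟩
        · rw [Set.ncard_sdiff_singleton_of_mem (show a ∈ fixedBy Ω w from ha w hw), hf' w w2]; omega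
      have ba : b ≠ a := fun e => b2 (e ▸ ha s hs)
      have ca : c ≠ a := fun e => c2 (e ▸ ha z hz)
      have bc : b ≠ c := fun e => b2 (e ▸ c1)
      have k1 := relIndex_inf_le (H := stabilizer G b) (K := stabilizer G c) (L := S)
      have k2 := Nat.mul_le_mul (key z hz z2 zc b b1 ba) (key s hs s2 sc' c c1 ca)
      have k3 := ((stabilizer G b ⊓ stabilizer G c).subgroupOf S).card_mul_index
      rw [h8'] at k3
      obtain ⟨v, v1, v2⟩ := exists_invol (S := (stabilizer G b ⊓ stabilizer G c).subgroupOf S) (by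
        have k4 : ((stabilizer G b ⊓ stabilizer G c).subgroupOf S).index ≤ 4 := k1.trans k2
        have := Nat.le_of_dvd (by norm_num) (Dvd.intro _ k3)
        interval_cases Nat.card ((stabilizer G b ⊓ stabilizer G c).subgroupOf S) <;> omega)
      have k5 : {a, b, c} = fixedBy Ω (v : G) := Set.eq_of_subset_of_ncard_le (by
        rintro _ (rfl | rfl | rfl); exacts [ha v v.2, v1.1, v1.2]) (by
        rw [Set.ncard_eq_three.2 ⟨_, _, _, ba.symm, ca.symm, bc, rfl⟩, hf' v (by rw [Subgroup.orderOf_coe, v2])]; exact hf)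
      have k6 := smul_mem_fix (zc v v.2).symm (x := c) v1.2
      rw [← k5] at k6
      rcases k6 with e | e | e
      exacts [ca (smul_left_cancel z (e.trans (ha z hz).symm)), bc (smul_left_cancel z (e.trans (mem_fixedBy.1 b1).symm)).symm,
        c2 e]
  rcases NA.gw hG S e with ⟨F, _, _, f1, f2, ⟨f⟩⟩ | ⟨⟨f⟩⟩
  · refine Or.inr (Or.inr ⟨_, f1, f2, by rw [Nat.card_congr f.toEquiv, card_psl2 f1], ?_⟩)
    obtain ⟨r, r1, r2, -, r3⟩ := psl_invol f1 (t := f t) (by rw [f.orderOf_eq, ht])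
    have : Nat.card (centralizer ({t} : Set G)) = Nat.card (centralizer ({f t} : Set PSL(2, F))) :=
      Nat.card_congr (f.toEquiv.subtypeEquiv fun x => by
        simp only [mem_centralizer_singleton_iff, MulEquiv.toEquiv_eq_coe, EquivLike.coe_coe, ← map_mul, f.apply_eq_iff_eq])
    rw [this, r2, L.Dk.card_torusNBar r1]
    omega
  · refine Or.inr (Or.inl ?_)
    have := two_mul_nat_card_alternatingGroup (α := Fin 7)
    rw [Nat.card_perm, Nat.card_fin] at this
    rw [Nat.card_congr f.toEquiv]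
    rw [show Nat.factorial 7 = 5040 by decide] at this
    omega

end H05.D3
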