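import Mathlib
import Cfsg.Agent.H05.D3p2
import Cfsg.Agent.H05.Frobenius
import Cfsg.Agent.H08.IsoElt
import Cfsg.Agent.H18.Zass
import Cfsg.Agent.H01.Basic
import Cfsg.Agent.S0205

/-!
Doubly transitive groups with an involution `t` such that all non-identity elements of `C(t)` fix the same number of
points (helper5): `reg_of_solv`, `Cx.sw` (all elements interchanging two points are conjugate to `t`), `Cx.three`, `Cx.simple`.
-/

open Subgroup MulAction Cfsg
open scoped Pointwise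

namespace H05.Cfix

variable {G Ω : Type*} [Group G] [Finite G] [MulAction G Ω] [Finite Ω]

/-- `G` has a regular normal subgroup. -/
def Reg (G Ω : Type*) [Group G] [MulAction G Ω] : Prop :=
  ∃ R : Subgroup G, R.Normal ∧ (∀ x y : Ω, ∃ r ∈ R, r • x = y) ∧ ∀ x : Ω, ∀ r ∈ R, r • x = x → r = 1

/-- The hypothesis. -/
structure Cx (Ω : Type*) [MulAction G Ω] (i : ℕ) (t : G) : Prop where
  two : ∀ a b c d : Ω, a ≠ b → c ≠ d → ∃ g : G, g • a = c ∧ g • b = d
  ft : ∀ g : G, (∀ x : Ω, g • x = x) → g = 1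
  ord : orderOf t = 2
  fix : ∀ g : G, Commute g t → g ≠ 1 → (fixedBy Ω g).ncard = i

omit [Finite G] [Finite Ω] in
theorem reg_of_solv (two : ∀ a b c d : Ω, a ≠ b → c ≠ d → ∃ g : G, g • a = c ∧ g • b = d)
    (ft : ∀ g : G, (∀ x : Ω, g • x = x) → g = 1) (N : Subgroup G) [N.Normal] [Group.IsSolvable N] (hN : N ≠ ⊥) : Reg G Ω := by
  obtain ⟨M, _, -, m1, m2⟩ := H01.exists_abelian_normal_le N hN
  obtain ⟨⟨m, hm⟩, m3⟩ := ne_bot_iff_exists_ne_one.1 m1
  obtain ⟨a, ha⟩ : ∃ a : Ω, m • a ≠ a := by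
    by_contra e; push Not at e; exact m3 (Subtype.ext (ft m e))
  have tr : ∀ x y : Ω, ∃ r ∈ M, r • x = y := fun x y => by
    rcases eq_or_ne x y with rfl | e
    · exact ⟨1, one_mem _, one_smul _ _⟩
    obtain ⟨g, h1, h2⟩ := two a (m • a) x y ha.symm e
    exact ⟨g * m * g⁻¹, ‹M.Normal›.conj_mem m hm g, by rw [mul_smul, mul_smul, ← h1, inv_smul_smul, h2]⟩
  refine ⟨M, ‹_›, tr, fun x r hr e => ft r fun y => ?_⟩
  obtain ⟨s, hs, rfl⟩ := tr x y
  rw [← mul_smul, show r * s = s * r from congrArg Subtype.val (m2.1.1 ⟨r, hr⟩ ⟨s, hs⟩), mul_smul, e]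

namespace Cx

variable {i : ℕ} {t : G} (h : Cx Ω i t)
include h

omit [Finite G] [Finite Ω] in
theorem ne : t ≠ 1 := H08.ne_one_of_orderOf h.ord

omit [Finite G] [Finite Ω] in
theorem sq : t * t = 1 := H08.mul_self_of_orderOf h.ord

omit [Finite G] [Finite Ω] in
theorem conj {u : G} (e : IsConj t u) : Cx Ω i u := by
  obtain ⟨k, rfl⟩ := isConj_iff.1 e
  refine ⟨h.two, h.ft, by rw [H08.orderOf_conj', h.ord], fun g hg g1 => ?_⟩
  rw [← h.fix (k⁻¹ * g * k⁻¹⁻¹) (by simpa [mul_assoc] using hg.conj k⁻¹) (fun e => g1 (conj_eq_one_iff.1 e))]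
  exact (H05.D3.ncard_fix_conj (isConj_iff.2 ⟨_, rfl⟩)).symm

omit [Finite G] [Finite Ω] in
theorem fixt : (fixedBy Ω t).ncard = i := h.fix t rfl h.ne

theorem lt : i < Nat.card Ω := by
  rw [← h.fixt, ← Set.ncard_univ]
  exact Set.ncard_lt_ncard (Set.ssubset_univ_iff.2 fun e => h.ne (h.ft t fun x => e.ge (Set.mem_univ x)))

theorem dvd : Nat.card (centralizer {t}) ∣ Nat.card Ω - i := by
  classical
  have := Fintype.ofFinite G
  have := Fintype.ofFinite Ω
  have e := sum_card_fixedBy_eq_card_orbits_mul_card_group (centralizer {t}) Ω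
  rw [← Finset.add_sum_erase _ _ (Finset.mem_univ 1), Finset.sum_congr rfl (g := fun _ => i) fun c hc => by
    rw [← h.fix c (mem_centralizer_singleton_iff.1 c.2) fun e => Finset.ne_of_mem_erase hc (Subtype.ext e),
      ← Nat.card_coe_set_eq, Nat.card_eq_fintype_card]; rfl] at e
  simp only [fixedBy_one_eq_univ, Finset.sum_const, Finset.card_erase_of_mem (Finset.mem_univ _), Finset.card_univ,
    smul_eq_mul, ← Nat.card_eq_fintype_card, Nat.card_univ] at e
  have h1 := h.lt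
  obtain ⟨m, hm⟩ : ∃ m, Nat.card (centralizer {t}) = m + 1 := Nat.exists_eq_add_one_of_ne_zero Nat.card_pos.ne'
  rw [hm] at e ⊢
  refine (Nat.dvd_add_left (Dvd.intro i rfl)).1 (Dvd.intro_left _ (e.symm.trans ?_))
  rw [Nat.add_sub_cancel, add_mul]; omega

theorem sw' {a b : Ω} (hab : a ≠ b) : (∀ s : G, s • a = b → s • b = a → IsConj t s) ∧
    Nat.card (centralizer {t}) = Nat.card Ω - i := by
  classical
  have := Fintype.ofFinite G
  have := Fintype.ofFinite Ω
  let S := Finset.univ.filter fun s : G => s • a = b ∧ s • b = a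
  let S' := S.filter fun s => IsConj t s
  let A := Finset.univ.filter fun g : G => (g * t * g⁻¹) • a = b
  let T := Finset.univ.filter fun x : Ω => t • x ≠ x
  have e0 : T.card = Nat.card Ω - i := by
    rw [← h.fixt, ← Set.ncard_compl, ← Set.ncard_coe_finset]; congr 1; ext; simp [T]
  have e1 : S.card * T.card ≤ A.card := Finset.mul_card_image_le_card_of_maps_to (f := fun g => g⁻¹ • a) (fun g hg => by
      simp only [T, A, Finset.mem_filter, Finset.mem_univ, true_and, mul_smul] at hg ⊢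
      exact fun e => hab (by rw [← hg, e, smul_inv_smul])) _ fun x hx => by
    obtain ⟨k, h1, h2⟩ := h.two x (t • x) b a (Finset.mem_filter.1 hx).2.symm hab.symm
    refine Finset.card_le_card_of_injOn (· * k) (fun s hs => ?_) fun _ _ _ _ => mul_right_cancel
    simp only [S, A, Finset.coe_filter, Finset.mem_filter, Finset.mem_univ, true_and, Set.mem_ofPred_eq] at hs ⊢
    have : (s * k)⁻¹ • a = x := by rw [inv_smul_eq_iff, mul_smul, h1, hs.2]
    exact ⟨by rw [mul_smul, mul_smul, this, mul_smul, h2, hs.1], this⟩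
  have e2 : A.card ≤ Nat.card (centralizer {t}) * S'.card := Finset.card_le_mul_card_image_of_maps_to
    (f := fun g => g * t * g⁻¹) (fun g hg => by
      simp only [S, S', A, Finset.mem_filter, Finset.mem_univ, true_and] at hg ⊢
      exact ⟨⟨hg, by rw [← hg, smul_smul, conj_mul, h.sq]; simp⟩, isConj_iff.2 ⟨g, rfl⟩⟩) _ fun s hs => by
    obtain ⟨k, rfl⟩ := isConj_iff.1 (Finset.mem_filter.1 hs).2
    rw [← SetLike.coe_sort_coe, Nat.card_coe_set_eq, Set.ncard_eq_toFinset_card']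
    refine Finset.card_le_card_of_injOn (k⁻¹ * ·) (fun g hg => ?_) fun _ _ _ _ => mul_left_cancel
    have := (Finset.mem_filter.1 hg).2
    rw [Set.coe_toFinset, SetLike.mem_coe, mem_centralizer_singleton_iff]
    calc k⁻¹ * g * t = k⁻¹ * (g * t * g⁻¹) * g := by group
      _ = t * (k⁻¹ * g) := by rw [this]; group
  have e3 := Nat.le_of_dvd (by have := h.lt; omega) h.dvd
  have e4 : S'.card ≤ S.card := Finset.card_filter_le _ _
  have e5 : 0 < S.card := Finset.card_pos.2 ((h.two a b b a hab hab.symm).imp fun g hg => by simpa [S] using hg)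
  have e6 : 0 < Nat.card (centralizer {t}) := Nat.card_pos
  rw [e0] at e1
  exact ⟨fun s s1 s2 => (Finset.mem_filter.1 ((Finset.eq_of_subset_of_card_le (Finset.filter_subset _ S)
    (by nlinarith)).ge (show s ∈ S by simp [S, s1, s2]))).2, by nlinarith⟩

theorem sw {a b : Ω} (hab : a ≠ b) {s : G} (h1 : s • a = b) (h2 : s • b = a) : IsConj t s := (h.sw' hab).1 s h1 h2

theorem inv {a b : Ω} (hab : a ≠ b) {s d : G} (h1 : s • a = b) (h2 : s • b = a) (ha : d • a = a) (hb : d • b = b) :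
    s * d * s⁻¹ = d⁻¹ := by
  have := (h.conj (h.sw hab (s := s * d) (by rw [mul_smul, ha, h1]) (by rw [mul_smul, hb, h2]))).sq
  rw [inv_eq_of_mul_eq_one_left (h.conj (h.sw hab h1 h2)).sq, eq_inv_iff_mul_eq_one, ← this]; group

theorem comm {a b : Ω} (hab : a ≠ b) {d e : G} (ha : d • a = a) (hb : d • b = b) (ea : e • a = a) (eb : e • b = b) :
    Commute d e := by
  obtain ⟨s, h1, h2⟩ := h.two a b b a hab hab.symm
  have := h.inv hab h1 h2 (d := d * e) (by rw [mul_smul, ea, ha]) (by rw [mul_smul, eb, hb])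
  rw [← conj_mul, h.inv hab h1 h2 ha hb, h.inv hab h1 h2 ea eb, ← mul_inv_rev, inv_inj] at this
  exact this.symm

theorem invol {u : G} (hu : orderOf u = 2) : IsConj t u := by
  obtain ⟨a, ha⟩ : ∃ a : Ω, u • a ≠ a := by
    by_contra e; push Not at e; exact H08.ne_one_of_orderOf hu (h.ft u e)
  exact h.sw ha.symm rfl (by rw [smul_smul, H08.mul_self_of_orderOf hu, one_smul])

theorem fix_eq {c : G} (hc : Commute c t) (c2 : c * c ≠ 1) : fixedBy Ω c = fixedBy Ω t := by
  have k : ∀ c : G, Commute c t → c * c ≠ 1 → fixedBy Ω c = fixedBy Ω (c * c) := fun c hc c2 =>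
    Set.eq_of_subset_of_ncard_le (fun x hx => by rw [mem_fixedBy] at hx ⊢; rw [mul_smul, hx, hx])
      (by rw [h.fix _ (hc.mul_left hc) c2, h.fix c hc fun e => c2 (by rw [e, mul_one])])
  have e : c * t * (c * t) = c * c := by rw [hc.symm.mul_mul_mul_comm, h.sq, mul_one]
  refine Set.eq_of_subset_of_ncard_le (fun x hx => ?_) (by rw [h.fixt, h.fix c hc fun e => c2 (by rw [e, mul_one])])
  have : x ∈ fixedBy Ω (c * t) := by rwa [k _ (hc.mul_left rfl) (e ▸ c2), e, ← k c hc c2]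
  rw [mem_fixedBy, mul_smul] at this
  exact MulAction.injective c (this.trans hx.symm)

theorem le_two : i ≤ 2 := by
  by_contra hi
  obtain ⟨a, b, e, ha, hb, he, hab, hae, hbe⟩ := (Set.two_lt_ncard_iff (s := fixedBy Ω t)).1 (by rw [h.fixt]; omega)
  have cs : ∀ {x y : Ω} {s : G}, x ≠ y → x ∈ fixedBy Ω t → y ∈ fixedBy Ω t → s • x = y → s • y = x → Commute s t :=
    fun {x y s} e hx hy h1 h2 => by
      rw [Commute, SemiconjBy, ← mul_inv_eq_iff_eq_mul, h.inv e h1 h2 hx hy, inv_eq_of_mul_eq_one_left h.sq]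
  have ex : ∀ c : G, Commute c t → c * c = 1 := fun c hc => by_contra fun c2 => by
    have f := h.fix_eq hc c2
    obtain ⟨s, s1, s2⟩ := h.two a b b a hab hab.symm
    obtain ⟨r, r1, r2⟩ := h.two a e e a hae hae.symm
    have w1 : (s * r) • e = b := by rw [mul_smul, r2, s1]
    have w2 : s * r * (s * r) = 1 := by_contra fun w2 => hbe (w1.symm.trans
      ((h.fix_eq ((cs hab ha hb s1 s2).mul_left (cs hae ha he r1 r2)) w2).ge he))
    have := h.inv hbe.symm w1 (by rw [← w1, smul_smul, w2, one_smul]) (f.ge he) (f.ge hb)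
    rw [show s * r * c * (s * r)⁻¹ = s * (r * c * r⁻¹) * s⁻¹ by group, h.inv hae r1 r2 (f.ge ha) (f.ge he), ← conj_inv,
      h.inv hab s1 s2 (f.ge ha) (f.ge hb), inv_inv, eq_inv_iff_mul_eq_one] at this
    exact c2 this
  have cc : ∀ c d : G, Commute c t → Commute d t → Commute c d := fun c d hc hd => by
    have := inv_eq_of_mul_eq_one_left (ex _ (hc.mul_left hd))
    rw [mul_inv_rev, inv_eq_of_mul_eq_one_left (ex c hc), inv_eq_of_mul_eq_one_left (ex d hd)] at this
    exact this.symm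
  have tr : ∀ x ∈ fixedBy Ω t, ∃ c, Commute c t ∧ c • a = x := fun x hx => by
    rcases eq_or_ne a x with rfl | e
    · exact ⟨1, Commute.one_left _, one_smul _ _⟩
    · obtain ⟨s, s1, s2⟩ := h.two a x x a e e.symm
      exact ⟨s, cs e ha hx s1 s2, s1⟩
  have fx : ∀ d, Commute d t → d • a = a → ∀ x ∈ fixedBy Ω t, d • x = x := fun d hd e x hx => by
    obtain ⟨c, hc, rfl⟩ := tr x hx
    rw [smul_smul, (cc d c hd hc).eq, mul_smul, e]
  have p2 : IsPGroup 2 (centralizer {t}) := fun c =>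
    ⟨1, Subtype.ext (by simpa [_root_.sq] using ex c (mem_centralizer_singleton_iff.1 c.2))⟩
  obtain ⟨m, hm⟩ := IsPGroup.iff_card.1 p2
  have d1 : i ∣ 2 ^ m := by
    rw [← hm, ← h.fixt, show fixedBy Ω t = orbit (centralizer {t}) a from Set.ext fun x => ⟨fun hx =>
      (tr x hx).elim fun c hc => ⟨⟨c, mem_centralizer_singleton_iff.2 hc.1⟩, hc.2⟩, by
        rintro ⟨c, rfl⟩; exact H05.D3.smul_mem_fix (mem_centralizer_singleton_iff.1 c.2) ha⟩, H05.D3.orbit_ncard']
    exact relIndex_dvd_card _ _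
  let N : Subgroup G := stabilizer G (fixedBy Ω t) ⊓ stabilizer G a
  have nb : ∀ g : G, g • a = a → g • b ∈ fixedBy Ω t → g ∈ N := fun g g1 g2 => by
    have g3 : a ≠ g • b := fun e => hab (MulAction.injective g (g1.trans e))
    have g4 : (g * t * g⁻¹) • a = a := by rw [mul_smul, mul_smul, inv_smul_eq_iff.2 g1.symm, ha, g1]
    refine mem_inf.2 ⟨?_, g1⟩
    rw [mem_stabilizer_iff, ← H05.D3.fix_conj]
    exact (Set.eq_of_subset_of_ncard_le (fx _ (h.comm g3 g4 (by rw [mul_smul, mul_smul, inv_smul_smul, hb]) ha g2) g4)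
      (H05.D3.ncard_fix_conj (isConj_iff.2 ⟨g, rfl⟩)).le).symm
  have o1 : orbit N b = fixedBy Ω t \ {a} := Set.ext fun x => ⟨by
    rintro ⟨g, rfl⟩
    exact ⟨g.2.1.le (Set.smul_mem_smul_set hb), fun e => hab (MulAction.injective (g : G) (g.2.2.trans e.symm))⟩, fun hx => by
    obtain ⟨g, g1, g2⟩ := h.two a b a x hab (Ne.symm hx.2)
    exact ⟨⟨g, nb g g1 (g2 ▸ hx.1)⟩, g2⟩⟩
  have o2 : orbit (stabilizer G a) b = Set.univ \ {a} := Set.ext fun x => ⟨by
    rintro ⟨g, rfl⟩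
    exact ⟨trivial, fun e => hab (MulAction.injective (g : G) (g.2.trans e.symm))⟩, fun hx => by
    obtain ⟨g, g1, g2⟩ := h.two a b a x hab (Ne.symm hx.2)
    exact ⟨⟨g, g1⟩, g2⟩⟩
  have d2 := relIndex_inf_mul_relIndex (stabilizer G b) (stabilizer G (fixedBy Ω t)) (stabilizer G a)
  rw [← H05.D3.orbit_ncard', o1, ← inf_relIndex_right (_ ⊓ _), show stabilizer G b ⊓ stabilizer G (fixedBy Ω t) ⊓ stabilizer G a =
    stabilizer G b ⊓ stabilizer G a from le_antisymm (fun g hg => ⟨hg.1.1, hg.2⟩) fun g hg =>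
      ⟨⟨hg.1, (nb g hg.2 (hg.1.symm ▸ hb)).1⟩, hg.2⟩, inf_relIndex_right, ← H05.D3.orbit_ncard' _ b, o2,
    Set.ncard_sdiff_singleton_of_mem ha, Set.ncard_sdiff_singleton_of_mem (Set.mem_univ a), h.fixt, Set.ncard_univ] at d2
  have d3 : i - 1 ∣ 2 ^ m := by
    have := h.lt
    rw [← hm, (h.sw' hab).2, show Nat.card Ω - i = Nat.card Ω - 1 - (i - 1) by omega]
    exact Nat.dvd_sub (Dvd.intro _ d2) dvd_rfl
  obtain ⟨k, -, k1⟩ := (Nat.dvd_prime_pow Nat.prime_two).1 d1
  obtain ⟨l, -, l1⟩ := (Nat.dvd_prime_pow Nat.prime_two).1 d3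
  rcases k with _ | k
  · omega
  rcases l with _ | l <;> simp only [pow_succ, pow_zero] at k1 l1 <;> omega

theorem three (hR : ¬ Reg G Ω) {d : G} {a b c : Ω} (hab : a ≠ b) (hbc : b ≠ c) (hac : a ≠ c) (ha : d • a = a)
    (hb : d • b = b) (hc : d • c = c) : d = 1 := by
  by_contra d1
  have f3 : ∀ u, IsConj t u → ¬ Commute d u := fun u hu e => by
    have := (Set.two_lt_ncard_iff (s := fixedBy Ω d)).2 ⟨a, b, c, ha, hb, hc, hab, hac, hbc⟩
    rw [(h.conj hu).fix d e d1] at this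
    have := h.le_two
    omega
  have i1 : i ≤ 1 := by_contra fun hi => by
    obtain ⟨x, hx, y, hy, e⟩ := (Set.one_lt_ncard (s := fixedBy Ω t)).1 (by rw [h.fixt]; omega)
    obtain ⟨g, g1, g2⟩ := h.two x y a b e hab
    exact f3 _ (isConj_iff.2 ⟨g, rfl⟩) (h.comm hab ha hb (by rw [← g1, mul_smul, mul_smul, inv_smul_smul, hx])
      (by rw [← g2, mul_smul, mul_smul, inv_smul_smul, hy]))
  have d2 : d⁻¹ ≠ d := fun e => f3 d (h.invol (orderOf_eq_prime (by rw [_root_.sq]; nth_rw 1 [← e]; simp) d1)) rfl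
  obtain ⟨s, s1, s2⟩ := h.two b c c b hbc hbc.symm
  obtain ⟨r, r1, r2⟩ := h.two c a a c hac.symm hac
  obtain ⟨q, q1, q2⟩ := h.two b a a b hab.symm hab
  have v1 : (q * s * r) • a = a := by rw [mul_smul, mul_smul, r2, s2, q1]
  have v2 : q * s * r * d * (q * s * r)⁻¹ = d⁻¹ := by
    rw [show q * s * r * d * (q * s * r)⁻¹ = q * (s * (r * d * r⁻¹) * s⁻¹) * q⁻¹ by group, h.inv hac.symm r1 r2 hc ha,
      ← conj_inv, h.inv hbc s1 s2 hb hc, inv_inv, h.inv hab.symm q1 q2 hb ha]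
  set v := q * s * r
  have v3 : ∀ k : ℕ, v ^ k * d * (v ^ k)⁻¹ = if Even k then d else d⁻¹ := fun k => by
    induction k with
    | zero => simp
    | succ k ih =>
      rw [show v ^ (k + 1) * d * (v ^ (k + 1))⁻¹ = v * (v ^ k * d * (v ^ k)⁻¹) * v⁻¹ by rw [pow_succ']; group, ih]
      by_cases e : Even k
      · rw [if_pos e, if_neg (Nat.even_add_one.not.2 (not_not.2 e)), v2]
      · rw [if_neg e, if_pos (Nat.even_add_one.2 e), ← conj_inv, v2, inv_inv]
  obtain ⟨m, hm⟩ : Even (orderOf v) := by_contra fun e => d2 (by simpa [pow_orderOf_eq_one, e] using (v3 (orderOf v)).symm)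
  have m0 : m ≠ 0 := fun e => (orderOf_pos v).ne' (by rw [hm, e])
  have u2 : orderOf (v ^ m) = 2 := by
    rw [orderOf_pow' _ m0, hm, ← two_mul, Nat.gcd_mul_left_left, Nat.mul_div_cancel _ (Nat.pos_of_ne_zero m0)]
  have ua : (v ^ m) • a = a := (stabilizer G a).pow_mem v1 m
  have u3 : v ^ m * d * (v ^ m)⁻¹ = d⁻¹ := by
    rw [v3, if_neg fun e => f3 _ (h.invol u2) ?_]
    have := v3 m
    rw [if_pos e, mul_inv_eq_iff_eq_mul] at this
    exact this.symm
  generalize v ^ m = u at u2 ua u3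
  have hu := h.conj (h.invol u2)
  have one : ∀ w, Cx Ω i w → ∀ g : G, Commute g w → g ≠ 1 → ∀ x y : Ω, g • x = x → g • y = y → x = y :=
    fun w hw g g1 g2 x y hx hy => (Set.ncard_le_one (s := fixedBy Ω g)).1 (by rw [hw.fix g g1 g2]; exact i1) x hx y hy
  have ca : ∀ w, Cx Ω i w → w • a = a → ∀ g : G, Commute g w → g • a = a := fun w hw wa g hg =>
    one w hw w rfl hw.ne _ _ (H05.D3.smul_mem_fix hg wa) wa
  have i2 : i = 1 := le_antisymm i1 (hu.fixt ▸ (Set.ncard_pos (s := fixedBy Ω u)).2 ⟨a, ua⟩)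
  have tr : ∀ x, x ≠ a → ∃ g, Commute g u ∧ g • b = x := fun x hx => by
    have e : orbit (centralizer {u}) b = Set.univ \ {a} := Set.eq_of_subset_of_ncard_le (by
      rintro _ ⟨g, rfl⟩
      exact ⟨trivial, fun e => hab (MulAction.injective (g : G)
        ((ca u hu ua g (mem_centralizer_singleton_iff.1 g.2)).trans e.symm))⟩) (by
      rw [Set.ncard_sdiff_singleton_of_mem (Set.mem_univ a), Set.ncard_univ, H05.D3.orbit_ncard', ← inf_relIndex_right,
        (eq_bot_iff_forall _).2 fun g (hg : g ∈ stabilizer G b ⊓ centralizer {u}) => by_contra fun e => hab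
          (one u hu g (mem_centralizer_singleton_iff.1 hg.2) e _ _ (ca u hu ua g (mem_centralizer_singleton_iff.1 hg.2)) hg.1),
        relIndex_bot_left, (hu.sw' hab).2, i2])
    obtain ⟨g, hg⟩ := e.ge ⟨trivial, hx⟩
    exact ⟨g, mem_centralizer_singleton_iff.1 g.2, hg⟩
  have al : ∀ w, orderOf w = 2 → w • a = a → w * d * w⁻¹ = d⁻¹ := fun w w2 wa => by
    obtain ⟨g, rfl⟩ := isConj_iff.1 (hu.invol w2)
    have ga : g⁻¹ • a = a := one u hu u rfl hu.ne _ _ (by rwa [mul_smul, mul_smul, ← eq_inv_smul_iff] at wa) ua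
    obtain ⟨k, k1, k2⟩ := tr (g⁻¹ • b) fun e => hab (MulAction.injective g⁻¹ (ga.trans e.symm))
    have e : Commute (g * k) d := h.comm hab (by rw [mul_smul, ca u hu ua k k1, ← ga, smul_inv_smul, ga])
      (by rw [mul_smul, k2, smul_inv_smul]) ha hb
    rw [show g * u * g⁻¹ = g * k * u * (g * k)⁻¹ by rw [mul_assoc g k, k1.eq]; group,
      show g * k * u * (g * k)⁻¹ * d * (g * k * u * (g * k)⁻¹)⁻¹ = g * k * (u * ((g * k)⁻¹ * d * (g * k)⁻¹⁻¹) * u⁻¹) * (g * k)⁻¹
        by group, e.inv_left.mul_inv_cancel, u3, e.inv_right.mul_inv_cancel]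
  have iso : IsIsolated u := fun g hg => by_contra fun e => by
    have w2 : orderOf (g * u * g⁻¹) = 2 := by rw [H08.orderOf_conj', u2]
    have wa := ca u hu ua _ hg.symm
    have := al (u * (g * u * g⁻¹)) (orderOf_eq_prime (by rw [hg.mul_pow, ← u2, pow_orderOf_eq_one, u2, ← w2,
      pow_orderOf_eq_one, mul_one]) fun e' => e (by rw [← inv_eq_of_mul_eq_one_right e', inv_eq_of_mul_eq_one_left hu.sq]))
      (by rw [mul_smul, wa, ua])
    rw [show u * (g * u * g⁻¹) * d * (u * (g * u * g⁻¹))⁻¹ = u * (g * u * g⁻¹ * d * (g * u * g⁻¹)⁻¹) * u⁻¹ by group,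
      al _ w2 wa, ← conj_inv, u3, inv_inv] at this
    exact d2 this.symm
  have := Cfsg.Agent.S0205.result (G := pPrimeCore 2 G) (Nat.coprime_two_right.1 (H02.pPrimeCore_coprime 2 G))
  refine hR (reg_of_solv h.two h.ft (pPrimeCore 2 G) fun e => ?_)
  have := H08.zstar_elt iso (IsPGroup.of_card (n := 1) (by rw [Nat.card_zpowers, u2, pow_one])) q
  rw [e, mem_bot, mul_inv_eq_one, mul_inv_eq_iff_eq_mul] at this
  exact hab ((ca u hu ua q this).symm.trans q2)

theorem zass (h2 : IsMultiplyPretransitive G Ω 2) (hR : ¬ Reg G Ω) : IsZassenhausGroup G Ω := by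
  obtain ⟨a, ha⟩ : ∃ a : Ω, t • a ≠ a := by
    by_contra e; push Not at e; exact h.ne (h.ft t e)
  have tr : ∀ x : Ω, ∃ g : G, g • a = x := fun x => by
    rcases eq_or_ne a x with rfl | e
    · exact ⟨1, one_smul _ _⟩
    · exact (h.two a x x a e e.symm).imp fun _ => And.left
  refine ⟨⟨fun {g k} e => inv_mul_eq_one.1 (h.ft _ fun x => by rw [mul_smul, ← e, inv_smul_smul])⟩, h2,
    fun g a b c => h.three hR, by_contra fun e => hR ?_, fun N _ hN => by_contra fun e => hR ⟨N, ‹_›, fun x y => ?_,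
      fun x r hr e' => ?_⟩⟩
  · push Not at e
    obtain ⟨N, n1, n2, n3⟩ := H05.exists_frobenius_kernel (H := stabilizer G a) fun k hk k1 g hg => by_contra fun e' =>
      e k k1 a (g⁻¹ • a) (fun e'' => e' (inv_mem_iff.1 e''.symm)) hk (by
        rwa [mem_stabilizer_iff, mul_smul, mul_smul, ← eq_inv_smul_iff] at hg)
    have t1 : ∀ x : Ω, ∃ r ∈ N, r • a = x := fun x => by
      obtain ⟨g, rfl⟩ := tr x
      obtain ⟨⟨r, k⟩, rfl⟩ := n3.2 g
      exact ⟨r, r.2, by rw [mul_smul, k.2]⟩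
    refine ⟨N, n2, fun x y => ?_, fun x r hr e' => ((n1 r).1 hr).resolve_right fun e'' => ?_⟩
    · obtain ⟨r, hr, rfl⟩ := t1 x
      obtain ⟨s, hs, rfl⟩ := t1 y
      exact ⟨s * r⁻¹, mul_mem hs (inv_mem hr), by rw [mul_smul, inv_smul_smul]⟩
    · obtain ⟨g, rfl⟩ := tr x
      exact e'' g (by rw [mem_stabilizer_iff, mul_smul, mul_smul, e', inv_smul_smul])
  · obtain ⟨r, hr⟩ := exists_smul_eq N x y
    exact ⟨r, r.2, hr⟩
  · push Not at e
    exact congrArg Subtype.val (mem_bot.1 ((e x).le (show (⟨r, hr⟩ : N) ∈ stabilizer N x from e')))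

theorem simple (h2 : IsMultiplyPretransitive G Ω 2) (hR : ¬ Reg G Ω) : IsSimpleGroup G := by
  have hZ := h.zass h2 hR
  refine { exists_pair_ne := ⟨t, 1, h.ne⟩, eq_bot_or_eq_top_of_normal := fun N _ => or_iff_not_imp_left.2 fun hN => ?_ }
  have e1 : t ∈ N := by_contra fun e => by
    have := Cfsg.Agent.S0205.result (G := N) (Nat.not_even_iff_odd.1 fun e' => by
      obtain ⟨v, hv, v2⟩ := H05.D3.exists_invol e'.two_dvd
      obtain ⟨k, hk⟩ := isConj_iff.1 (h.invol v2).symm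
      exact e (hk ▸ ‹N.Normal›.conj_mem v hv k))
    exact hR (reg_of_solv h.two h.ft N hN)
  have e2 : ∀ {a b : Ω} {s : G}, a ≠ b → s • a = b → s • b = a → s ∈ N := fun e s1 s2 => by
    obtain ⟨k, hk⟩ := isConj_iff.1 (h.sw e s1 s2)
    exact hk ▸ ‹N.Normal›.conj_mem t e1 k
  obtain ⟨a, ha⟩ : ∃ a : Ω, t • a ≠ a := by
    by_contra e; push Not at e; exact h.ne (h.ft t e)
  obtain ⟨F, hF⟩ := H18.zass_exists_ker hZ a
  have e3 : ∀ g : G, g • a = a → g ∈ N := fun g hg => by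
    obtain ⟨k, k1, k2⟩ := hF.trans (g • t • a) (t • a) (fun e => ha (MulAction.injective g (e.trans hg.symm))) ha
    have e4 : (t * t) • a = a := by rw [h.sq, one_smul]
    have := e2 (s := t * (k * g)) ha.symm (by rw [mul_smul, mul_smul, hg, hF.fix k k1])
      (by rw [mul_smul, mul_smul, k2, ← mul_smul, e4])
    exact (mul_mem_cancel_left (H18.zass_ker_le_normal hZ N hN hF k1)).1 ((mul_mem_cancel_left e1).1 this)
  refine top_le_iff.1 fun g _ => ?_
  rcases eq_or_ne a (g • a) with e | e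
  · exact e3 g e.symm
  obtain ⟨s, s1, s2⟩ := h.two a (g • a) (g • a) a e e.symm
  exact (mul_mem_cancel_left (e2 e s1 s2)).1 (e3 _ (by rw [mul_smul, s2]))

end Cx

end H05.Cfix
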