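import Mathlib
import Cfsg.Agent.H17.AutGen
import Cfsg.Agent.H04.Symplectic
import Cfsg.Agent.H02.MinNormal
import Cfsg.Agent.H02.PCore
import Cfsg.Agent.H02.Fitting
import Cfsg.Agent.H02.FPF

/-!
* `H05.Cov.avoid` : `p` odd, `G` acting on a finite abelian `p'`-group `V`, `a` with `⟨a^G⟩` a `p`-group acting
  nontrivially: some vector is fixed by no conjugate of `a`.
* `H05.Cov.mem_pCore` : solvable `G`; if every class has `g` with `⟨a, a^g⟩` a `p`-group then `a ∈ O_p(G)`.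
-/

set_option autoImplicit false
open Subgroup Cfsg

namespace H05.Cov

universe u
section
variable {V G : Type*} [CommGroup V] [Group G] (φ : G →* MulAut V)

theorem mul_ap (g h : G) (v : V) : φ (g * h) v = φ g (φ h v) := by rw [map_mul]; rfl

theorem inv_ap (g : G) (v : V) : φ g⁻¹ (φ g v) = v := by rw [← mul_ap, inv_mul_cancel, map_one]; rfl

theorem ap_inv (g : G) (v : V) : φ g (φ g⁻¹ v) = v := by rw [← mul_ap, mul_inv_cancel, map_one]; rfl

theorem conj_fix {g s : G} {v : V} (h : φ s v = v) : φ (g * s * g⁻¹) (φ g v) = φ g v := by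
  rw [mul_ap, inv_ap, mul_ap, h]

/-- the norm map of a subgroup -/
noncomputable def nm [Finite G] (B : Subgroup G) : V →* V :=
  haveI := Fintype.ofFinite B
  ∏ x : B, (φ x).toMonoidHom

variable [Finite G] {B : Subgroup G}

theorem nm_ap (v : V) : nm φ B v = (haveI := Fintype.ofFinite B; ∏ x : B, φ x v) := by
  simp [nm, MonoidHom.finsetProd_apply]

theorem nm_fix {b : G} (hb : b ∈ B) (v : V) : φ b (nm φ B v) = nm φ B v := by
  letI := Fintype.ofFinite B
  rw [nm_ap, map_prod]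
  exact Fintype.prod_equiv (Equiv.mulLeft (⟨b, hb⟩ : B)) _ _ fun x => (mul_ap φ b x v).symm

theorem nm_of_fix {v : V} (h : ∀ b ∈ B, φ b v = v) : nm φ B v = v ^ Nat.card B := by
  letI := Fintype.ofFinite B
  rw [nm_ap, Finset.prod_congr rfl fun (x : B) _ => h x x.2, Finset.prod_const, Nat.card_eq_fintype_card, Finset.card_univ]

theorem nm_comm {g : G} (hg : g ∈ normalizer (B : Set G)) (v : V) : φ g (nm φ B v) = nm φ B (φ g v) := by
  letI := Fintype.ofFinite B
  rw [nm_ap, nm_ap, map_prod]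
  refine Fintype.prod_equiv (B.normalizerMonoidHom ⟨g, hg⟩).toEquiv _ _ fun x => ?_
  change _ = φ (g * x * g⁻¹) (φ g v)
  rw [mul_ap, inv_ap, mul_ap]

omit [Finite G] in
theorem ind1 {c d : G} {u : V} (hf : ∀ v, φ (c⁻¹ * d) v = v → v = 1) (hu : φ c u = u) (hd : φ d u = u) : u = 1 :=
  hf u (by rw [mul_ap, hd]; conv_lhs => rw [← hu, inv_ap])

omit [Finite G] in
theorem ind2 {c d e : G} {u y z : V} (hd : ∀ v, φ (c⁻¹ * d) v = v → v = 1) (he : ∀ v, φ (c⁻¹ * e) v = v → v = 1)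
    (cd : Commute c d) (de : Commute e d) (hu : φ c u = u) (hy : φ d y = y) (hz : φ e z = z) (h : u = y * z) : u = 1 := by
  have h1 : φ d u / u = 1 := ind1 φ he (by rw [map_div, ← mul_ap, cd.eq, mul_ap, hu]) (by
    have : φ d u / u = φ d z / z := by rw [h, map_mul, hy, mul_div_mul_left_eq_div]
    rw [this, map_div, ← mul_ap, de.eq, mul_ap, hz])
  exact ind1 φ hd hu (div_eq_one.1 h1)

omit [Finite G] in
theorem ind3 {c d e f : G} {u y z w : V} (hd : ∀ v, φ (c⁻¹ * d) v = v → v = 1) (he : ∀ v, φ (c⁻¹ * e) v = v → v = 1)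
    (hf : ∀ v, φ (c⁻¹ * f) v = v → v = 1) (cd : Commute c d) (ce : Commute c e) (de : Commute e d) (df : Commute f d)
    (ef : Commute f e) (hu : φ c u = u) (hy : φ d y = y) (hz : φ e z = z) (hw : φ f w = w) (h : u = y * z * w) :
    u = 1 := by
  have h1 : φ d u / u = 1 := ind2 φ he hf ce ef (y := φ d z / z) (z := φ d w / w)
    (by rw [map_div, ← mul_ap, cd.eq, mul_ap, hu]) (by rw [map_div, ← mul_ap, de.eq, mul_ap, hz])
    (by rw [map_div, ← mul_ap, df.eq, mul_ap, hw]) (by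
      rw [h, map_mul, map_mul, hy, mul_assoc, mul_assoc, mul_div_mul_left_eq_div, mul_div_mul_comm])
  exact ind1 φ hd hu (div_eq_one.1 h1)

/-- a class-2 group of odd order with semiregular centre has a regular vector -/
theorem regular [Nontrivial V] (hodd : ∀ c : G, c * c = 1 → c = 1) (hc : ∀ x y : G, x * y * x⁻¹ * y⁻¹ ∈ center G)
    (hz : ∀ c ∈ center G, c ≠ 1 → ∀ v, φ c v = v → v = 1) : ∃ v, ∀ e : G, φ e v = v → e = 1 := by
  let S : V → Subgroup G := fun v => (MulAction.stabilizer (MulAut V) v).comap φ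
  have hS : ∀ v e, e ∈ S v ↔ φ e v = v := fun v e => Iff.rfl
  obtain ⟨v, v1, hmin⟩ := exists_minimalFor_of_wellFoundedLT (fun v : V => v ≠ 1) S (exists_ne 1)
  refine ⟨v, fun s hs => by_contra fun s1 => ?_⟩
  obtain ⟨x, hx⟩ : ∃ x, x * s * x⁻¹ * s⁻¹ ≠ 1 := by
    by_contra! h
    exact v1 (hz s (mem_center_iff.2 fun g => by have := h g; rw [mul_inv_eq_one, mul_inv_eq_iff_eq_mul] at this; exact this) s1 v hs)
  set c := x * s * x⁻¹ * s⁻¹ with hcx
  have cz : c ∈ center G := hc x s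
  have cm : ∀ k ∈ center G, ∀ g, Commute k g := fun k hk g => (mem_center_iff.1 hk g).symm
  have fx : φ (c * s) (φ x v) = φ x v := by rw [hcx, inv_mul_cancel_right]; exact conj_fix φ hs
  have fp : ∀ k ∈ center G, ∀ l ∈ center G, k ≠ l → ∀ w, φ ((k * s)⁻¹ * (l * s)) w = w → w = 1 := fun k hk l hl kl => by
    rw [show (k * s)⁻¹ * (l * s) = k⁻¹ * l by
      rw [mul_inv_rev, mul_assoc, ← mul_assoc k⁻¹, (cm _ (mul_mem (inv_mem hk) hl) s).eq, inv_mul_cancel_left]]
    exact hz _ (mul_mem (inv_mem hk) hl) fun e => kl (inv_mul_eq_one.1 e)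
  have cc : ∀ k ∈ center G, ∀ l ∈ center G, Commute (k * s) (l * s) := fun k hk l hl =>
    (cm k hk _).mul_left ((cm l hl s).symm.mul_right (Commute.refl s))
  have o1 : (1 : G) ∈ center G := one_mem _
  have fs : φ (1 * s) v = v := by rwa [one_mul]
  have v' : v * φ x v ≠ 1 := fun e => v1 (ind1 φ (fp 1 o1 c cz hx.symm) fs (by
    rw [eq_inv_of_mul_eq_one_left e, map_inv, fx]))
  have key : ∀ e ∈ S (v * φ x v), φ e v = v ∧ φ e (φ x v) = φ x v := fun e he => by
    rw [hS, map_mul] at he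
    set k := e * s * e⁻¹ * s⁻¹ with hk
    have kz : k ∈ center G := hc e s
    have f1 : φ (k * s) (φ e v) = φ e v := by rw [hk, inv_mul_cancel_right]; exact conj_fix φ hs
    have f2 : φ (k * c * s) (φ e (φ x v)) = φ e (φ x v) := by
      have := conj_fix φ (g := e) fx
      rwa [show e * (c * s) * e⁻¹ = k * c * s by
        rw [← mul_assoc e, ← (cm c cz e).eq, ← (cm c cz k).eq, hk]; group] at this
    have kc := mul_mem kz cz
    by_cases k1 : k = 1
    · rw [k1, one_mul] at f1 f2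
      have : φ e v / v = 1 := ind1 φ (fp 1 o1 c cz hx.symm) (by rw [one_mul, map_div, f1, hs]) (by
        rw [show φ e v / v = φ x v / φ e (φ x v) by rw [div_eq_div_iff_mul_eq_mul, he, mul_comm], map_div, f2, fx])
      rw [div_eq_one] at this
      exact ⟨this, mul_left_cancel (a := v) (by rw [← he, this])⟩
    exfalso
    by_cases k2 : k * c = 1
    · have : φ x v = 1 := ind3 φ (fp c cz 1 o1 hx) (fp c cz k kz fun e => hx (hodd c (by rwa [← e] at k2)))
        (fp c cz _ kc (by rwa [k2])) (cc _ cz _ o1) (cc _ cz _ kz) (cc _ kz _ o1) (cc _ kc _ o1) (cc _ kc _ kz) fx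
        (y := v⁻¹) (by rw [map_inv, fs]) f1 f2 (by rw [mul_assoc, he, inv_mul_cancel_left])
      exact v1 ((map_eq_one_iff _ (φ x).injective).1 this)
    · exact v1 (ind3 φ (fp 1 o1 c cz hx.symm) (fp 1 o1 k kz (Ne.symm k1)) (fp 1 o1 _ kc (Ne.symm k2)) (cc _ o1 _ cz)
        (cc _ o1 _ kz) (cc _ kz _ cz) (cc _ kc _ cz) (cc _ kc _ kz) fs (y := (φ x v)⁻¹) (by rw [map_inv, fx]) f1 f2
        (by rw [mul_assoc, he, mul_comm v, inv_mul_cancel_left]))
  have := (key s (hmin v' (fun e he => (key e he).1) hs)).2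
  exact v1 ((map_eq_one_iff _ (φ x).injective).1 (ind1 φ (fp 1 o1 c cz hx.symm) (by rwa [one_mul]) fx))

/-- restriction to an invariant subgroup -/
def res (N : Subgroup G) (W : Subgroup V) (h : ∀ n ∈ N, ∀ w ∈ W, φ n w ∈ W) : N →* MulAut W where
  toFun n :=
    { toFun := fun w => ⟨φ n w, h n n.2 w w.2⟩
      invFun := fun w => ⟨φ (n⁻¹ : N) w, h _ (n⁻¹).2 w w.2⟩
      left_inv := fun w => Subtype.ext (inv_ap φ n w)
      right_inv := fun w => Subtype.ext (ap_inv φ n w)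
      map_mul' := fun x y => Subtype.ext (map_mul (φ n) (x : V) y) }
  map_one' := by ext w; simp
  map_mul' x y := by ext w; simp

variable [Finite V] {p : ℕ} [hp : Fact p.Prime] {a : G}

theorem fix_pow (hV : p.Coprime (Nat.card V)) (hB : IsPGroup p B) {g : G} {v : V}
    (h : φ g (v ^ Nat.card B) = v ^ Nat.card B) : φ g v = v := by
  obtain ⟨k, hk⟩ := hB.exists_card_eq
  rw [map_pow, hk] at h
  exact (powCoprime (hV.symm.pow_right k)).injective h

/-- the inductive hypothesis -/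
def IH (a : G) : Prop := ∀ (N : Subgroup G) (W : Subgroup V), W ≠ ⊤ → a ∈ N → (∀ n ∈ N, ∀ w ∈ W, φ n w ∈ W) →
  (∃ w ∈ W, φ a w ≠ w) → ∃ w ∈ W, ∀ g ∈ N, φ (g * a * g⁻¹) w ≠ w

theorem step1 (hV : p.Coprime (Nat.card V)) (ih : IH φ a) [B.Normal] (hB : IsPGroup p B) (ha : a ∈ B) (a1 : φ a ≠ 1)
    {u : V} (u1 : u ≠ 1) (hu : ∀ b ∈ B, φ b u = u) : ∃ v, ∀ g : G, φ (g * a * g⁻¹) v ≠ v := by
  have hn : ∀ g, g ∈ normalizer (B : Set G) := fun g => by rw [normalizer_eq_top]; trivial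
  obtain ⟨w, -, hw⟩ := ih ⊤ (nm φ B).ker (fun e => u1 (by
      have : u ∈ (nm φ B).ker := e ▸ mem_top u
      rw [MonoidHom.mem_ker, nm_of_fix φ hu] at this
      obtain ⟨k, hk⟩ := hB.exists_card_eq
      exact (powCoprime (hV.symm.pow_right k)).injective (by simpa [hk] using this))) trivial
    (fun n _ w hw => by rw [MonoidHom.mem_ker] at hw ⊢; rw [← nm_comm φ (hn n), hw, map_one]) (by
      by_contra! h
      refine a1 (MulEquiv.ext fun v => fix_pow φ hV hB ?_)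
      have := h (v ^ Nat.card B / nm φ B v) (by
        rw [MonoidHom.mem_ker, map_div, map_pow, nm_of_fix φ fun b hb => nm_fix φ hb v, div_self'])
      rwa [map_div, nm_fix φ ha, div_left_inj] at this)
  exact ⟨w, fun g => hw g trivial⟩

theorem step2 (hV : p.Coprime (Nat.card V)) (ih : IH φ a) (hi : Function.Injective φ) [hn : B.Normal]
    (hB : IsPGroup p B) (hc : ∀ x ∈ B, ∀ y ∈ B, Commute x y) (ha : ∀ x ∈ B, Commute a x) {x : G} (hx : x ∈ B)
    (x1 : x ≠ 1) {u : V} (hu : φ x u = u) (au : φ a u ≠ u) : ∃ v, ∀ g : G, φ (g * a * g⁻¹) v ≠ v := by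
  classical
  let S : V → Subgroup G := fun v => (MulAction.stabilizer (MulAut V) v).comap φ
  have hS : ∀ v e, e ∈ S v ↔ φ e v = v := fun v e => Iff.rfl
  obtain ⟨C, hxC, ⟨hCB, u', hu', au'⟩, hmax⟩ := Finite.exists_le_maximal
    (p := fun C : Subgroup G => C ≤ B ∧ ∃ u, C ≤ S u ∧ φ a u ≠ u) (a := zpowers x)
    ⟨zpowers_le.2 hx, u, zpowers_le.2 hu, au⟩
  let W : Subgroup V :=
    { carrier := {w | C ≤ S w}
      one_mem' := fun c _ => map_one (φ c)
      mul_mem' := fun {v w} hv hw c hc => (hS _ _).2 (by rw [map_mul, (hS _ _).1 (hv hc), (hS _ _).1 (hw hc)])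
      inv_mem' := fun {v} hv c hc => (hS _ _).2 (by rw [map_inv, (hS _ _).1 (hv hc)]) }
  have cn : ∀ g, (∀ y ∈ B, Commute g y) → g ∈ normalizer (C : Set G) := fun g hg =>
    centralizer_le_normalizer _ fun y hy => (hg y (hCB hy)).symm.eq
  have hW : ∀ n ∈ normalizer (C : Set G), ∀ w ∈ W, φ n w ∈ W := fun n hn w hw c hc => (hS _ _).2 (by
    have := conj_fix φ (g := n) ((hS _ _).1 (hw ((mem_normalizer_iff''.1 hn c).1 hc)))
    rwa [show n * (n⁻¹ * c * n) * n⁻¹ = c by group] at this)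
  obtain ⟨w, hw, H⟩ := ih (normalizer (C : Set G)) W (fun e => x1 (hi (by
    rw [map_one]; exact MulEquiv.ext fun v => (e ▸ mem_top v : v ∈ W) (hxC (mem_zpowers x))))) (cn a ha) hW ⟨u', hu', au'⟩
  letI := Fintype.ofFinite (G ⧸ normalizer (C : Set G))
  refine ⟨∏ q : G ⧸ normalizer (C : Set G), φ q.out w, fun g hg => ?_⟩
  have h1 := conj_fix φ (g := g⁻¹) hg
  rw [show g⁻¹ * (g * a * g⁻¹) * g⁻¹⁻¹ = a by group, map_prod] at h1
  have h2 := congrArg (nm φ C) h1
  rw [← nm_comm φ (cn a ha), map_prod (nm φ C), ← Finset.mul_prod_erase _ _ (Finset.mem_univ (g : G ⧸ normalizer (C : Set G))),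
    map_mul, map_prod, Finset.prod_congr rfl (g := fun q => nm φ C (φ g⁻¹ (φ q.out w))) fun q hq => ?_, mul_left_inj] at h2
  · obtain ⟨n, hn⟩ := QuotientGroup.mk_out_eq_mul (normalizer (C : Set G)) g
    rw [hn, mul_ap, inv_ap, nm_of_fix φ fun c hc => (hS _ _).1 (hW n n.2 w hw hc)] at h2
    have := conj_fix φ (g := (n : G)⁻¹) (fix_pow φ hV (hB.to_le hCB) h2)
    rw [inv_ap] at this
    exact H _ (inv_mem n.2) this
  · by_contra h3
    rw [← mul_ap] at h3
    set y := g⁻¹ * q.out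
    have h4 := hmax (y := B ⊓ S (nm φ C (φ y w))) ⟨inf_le_left, _, inf_le_right, h3⟩
      (le_inf hCB fun c hc => nm_fix φ hc _)
    refine (Finset.mem_erase.1 hq).1 ?_
    rw [← q.out_eq', eq_comm, QuotientGroup.eq]
    refine mem_normalizer_fintype fun c hcC => h4 ⟨hn.conj_mem c (hCB hcC) y, (hS _ _).2 ?_⟩
    rw [nm_comm φ (cn _ (hc _ (hn.conj_mem c (hCB hcC) y))), conj_fix φ ((hS _ _).1 (hw hcC))]

omit [Finite G] [Finite V] in
theorem class_two {P : Type*} [Group P] [Finite P] (hp2 : p ≠ 2) (hP : IsPGroup p P)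
    (h : ∀ A : Subgroup P, A.Characteristic → IsMulCommutative A → IsCyclic A) (x y : P) :
    x * y * x⁻¹ * y⁻¹ ∈ center P := by
  obtain ⟨E, R, hER, hs, hE, hR⟩ := H04.symplectic_type hP h
  have hR := hR.resolve_right fun e => hp2 e.1
  have cz : ∀ c : P, E ≤ centralizer {c} → R ≤ centralizer {c} → c ∈ center P := fun c h1 h2 =>
    mem_center_iff.2 fun g => (mem_centralizer_singleton_iff.1 ((hs ▸ sup_le h1 h2 : ⊤ ≤ centralizer {c}) (mem_top g)))
  have hz : R ≤ center P := fun r hr => cz r (fun e he => mem_centralizer_singleton_iff.2 (hER he r hr).symm)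
    fun s hs => mem_centralizer_singleton_iff.2 (congrArg Subtype.val (hR.isMulCommutative.is_comm.comm (⟨s, hs⟩ : R) ⟨r, hr⟩))
  have hd : ∀ x : P, ∃ e ∈ E, ∃ c ∈ center P, e * c = x := fun x =>
    mem_sup_of_normal_right.1 ((sup_le_sup_left hz E) (hs ▸ mem_top x))
  obtain ⟨e, he, c, hc, rfl⟩ := hd x
  obtain ⟨f, hf, d, hd, rfl⟩ := hd y
  rw [show e * c * (f * d) * (e * c)⁻¹ * (f * d)⁻¹ = e * f * e⁻¹ * f⁻¹ by
    rw [mul_inv_rev, mul_inv_rev, mul_assoc e c, ← mem_center_iff.1 hc, ← mul_assoc e, ← mul_assoc _ c⁻¹, mul_inv_cancel_right,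
      ← mul_assoc e f d, mul_assoc _ d, ← mem_center_iff.1 hd, ← mul_assoc, ← mul_assoc, mul_inv_cancel_right]]
  rcases hE with rfl | hE
  · rw [mem_bot.1 he]; simp
  have h1 : (⟨e, he⟩ * ⟨f, hf⟩ * ⟨e, he⟩⁻¹ * ⟨f, hf⟩⁻¹ : E) ∈ center E :=
    hE.1.2.2 ▸ commutator_mem_commutator (mem_top (⟨e, he⟩ : E)) (mem_top (⟨f, hf⟩ : E))
  exact cz _ (fun g hg => mem_centralizer_singleton_iff.2 (congrArg Subtype.val (mem_center_iff.1 h1 ⟨g, hg⟩)))
    fun r hr => mem_centralizer_singleton_iff.2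
      (hER (mul_mem (mul_mem (mul_mem he hf) (inv_mem he)) (inv_mem hf)) r hr)

theorem faith (hp2 : p ≠ 2) (hV : p.Coprime (Nat.card V)) (ih : IH φ a) (hi : Function.Injective φ)
    (hP : IsPGroup p (normalClosure {a})) (a1 : φ a ≠ 1) : ∃ v, ∀ g : G, φ (g * a * g⁻¹) v ≠ v := by
  by_contra H
  set P := normalClosure ({a} : Set G) with hPd
  have aP : a ∈ P := subset_normalClosure rfl
  have nt : Nontrivial V := by
    by_contra h; rw [not_nontrivial_iff_subsingleton] at h; exact a1 (MulEquiv.ext fun v => Subsingleton.elim _ _)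
  have F2 : ∀ B : Subgroup G, B.Normal → IsPGroup p B → (∀ x ∈ B, ∀ y ∈ B, Commute x y) → (∀ x ∈ B, Commute a x) →
      ∀ x ∈ B, x ≠ 1 → ∀ u, φ x u = u → u = 1 := fun B hn hB hc ha x hx x1 u hu => by
    by_contra u1
    refine H (step1 φ hV ih hP aP a1 u1 fun b hb => ?_)
    refine (closure_le ((MulAction.stabilizer (MulAut V) u).comap φ)).2 (fun c hc' => ?_) hb
    obtain ⟨a', ha', hc''⟩ := Group.mem_conjugatesOfSet_iff.1 hc'
    rw [Set.mem_singleton_iff.1 ha'] at hc''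
    obtain ⟨g, rfl⟩ := isConj_iff.1 hc''
    by_contra h
    refine H (step2 φ hV ih hi hB hc ha (hn.conj_mem x hx g⁻¹) (fun e => x1 (conj_eq_one_iff.1 e)) (conj_fix φ hu) fun e => h ?_)
    have := conj_fix φ (g := g) e
    rwa [ap_inv] at this
  have cm : ∀ B : Subgroup G, (∀ x ∈ B, ∀ y ∈ B, Commute x y) → IsMulCommutative (B.map φ) := fun B hc =>
    ⟨⟨by rintro ⟨_, x, hx, rfl⟩ ⟨_, y, hy, rfl⟩; exact Subtype.ext ((hc x hx y hy).map φ).eq⟩⟩
  have cp : ∀ B : Subgroup G, IsPGroup p B → (Nat.card (B.map φ)).Coprime (Nat.card (⊤ : Subgroup V)) := fun B hB => by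
    obtain ⟨k, hk⟩ := hB.exists_card_eq
    rw [card_map_of_injective hi, hk, card_top]; exact hV.pow_left k
  let Z := (center P).map P.subtype
  have hZ : ∀ c ∈ Z, c ≠ 1 → ∀ u, φ c u = u → u = 1 := F2 Z inferInstance ((hP.to_subgroup _).map _)
    (by rintro _ ⟨x, hx, rfl⟩ _ ⟨y, -, rfl⟩; exact congrArg Subtype.val (mem_center_iff.1 hx y).symm)
    (by rintro _ ⟨x, hx, rfl⟩; exact congrArg Subtype.val (mem_center_iff.1 hx ⟨a, aP⟩))
  push Not at H
  suffices hcc : ∀ A : Subgroup P, A.Characteristic → IsMulCommutative A → IsCyclic A by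
    obtain ⟨v, hv⟩ := regular (φ.comp P.subtype) (fun c hc => by
      obtain ⟨k, hk⟩ := hP c
      exact (pow_eq_one_iff_of_coprime (((Nat.coprime_primes hp.out Nat.prime_two).2 hp2).pow_left k)).1 ⟨hk, by rwa [sq]⟩)
      (class_two hp2 hP hcc) fun c hc c1 => hZ c ⟨c, hc, rfl⟩ fun e => c1 (Subtype.ext e)
    obtain ⟨g, hg⟩ := H v
    have := congrArg Subtype.val (hv ⟨_, Normal.conj_mem inferInstance a aP g⟩ hg)
    exact a1 (by rw [show a = 1 by simpa using this, map_one])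
  intro A hA hc
  by_contra hnc
  obtain ⟨D, hDA, hDn, hD, hD2⟩ := H04.exists_normal_elemAb_sq_of_comm hP hc hnc
  have hA' : (A.map P.subtype).Normal := inferInstance
  have ac : ∀ x ∈ A.map P.subtype, ∀ y ∈ A.map P.subtype, Commute x y := by
    rintro _ ⟨x, hx, rfl⟩ _ ⟨y, hy, rfl⟩
    exact congrArg (fun t : A => ((t : P) : G)) (hc.is_comm.comm ⟨x, hx⟩ ⟨y, hy⟩)
  have zn : Z.Normal := inferInstance
  let B : Subgroup G :=
    { carrier := {x | x ∈ A.map P.subtype ∧ x ^ p = 1 ∧ ∀ y ∈ P, x * y * x⁻¹ * y⁻¹ ∈ Z}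
      one_mem' := ⟨one_mem _, one_pow _, fun y _ => by simp⟩
      mul_mem' := fun {x y} ⟨h1, h2, h3⟩ ⟨k1, k2, k3⟩ => ⟨mul_mem h1 k1, by rw [(ac x h1 y k1).mul_pow, h2, k2, one_mul],
        fun t ht => by convert mul_mem (zn.conj_mem _ (k3 t ht) x) (h3 t ht) using 1; group⟩
      inv_mem' := fun {x} ⟨h1, h2, h3⟩ => ⟨inv_mem h1, by rw [inv_pow, h2, inv_one],
        fun t ht => by convert inv_mem (zn.conj_mem _ (h3 t ht) x⁻¹) using 1; group⟩ }
  have bn : B.Normal := ⟨fun x ⟨h1, h2, h3⟩ g => ⟨hA'.conj_mem x h1 g, by rw [conj_pow, h2]; simp, fun t ht => by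
    convert zn.conj_mem _ (h3 _ (Normal.conj_mem inferInstance t ht g⁻¹)) g using 1; group⟩⟩
  have bp : IsPGroup p B := fun x => ⟨1, Subtype.ext (by simpa using x.2.2.1)⟩
  have bc : ∀ x ∈ B, ∀ y ∈ B, Commute x y := fun x hx y hy => ac x hx.1 y hy.1
  have D1 : D ≠ ⊥ := fun e => by
    rw [e, card_bot] at hD2; exact (Nat.one_lt_pow two_ne_zero hp.out.one_lt).ne hD2
  have hDz : ⁅D, (⊤ : Subgroup P)⁆ ≤ center P := by
    have := hP.isNilpotent
    have h1 := H04.commutator_top_lt_of_normal D D1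
    obtain ⟨i, hi2, hi⟩ := (Nat.dvd_prime_pow hp.out).1 (hD2 ▸ card_dvd_of_le h1.le)
    interval_cases i
    · rw [card_eq_one.1 hi]; exact bot_le
    · exact H04.le_center_of_card_eq hP _ (by simpa using hi)
    · exact absurd (eq_of_le_of_card_ge h1.le (by rw [hi, hD2])) h1.ne
  have DB : D.map P.subtype ≤ B := by
    rintro _ ⟨d, hd, rfl⟩
    exact ⟨⟨d, hDA hd, rfl⟩, congrArg Subtype.val (hD.2 d hd), fun y hy =>
      ⟨_, hDz (commutator_mem_commutator hd (mem_top ⟨y, hy⟩)), rfl⟩⟩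
  obtain ⟨z, ⟨zD, zZ⟩, z1⟩ := (bot_or_exists_ne_one (D ⊓ center P)).resolve_left
    (by have := hP.isNilpotent; exact H02.inf_center_ne_bot_of_isNilpotent D D1)
  obtain ⟨x, hx, ax⟩ : ∃ x ∈ B, ¬ Commute a x := by
    by_contra! h
    refine top_ne_bot (le_bot_iff.1 (H17.aut_le_of_fix_le (K := ⊤) (cm B bc) (fun hcy => ?_) (fun _ _ _ _ => trivial)
      (cp B bp) ?_))
    · have := isCyclic_of_surjective _ (B.equivMapOfInjective φ hi).symm.surjective
      have := isCyclic_of_le DB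
      have := isCyclic_of_surjective _ (D.equivMapOfInjective _ P.subtype_injective).symm.surjective
      exact H02.not_isCyclic_of_pow_eq_one (E := D) hp.out (by rw [hD2, sq]) (fun d => Subtype.ext (hD.2 d d.2)) this
    · rintro _ ⟨x, hx, rfl⟩ x1 u - hu
      exact F2 B bn bp bc h x hx (fun e => x1 (by rw [e, map_one])) u hu
  refine top_ne_bot (le_bot_iff.1 (H17.aut_le_of_cocyclic (K := ⊤) (cm B bc) (fun _ _ _ _ => trivial) (cp B bp) ?_))
  rintro C hC ⟨_, ⟨y, hy, rfl⟩, hCy⟩ v - hv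
  by_contra v1
  obtain ⟨g, hg⟩ := H v
  have bP : g * a * g⁻¹ ∈ P := Normal.conj_mem inferInstance a aP g
  have zB : (z : G) ∈ B := DB ⟨z, zD, rfl⟩
  have h1 : C ≤ (centralizer {g * a * g⁻¹}).map φ := fun c hc => by
    obtain ⟨c, hcB, rfl⟩ := hC hc
    refine ⟨c, mem_centralizer_singleton_iff.2 ?_, rfl⟩
    by_contra h
    refine v1 (hZ _ (hcB.2.2 _ bP) (fun e => h ?_) v ?_)
    · rwa [mul_inv_eq_one, mul_inv_eq_iff_eq_mul] at e
    · have i1 : ∀ t, φ t v = v → φ t⁻¹ v = v := fun t ht => by conv_lhs => rw [← ht, inv_ap]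
      rw [mul_ap, i1 _ hg, mul_ap, i1 _ (hv _ hc), mul_ap, hg, hv _ hc]
  have h2 : φ z ∈ C ⊔ zpowers (φ y) := hCy ▸ ⟨z, zB, rfl⟩
  rw [← SetLike.mem_coe, coe_mul_of_right_le_normalizer_left _ _ (zpowers_le.2 (centralizer_le_normalizer _ fun c hc => by
    obtain ⟨c, hcB, rfl⟩ := hC hc; exact ((bc c hcB y hy).map φ).eq))] at h2
  obtain ⟨c, hcC, t, ht, e⟩ := h2
  obtain ⟨i, rfl⟩ := (mem_powers_iff_mem_zpowers.2 ht : t ∈ Submonoid.powers (φ y))
  dsimp only at e
  have yp : φ y ^ p = 1 := by rw [← map_pow, hy.2.1, map_one]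
  have h3 : ¬ p ∣ i := fun ⟨j, hj⟩ => by
    rw [hj, pow_mul, yp, one_pow, mul_one] at e
    exact v1 (hZ z ⟨z, zZ, rfl⟩ (fun e => z1 (Subtype.ext e)) v (hv _ (e ▸ hcC)))
  have h4 : φ y ∈ (centralizer {g * a * g⁻¹}).map φ := by
    refine zpowers_le.2 ?_ (mem_zpowers_pow_iff.2 (((Nat.Prime.coprime_iff_not_dvd hp.out).2 h3).symm.coprime_dvd_right
      (orderOf_dvd_of_pow_eq_one yp)))
    rw [eq_inv_mul_of_mul_eq e]
    exact mul_mem (inv_mem (h1 hcC)) ⟨z, mem_centralizer_singleton_iff.2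
      (congrArg Subtype.val (mem_center_iff.1 zZ ⟨_, bP⟩)).symm, rfl⟩
  have h5 : B.map φ ≤ (centralizer {g * a * g⁻¹}).map φ := hCy ▸ sup_le h1 (zpowers_le.2 h4)
  have h6 := mem_centralizer_singleton_iff.1 ((map_le_map_iff_of_injective hi).1 h5 (bn.conj_mem x hx g))
  refine ax ((MulAut.conj g).injective ?_)
  rw [map_mul, map_mul]; exact h6.symm

end

theorem avoid {p : ℕ} [Fact p.Prime] (hp2 : p ≠ 2) (n : ℕ) : ∀ (V G : Type u) [CommGroup V] [Finite V] [Group G] [Finite G]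
    (φ : G →* MulAut V) (a : G), Nat.card V = n → p.Coprime (Nat.card V) → IsPGroup p (normalClosure {a}) → φ a ≠ 1 →
    ∃ v, ∀ g : G, φ (g * a * g⁻¹) v ≠ v := by
  induction n using Nat.strong_induction_on with | _ n ih => ?_
  intro V G _ _ _ _ φ a hn hV hP a1
  have hP' : IsPGroup p (normalClosure {φ.rangeRestrict a}) := by
    rw [← Set.image_singleton, ← map_normalClosure _ _ φ.rangeRestrict_surjective]; exact hP.map _
  refine (faith φ.range.subtype hp2 hV (fun N W hW ha h ⟨w, hw, aw⟩ => ?_) φ.range.subtype_injective hP' a1).imp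
    fun v hv g => by simpa using hv (φ.rangeRestrict g)
  obtain ⟨w, hw⟩ := ih _ (hn ▸ Finite.card_subtype_lt (p := (· ∈ W)) (x := (not_forall.1 fun h => hW ((eq_top_iff' W).2 h)).choose) (not_forall.1 fun h => hW ((eq_top_iff' W).2 h)).choose_spec) W N (res _ N W h) ⟨_, ha⟩ rfl
    (hV.coprime_dvd_right W.card_subgroup_dvd_card)
    (hP'.comap_subtype.to_le (normalClosure_le_normal (Set.singleton_subset_iff.2 (subset_normalClosure rfl))))
    fun e => aw (by exact congrArg Subtype.val (DFunLike.congr_fun e (⟨w, hw⟩ : W)))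
  exact ⟨w, w.2, fun g hg e => hw ⟨g, hg⟩ (Subtype.ext e)⟩

theorem mem_pCore {p : ℕ} [hp : Fact p.Prime] (hp2 : p ≠ 2) (n : ℕ) : ∀ (G : Type u) [Group G] [Finite G] [Group.IsSolvable G]
    (a : G), Nat.card G = n → (∀ c : G, ∃ g, IsConj c g ∧ IsPGroup p (zpowers a ⊔ zpowers (g * a * g⁻¹) : Subgroup G)) →
    a ∈ pCore p G := by
  induction n using Nat.strong_induction_on with | _ n ih => ?_
  intro G _ _ _ a hn h
  rcases subsingleton_or_nontrivial G with _ | _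
  · rw [Subsingleton.elim a 1]; exact one_mem _
  obtain ⟨V, hVn, V1, -, hc, q, hq, hV⟩ := H02.exists_minimal_normal_elementary (G := G)
  have := Fact.mk hq
  have hVq : IsPGroup q V := fun x => ⟨1, Subtype.ext (by simpa using hV x x.2)⟩
  have h1 : QuotientGroup.mk' V a ∈ pCore p (G ⧸ V) := by
    refine ih _ ?_ _ _ rfl fun c => ?_
    · rw [← hn, card_eq_card_quotient_mul_card_subgroup V]
      exact lt_mul_of_one_lt_right Nat.card_pos ((one_lt_card_iff_ne_bot V).2 V1)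
    obtain ⟨c, rfl⟩ := QuotientGroup.mk'_surjective V c
    obtain ⟨g, hg, hP⟩ := h c
    refine ⟨_, (QuotientGroup.mk' V).map_isConj hg, ?_⟩
    have := hP.map (QuotientGroup.mk' V)
    rwa [Subgroup.map_sup, MonoidHom.map_zpowers, MonoidHom.map_zpowers, map_mul, map_mul, map_inv] at this
  by_cases pq : q = p
  · subst pq; rw [← H02.comap_pCore_quotient V hVq]; exact h1
  obtain ⟨k, hk⟩ := hVq.exists_card_eq
  have cop : p.Coprime (Nat.card V) := hk ▸ ((Nat.coprime_primes hp.out hq).2 (Ne.symm pq)).pow_right k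
  have ap : IsPGroup p (zpowers a) := (h 1).choose_spec.2.to_le le_sup_left
  let N := (pCore p (G ⧸ V)).comap (QuotientGroup.mk' V)
  have pw : ∀ x ∈ N, ∃ k, x ^ p ^ k ∈ V := fun x hx => by
    obtain ⟨k, hk⟩ := H02.pCore_isPGroup (p := p) (G := G ⧸ V) ⟨_, hx⟩
    exact ⟨k, (QuotientGroup.eq_one_iff _).1 (by simpa using congrArg Subtype.val hk)⟩
  by_cases a1 : MulAut.conjNormal (H := V) a = 1
  · let M := N ⊓ centralizer (V : Set G)
    have := (H02.pCore_isPGroup (p := p) (G := G ⧸ V)).isNilpotent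
    have hM : Group.IsNilpotent M := Subgroup.isNilpotent_of_ker_le_center
      (((QuotientGroup.mk' V).comp M.subtype).codRestrict (pCore p (G ⧸ V)) fun x => x.2.1) (fun x hx =>
        mem_center_iff.2 fun y => Subtype.ext (y.2.2 x ((QuotientGroup.eq_one_iff _).1 (congrArg Subtype.val hx))).symm)
    refine H02.le_pCore_of_le_fitting hp.out ap ((zpowers_le.2 (show a ∈ M from ⟨h1, fun v hv => ?_⟩)).trans (H02.le_fitting hM))
      (mem_zpowers a)
    exact (mul_inv_eq_iff_eq_mul.1 (congrArg Subtype.val (DFunLike.congr_fun a1 (⟨v, hv⟩ : V)))).symm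
  letI : CommGroup V := IsMulCommutative.instCommGroup
  obtain ⟨v, hv⟩ := avoid hp2 _ V (MulAut.conjNormal (H := V)).range (MulAut.conjNormal (H := V)).range.subtype
    ((MulAut.conjNormal (H := V)).rangeRestrict a) rfl cop (by
      rw [← Set.image_singleton, ← map_normalClosure _ _ (MonoidHom.rangeRestrict_surjective _)]
      rintro ⟨_, x, hx, rfl⟩
      obtain ⟨k, hk⟩ := pw x (normalClosure_le_normal (N := N) (Set.singleton_subset_iff.2 h1) hx)
      refine ⟨k, Subtype.ext (Subtype.ext ?_)⟩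
      change MulAut.conjNormal (H := V) x ^ p ^ k = 1
      rw [← map_pow]; ext y
      exact mul_inv_eq_iff_eq_mul.2 (congrArg Subtype.val (hc.is_comm.comm ⟨_, hk⟩ y))) a1
  obtain ⟨g, hg, hP⟩ := h v
  obtain ⟨x, rfl⟩ := isConj_iff.1 hg
  refine absurd ?_ (hv ((MulAut.conjNormal (H := V)).rangeRestrict x⁻¹))
  set g := x * v * x⁻¹ with hgd
  have gV : g ∈ V := hVn.conj_mem _ v.2 x
  have h2 : g * a * g⁻¹ * a⁻¹ ∈ (zpowers a ⊔ zpowers (g * a * g⁻¹)) ⊓ V :=
    mem_inf.2 ⟨mul_mem (mem_sup_right (mem_zpowers _)) (inv_mem (mem_sup_left (mem_zpowers _))), by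
      convert mul_mem gV (hVn.conj_mem _ (inv_mem gV) a) using 1; group⟩
  rw [(IsPGroup.disjoint_of_ne p q (Ne.symm pq) _ _ hP hVq).eq_bot, mem_bot, mul_inv_eq_one, mul_inv_eq_iff_eq_mul] at h2
  rw [← map_inv, ← map_mul, ← map_mul]
  ext
  change x⁻¹ * a * x⁻¹⁻¹ * v * (x⁻¹ * a * x⁻¹⁻¹)⁻¹ = v
  rw [show x⁻¹ * a * x⁻¹⁻¹ * v * (x⁻¹ * a * x⁻¹⁻¹)⁻¹ = x⁻¹ * (a * g) * a⁻¹ * x by rw [hgd]; group, ← h2, hgd]; group

end H05.Cov
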