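import Mathlib
import Cfsg.Agent.H05.D3p1
import Cfsg.Agent.H05.D3p2
import Cfsg.Agent.H05.D3p3
import Cfsg.Agent.H17.Count

/-!
Simple groups of degree `3 p` with `|N(P)| = 2 p` (helper5): the doubly transitive case `case2` and the rank three
case `case1`.
-/

open Cfsg Subgroup MulAction H08 H19 Classical Finset

namespace H05.D3

variable {G : Type*} [Group G] [Finite G] {Ω : Type*} [MulAction G Ω]

theorem odd_index {t : G} (ht : orderOf t = 2) (hc : ∀ u, orderOf u = 2 → IsConj t u) :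
    Odd (centralizer ({t} : Set G)).index := by
  obtain ⟨S⟩ : Nonempty (Sylow 2 G) := inferInstance
  obtain ⟨z, -, -, z2, zc⟩ := exists_central_invol S.2 (N := ⊤) (by rw [normalizer_eq_top]; exact le_top) (by
    rw [inf_top_eq]; exact S.ne_bot_of_dvd_card (ht ▸ orderOf_dvd_natCard t))
  obtain ⟨g, rfl⟩ := isConj_iff.1 (hc z z2)
  have h1 : Nat.card (centralizer ({t} : Set G)) = Nat.card (centralizer ({g * t * g⁻¹} : Set G)) :=
    Nat.card_congr ((MulAut.conj g).toEquiv.subtypeEquiv fun x => by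
      simp only [mem_centralizer_singleton_iff, MulEquiv.toEquiv_eq_coe, EquivLike.coe_coe, ← MulAut.conj_apply, ← map_mul,
        EmbeddingLike.apply_eq_iff_eq])
  have h2 : (centralizer ({t} : Set G)).index = (centralizer ({g * t * g⁻¹} : Set G)).index :=
    Nat.eq_of_mul_eq_mul_left (Nat.card_pos (α := centralizer ({t} : Set G))) (by
      rw [card_mul_index, h1, card_mul_index])
  rw [h2, ← Nat.not_even_iff_odd, even_iff_two_dvd]
  exact fun h => S.not_dvd_index (h.trans (index_dvd_of_le fun s hs => mem_centralizer_singleton_iff.2 (zc s hs)))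

theorem card_stab [IsPretransitive G Ω] (a b : Ω) :
    Nat.card G = Nat.card Ω * ((orbit (stabilizer G a) b).ncard * Nat.card ↥(stabilizer G a ⊓ stabilizer G b)) := by
  rw [← (stabilizer G a).card_mul_index, index_stabilizer_of_transitive, mul_comm, orbit_ncard']
  congr 1
  rw [← ((stabilizer G b).subgroupOf (stabilizer G a)).card_mul_index, mul_comm, ← inf_subgroupOf_left,
    Nat.card_congr (subgroupOfEquivOfLe (inf_le_left (a := stabilizer G a) (b := stabilizer G b))).toEquiv,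
    inf_subgroupOf_left]
  rfl

theorem arith2a {p x w e : ℕ} (h3 : 3 < p) (hx : x + 1 = 3 * p) (hw : Odd (p * w * (x - 1)))
    (h1 : 2 ^ e ∣ x * w * (p * w * (x - 1))) (h2 : x * w * (p * w * (x - 1)) < (2 ^ e) ^ 3)
    (h4 : 3 * p * x ∣ x * w * (p * w * (x - 1))) : False := by
  have o1 : Odd w := (Nat.odd_mul.1 (Nat.odd_mul.1 hw).1).2
  have c2 : ∀ n, Odd n → Nat.Coprime (2 ^ e) n := fun n h => Nat.Coprime.pow_left _ (Nat.coprime_two_left.2 h)
  have e1 := Nat.le_of_dvd (by omega) ((c2 w o1).dvd_of_dvd_mul_right ((c2 _ hw).dvd_of_dvd_mul_right h1))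
  have e2 : 3 ∣ w * w * (x - 1) := Nat.dvd_of_mul_dvd_mul_left (Nat.mul_pos (show 0 < p by omega) (show 0 < x by omega)) (by
    convert h4 using 1 <;> ring)
  have e3 : 3 ∣ w := by
    rcases (Nat.prime_three.dvd_mul).1 e2 with h | h
    · exact ((Nat.prime_three.dvd_mul).1 h).elim id id
    · omega
  have e4 : 3 ≤ w := Nat.le_of_dvd o1.pos e3
  have e5 := Nat.pow_le_pow_left e1 3
  obtain ⟨y, rfl⟩ : ∃ y, x = y + 1 := ⟨x - 1, by omega⟩
  rw [Nat.add_sub_cancel] at h2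
  have e6 : (y + 1) * 3 * (p * 3 * y) ≤ (y + 1) * w * (p * w * y) := by gcongr
  have e7 : (y + 1) * 3 * (p * 3 * y) = 3 * (y + 1) * (y + 2) * y := by rw [show y + 2 = 3 * p by omega]; ring
  have e8 : (y + 1) ^ 3 ≤ 3 * (y + 1) * (y + 2) * y := by
    rw [show (y + 1) ^ 3 = (y + 1) * ((y + 1) * (y + 1)) by ring, show 3 * (y + 1) * (y + 2) * y = (y + 1) * ((y + 2) * (3 * y)) by ring]
    exact Nat.mul_le_mul_left _ (Nat.mul_le_mul (by omega) (by omega))
  omega

theorem arith2b {p y c i m m' b : ℕ} (h3 : 3 < p) (hp : Odd p) (hy : y + 3 = 3 * p) (hi : Odd i)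
    (h1 : i * y ^ 2 = p * c * (y + 2) * (y + 1)) (h2 : c * i = 3 * p * ((y + 2) * m)) (hm : m = 2 ^ b * m') (hm' : Odd m')
    (hb : 2 ^ b ∣ y) : ¬ 16 ∣ c * i := fun h => by
  have e1 : i ^ 2 * y ^ 2 = 3 * p ^ 2 * (y + 2) ^ 2 * (y + 1) * m := by
    have : i ^ 2 * y ^ 2 = p * (c * i) * (y + 2) * (y + 1) := by linear_combination i * h1
    rw [this, h2]; ring
  have c2 : ∀ k n, Odd n → Nat.Coprime (2 ^ k) n := fun k n h => Nat.Coprime.pow_left _ (Nat.coprime_two_left.2 h)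
  have o3 : Odd 3 := by decide
  obtain ⟨r, hr⟩ := id hp
  rcases Nat.even_or_odd' r with ⟨s, rfl | rfl⟩
  · have e2 : 2 ^ 3 ∣ m := by
      rw [h2, show y + 2 = 2 * (6 * s + 1) by omega, show 3 * p * (2 * (6 * s + 1) * m) = 2 * ((3 * p * (6 * s + 1)) * m) by ring]
        at h
      exact (c2 3 _ ((o3.mul hp).mul ⟨3 * s, by ring⟩)).dvd_of_dvd_mul_left (Nat.dvd_of_mul_dvd_mul_left two_pos h)
    rw [hm] at e2
    obtain ⟨k, hk⟩ := (c2 3 _ hm').dvd_of_dvd_mul_right e2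
    obtain ⟨v, hv⟩ := hb
    have e3 : 2 * (k * i ^ 2 * v ^ 2) = 3 * p ^ 2 * (6 * s + 1) ^ 2 * (y + 1) * m' :=
      Nat.eq_of_mul_eq_mul_left (show 0 < 4 * 2 ^ b by positivity) (by
        rw [show y + 2 = 2 * (6 * s + 1) by omega, hm] at e1
        rw [hv] at e1 ⊢
        rw [hk] at e1 ⊢
        linear_combination e1)
    have : Odd (3 * p ^ 2 * (6 * s + 1) ^ 2 * (y + 1) * m') :=
      (((o3.mul hp.pow).mul (Odd.pow ⟨3 * s, by ring⟩)).mul ⟨6 * s, by omega⟩).mul hm'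
    rw [← e3] at this
    exact absurd (even_two_mul _) (Nat.not_even_iff_odd.2 this)
  · have e2 : i ^ 2 * (6 * s + 3) ^ 2 = 2 * (6 * p ^ 2 * (3 * s + 2) ^ 2 * (y + 1) * m) :=
      Nat.eq_of_mul_eq_mul_left (show 0 < 4 by positivity) (by
        rw [show y + 2 = 4 * (3 * s + 2) by omega] at e1
        nth_rw 1 [show y = 2 * (6 * s + 3) by omega] at e1
        linear_combination e1)
    have : Odd (i ^ 2 * (6 * s + 3) ^ 2) := hi.pow.mul (Odd.pow ⟨3 * s + 1, by ring⟩)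
    rw [e2] at this
    exact absurd (even_two_mul _) (Nat.not_even_iff_odd.2 this)

theorem arith2c {p y c i : ℕ} (h3 : 3 < p) (hp : p.Prime) (hy : y + 3 = 3 * p) (c0 : 0 < c)
    (h1 : i * y ^ 2 = p * c * (y + 2) * (y + 1))
    (h : c * i < 512 ∨ c * i = 2520 ∨ ∃ q : ℕ, Odd q ∧ 3 < q ∧ 2 * (c * i) = q * (q ^ 2 - 1) ∧ (c + 1 = q ∨ c = q + 1)) :
    False := by
  have h5 : 5 ≤ p := by
    have : p ≠ 4 := fun e => absurd (e ▸ hp) (by decide)
    omega
  have e1 : y ^ 2 ∣ c * (y + 2) := by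
    refine Nat.Coprime.dvd_of_dvd_mul_left (m := p * (y + 1)) (Nat.Coprime.pow_left _ (Nat.Coprime.mul_right ?_ (by simp)))
      ⟨i, by linear_combination -h1⟩
    refine ((Nat.Prime.coprime_iff_not_dvd hp).2 fun h => ?_).symm
    have := Nat.le_of_dvd (by norm_num) ((Nat.dvd_add_right h).1 (hy ▸ dvd_mul_left p 3))
    omega
  have e2 : y ^ 2 ≤ 4 * c := by
    obtain ⟨n, hn⟩ := e1
    refine Nat.le_of_dvd (by omega) (Int.natCast_dvd_natCast.1 ⟨c - n * (y - 2), ?_⟩)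
    have : (c : ℤ) * (y + 2) = y ^ 2 * n := by exact_mod_cast hn
    push_cast; linear_combination (2 - y : ℤ) * this
  have e3 : 36 ≤ c := by nlinarith [show 12 ≤ y by omega]
  have e4 : p * c ≤ i := Nat.le_of_mul_le_mul_right (by rw [h1]; nlinarith [Nat.zero_le (p * c * y), Nat.zero_le (p * c)])
    (Nat.pow_pos (n := 2) (show 0 < y by omega))
  have e5 : i ≤ 2 * (p * c) := Nat.le_of_mul_le_mul_right (by
    rw [h1, show p * c * (y + 2) * (y + 1) = p * c * ((y + 2) * (y + 1)) by ring, show 2 * (p * c) * y ^ 2 = p * c * (2 * y ^ 2) by ring]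
    exact Nat.mul_le_mul_left _ (by nlinarith [show 12 ≤ y by omega])) (Nat.pow_pos (n := 2) (show 0 < y by omega))
  have e6 : 36 * 180 ≤ c * i := Nat.mul_le_mul e3 (le_trans (Nat.mul_le_mul h5 e3) e4)
  rcases h with h | h | ⟨q, -, q3, h, h'⟩
  · omega
  · omega
  obtain ⟨r, rfl⟩ : ∃ r, q = r + 1 := ⟨q - 1, by omega⟩
  rw [show (r + 1) ^ 2 - 1 = r * (r + 2) by rw [Nat.sub_eq_of_eq_add]; ring] at h
  have e7 : c ≤ 4 * p + 3 := by
    rcases h' with h' | h'
    · obtain rfl : c = r := by omega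
      have : 2 * i = (c + 1) * (c + 2) := Nat.eq_of_mul_eq_mul_left c0 (by linear_combination h)
      nlinarith
    · obtain rfl : c = r + 2 := by omega
      have : 2 * i = (r + 1) * r := Nat.eq_of_mul_eq_mul_left c0 (by linear_combination h)
      nlinarith
  nlinarith

theorem case2 [IsSimpleGroup G] (hG : ¬ IsMulCommutative G) [Fintype Ω] {p : ℕ} (hp : p.Prime) (h3 : 3 < p)
    (hΩ : Fintype.card Ω = 3 * p) [IsPretransitive G Ω] (h2 : IsMultiplyPretransitive G Ω 2) {t : G} (ht : orderOf t = 2)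
    (hc : ∀ u, orderOf u = 2 → IsConj t u) (hf : (fixedBy Ω t).ncard = 1 ∨ (fixedBy Ω t).ncard = 3) {x : ℕ}
    (hx : x + 1 = 3 * p) (ho : (Nat.card G : ℤ) * (x - ((fixedBy Ω t).ncard - 1)) ^ 2 =
      p * Nat.card (centralizer ({t} : Set G)) ^ 2 * x * (x - 1)) : False := by
  have po := hp.odd_of_ne_two (by omega)
  have hΩ' : Nat.card Ω = 3 * p := Nat.card_eq_fintype_card.trans hΩ
  have oΩ : Odd (Nat.card Ω) := by rw [hΩ']; exact Odd.mul (by decide) po
  have oi := odd_index ht hc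
  have ci := (centralizer ({t} : Set G)).card_mul_index
  have c0 : 0 < Nat.card (centralizer ({t} : Set G)) := Nat.card_pos
  have hf' : ∀ u, orderOf u = 2 → (fixedBy Ω u).ncard = (fixedBy Ω t).ncard := fun u hu => ncard_fix_conj (hc u hu)
  have : Nontrivial Ω := Fintype.one_lt_card_iff_nontrivial.1 (by omega)
  obtain ⟨a, b, hab⟩ := exists_pair_ne Ω
  have hG2 := card_stab (G := G) a b
  rw [show orbit (stabilizer G a) b = Set.univ \ {a} from Set.ext fun y => ⟨fun ⟨g, e⟩ => ⟨trivial, fun e' => hab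
      (smul_left_cancel (g : G) ((mem_stabilizer_iff.1 g.2).trans (e.trans e').symm))⟩, fun h => by
      obtain ⟨g, e1, e2⟩ := is_two_pretransitive_iff.1 h2 hab (Ne.symm h.2)
      exact ⟨⟨g, e1⟩, e2⟩⟩, Set.ncard_sdiff_singleton_of_mem (Set.mem_univ a), Set.ncard_univ, hΩ',
    show 3 * p - 1 = x by omega] at hG2
  have hsm := small_or_gw hG oΩ (by omega) ht hc (by omega)
  generalize Nat.card (centralizer ({t} : Set G)) = c at *
  generalize (centralizer ({t} : Set G)).index = i at *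
  rcases hf with hf | hf <;> rw [hf, ← ci] at ho
  · have e1 : i * x = p * c * (x - 1) := Nat.eq_of_mul_eq_mul_left (Nat.mul_pos c0 (show 0 < x by omega)) (by
      have : ((c * x * (i * x) : ℕ) : ℤ) = (c * x * (p * c * (x - 1)) : ℕ) := by
        push_cast [show 1 ≤ x by omega] at ho ⊢; linear_combination ho
      exact_mod_cast this)
    obtain ⟨w, rfl⟩ : x ∣ c := by
      refine Nat.Coprime.dvd_of_dvd_mul_left (m := p) ?_ (Nat.Coprime.dvd_of_dvd_mul_right (n := x - 1) ?_ ⟨i, by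
        linear_combination -e1⟩)
      · refine ((Nat.Prime.coprime_iff_not_dvd hp).2 fun h => ?_).symm
        have := Nat.le_of_dvd (by norm_num) ((Nat.dvd_add_right h).1 (hx ▸ dvd_mul_left p 3))
        omega
      · obtain ⟨y, rfl⟩ : ∃ y, x = y + 1 := ⟨x - 1, by omega⟩
        simp
    obtain rfl : i = p * w * (x - 1) := Nat.eq_of_mul_eq_mul_right (show 0 < x by omega) (by linear_combination e1)
    obtain ⟨S⟩ : Nonempty (Sylow 2 G) := inferInstance
    obtain ⟨z, hz, z2⟩ := exists_invol (S := (S : Subgroup G)) (by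
      obtain ⟨n, hn⟩ := IsPGroup.iff_card.1 S.2
      rw [hn]
      exact dvd_pow_self 2 fun e => S.ne_bot_of_dvd_card (ht ▸ orderOf_dvd_natCard t) (card_eq_one.1 (by rw [hn, e, pow_zero])))
    obtain ⟨o, ho⟩ := exists_fix oΩ S.2
    have key : ∀ s ∈ (S : Subgroup G), orderOf s = 2 → fixedBy Ω s = {o} := fun s hs s2 => by
      obtain ⟨y, hy⟩ := Set.ncard_eq_one.1 ((hf' s s2).trans hf)
      rw [hy, show o = y from Set.mem_singleton_iff.1 (hy ▸ ho s hs)]
    obtain ⟨e, e2, e3⟩ := bender_bound hG (se_of_fix S hz z2 ⟨o, ho z hz⟩ (fun e => by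
      have := hf' z z2; rw [e, Set.ncard_univ] at this; omega) fun s hs s2 => by rw [key s hs s2, key z hz z2])
    exact arith2a h3 hx oi (ci ▸ e2) (ci ▸ e3) (by rw [ci, hG2, ← mul_assoc]; exact dvd_mul_right _ _)
  · obtain ⟨y, rfl⟩ : ∃ y, x = y + 2 := ⟨x - 2, by omega⟩
    have e1 : i * y ^ 2 = p * c * (y + 2) * (y + 1) := Nat.eq_of_mul_eq_mul_left c0 (by
      have : ((c * (i * y ^ 2) : ℕ) : ℤ) = (c * (p * c * (y + 2) * (y + 1)) : ℕ) := by
        push_cast at ho ⊢; linear_combination ho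
      exact_mod_cast this)
    obtain ⟨T⟩ : Nonempty (Sylow 2 ↥(stabilizer G a ⊓ stabilizer G b)) := inferInstance
    obtain ⟨n, hn⟩ := IsPGroup.iff_card.1 T.2
    have hT : Nat.card T ∣ y := by
      obtain ⟨o, o1, o2⟩ : ∃ o ∈ (Set.univ \ {a, b} : Set Ω), ∀ u ∈ (T : Subgroup ↥(stabilizer G a ⊓ stabilizer G b)).map (Subgroup.subtype _), u • o = o := by
        by_contra! hc
        have := dvd_of_nofix Nat.prime_two (T.2.map (Subgroup.subtype _)) _ (by
          rintro _ ⟨u, -, rfl⟩ x hx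
          exact ⟨trivial, fun h => hx.2 (h.imp (fun e => smul_left_cancel (u : G) (e.trans u.2.1.symm))
            fun e => smul_left_cancel (u : G) (e.trans u.2.2.symm))⟩) hc
        rw [Set.ncard_sdiff (Set.subset_univ _), Set.ncard_univ, Set.ncard_pair hab, hΩ'] at this
        obtain ⟨k, rfl⟩ := po
        omega
      simp only [Set.mem_sdiff, Set.mem_univ, true_and, Set.mem_insert_iff, Set.mem_singleton_iff, not_or] at o1
      have o3 : ∀ u : T, u • a = a ∧ u • b = b ∧ u • o = o := fun u => ⟨u.1.2.1, u.1.2.2, o2 _ ⟨u, u.2, rfl⟩⟩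
      have := Fintype.ofFinite T
      have := H17.card_dvd_of_free (G := T) (univ \ {a, b, o}) (fun u x hx => by
        simp only [mem_sdiff, mem_univ, true_and, mem_insert, mem_singleton] at hx ⊢
        exact fun h => hx (h.imp (fun e => smul_left_cancel u (e.trans (o3 u).1.symm)) (Or.imp
          (fun e => smul_left_cancel u (e.trans (o3 u).2.1.symm)) fun e => smul_left_cancel u (e.trans (o3 u).2.2.symm))))
        fun x hx u e => by_contra fun u1 => by
          obtain ⟨v, v1, v2⟩ := exists_invol (S := zpowers u) (by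
            obtain ⟨k, hk⟩ := T.2.exists_orderOf_eq_pow u
            rw [Nat.card_zpowers, hk]
            exact dvd_pow_self 2 fun e => u1 (orderOf_eq_one_iff.1 (by rw [hk, e, pow_zero])))
          have v3 : ({a, b, o} : Set Ω) = fixedBy Ω (v.1.1 : G) := Set.eq_of_subset_of_ncard_le (by
            rintro _ (rfl | rfl | rfl); exacts [(o3 v).1, (o3 v).2.1, (o3 v).2.2]) (by
            rw [Set.ncard_eq_three.2 ⟨_, _, _, hab, Ne.symm o1.1, Ne.symm o1.2, rfl⟩,
              hf' _ (by rw [Subgroup.orderOf_coe, Subgroup.orderOf_coe, v2]), hf])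
          have v4 : x ∈ fixedBy Ω (v.1.1 : G) := zpowers_le.2 (show u ∈ stabilizer T x from e) v1
          rw [← v3] at v4
          simpa using (mem_sdiff.1 hx).2 (by simpa using v4)
      rwa [card_univ_sdiff, card_eq_three.2 ⟨_, _, _, hab, Ne.symm o1.1, Ne.symm o1.2, rfl⟩, hΩ, show 3 * p - 3 = y by omega]
        at this
    have h16 := arith2b h3 po (by omega) oi e1 (ci.trans hG2) (m' := (T : Subgroup ↥(stabilizer G a ⊓ stabilizer G b)).index) (by rw [← hn, card_mul_index])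
      (Nat.odd_iff.2 (Nat.two_dvd_ne_zero.1 T.not_dvd_index)) (hn ▸ hT)
    exact arith2c h3 hp (by omega) c0 e1 (ci ▸ hsm (ci ▸ h16))

theorem rk3_orbit {R : Ω → Ω → Prop} (h : Rk3 G R) [Fintype Ω] {a b : Ω} (e : R a b) :
    (orbit (stabilizer G a) b).ncard = #{c | R a c} := by
  rw [← Set.ncard_coe_finset]
  congr 1
  ext d
  simp only [coe_filter, mem_univ, true_and, Set.mem_ofPred_eq]
  exact ⟨fun ⟨k, e'⟩ => by have := h.inv k.1 e; rwa [k.2, show k.1 • b = d from e'] at this,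
    fun e' => let ⟨k, e1, e2⟩ := h.tr1 e e'; ⟨⟨k, e1⟩, e2⟩⟩

theorem rk3_invol {R : Ω → Ω → Prop} (h : Rk3 G R) [Fintype Ω] [IsPretransitive G Ω] (ho : Odd (Nat.card Ω)) (a : Ω)
    (h1 : 16 ∣ Nat.card G) (h2 : ¬ 16 ∣ #{c | R a c}) : ∃ v : G, orderOf v = 2 ∧ ∃ x ∈ fixedBy Ω v, ∃ y ∈ fixedBy Ω v, R x y := by
  obtain ⟨x, y, e⟩ := h.ne1
  have h3 := card_stab (G := G) x y
  rw [rk3_orbit h e, h.deg_eq x a] at h3
  obtain ⟨v, v1, v2⟩ := exists_invol (S := stabilizer G x ⊓ stabilizer G y) (by_contra fun h4 => h2 (by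
    have c2 : ∀ n, Odd n → Nat.Coprime (2 ^ 4) n := fun n h => Nat.Coprime.pow_left _ (Nat.coprime_two_left.2 h)
    exact (c2 _ (Nat.odd_iff.2 (Nat.two_dvd_ne_zero.1 h4))).dvd_of_dvd_mul_right ((c2 _ ho).dvd_of_dvd_mul_left (h3 ▸ h1))))
  exact ⟨v, v2, x, v1.1, y, v1.2, e⟩

omit [Finite G] in
theorem rk3_fix {R : Ω → Ω → Prop} (h : Rk3 G R) (hs : ∀ {a b}, R a b → R b a) [Fintype Ω] [IsPretransitive G Ω] (o : Ω)
    (he : 2 ∣ #{c | R o c}) {v : G} (v2 : orderOf v = 2) (hf : (fixedBy Ω v).ncard ≤ 3) {a b : Ω} (ha : a ∈ fixedBy Ω v)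
    (hb : b ∈ fixedBy Ω v) (e : R a b) {x y : Ω} (hx : x ∈ fixedBy Ω v) (hy : y ∈ fixedBy Ω v) (hxy : x ≠ y) : R x y := by
  have key : ∀ a ∈ fixedBy Ω v, ∀ b ∈ fixedBy Ω v, R a b → ∃ c ∈ fixedBy Ω v, c ≠ b ∧ R a c := fun a ha b hb e => by
    by_contra! hc
    have : Finite (zpowers v) := Nat.finite_of_card_ne_zero (by rw [Nat.card_zpowers, v2]; decide)
    have := dvd_of_nofix Nat.prime_two (U := zpowers v) (H08.isPGroup_zpowers_of_orderOf v2) ({c | R a c} \ {b})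
      (fun u hu c hc' => by
        have e1 : u • a = a := zpowers_le.2 (show v ∈ stabilizer G a from ha) hu
        have e2 : u • b = b := zpowers_le.2 (show v ∈ stabilizer G b from hb) hu
        exact ⟨e1 ▸ h.inv u hc'.1, fun e' => hc'.2 (smul_left_cancel u (e'.trans e2.symm))⟩)
      fun c hc' => ⟨v, mem_zpowers v, fun e' => hc c e' hc'.2 hc'.1⟩
    rw [Set.ncard_sdiff_singleton_of_mem (show b ∈ {c | R a c} from e),
      show {c | R a c}.ncard = #{c | R a c} by rw [← Set.ncard_coe_finset]; simp] at this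
    have e3 : 0 < #{c | R a c} := card_pos.2 ⟨b, by simpa using e⟩
    rw [h.deg_eq o a] at he
    omega
  obtain ⟨c, hc, cb, e1⟩ := key a ha b hb e
  have e2 : ({a, b, c} : Set Ω) = fixedBy Ω v := Set.eq_of_subset_of_ncard_le (by
    rintro _ (rfl | rfl | rfl) <;> assumption) (by
    rwa [Set.ncard_eq_three.2 ⟨_, _, _, h.ne e, h.ne e1, cb.symm, rfl⟩])
  obtain ⟨d, hd, da, e3⟩ := key b hb a ha (hs e)
  have e4 : R b c := by
    rw [← e2] at hd
    rcases hd with rfl | rfl | rfl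
    exacts [absurd rfl da, absurd e3 (h.irr _), e3]
  rw [← e2] at hx hy
  rcases hx with rfl | rfl | rfl <;> rcases hy with rfl | rfl | rfl
  exacts [absurd rfl hxy, e, e1, hs e, absurd rfl hxy, e4, hs e1, hs e4, absurd rfl hxy]

theorem arith1a {p k l : ℕ} (hkl : k + l + 1 = 3 * p) (h : 4 * (k : ℤ) + l = 2 * (2 * k - l) ^ 2) (h8 : 8 ∣ p - 1)
    (p0 : 0 < p) : 2 ∣ k ∧ ¬ 16 ∣ k ∧ ¬ 16 ∣ l := by
  obtain ⟨n, hn⟩ := h8
  obtain ⟨σ, hσ⟩ : ∃ σ : ℤ, σ = 2 * k - l := ⟨_, rfl⟩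
  rw [← hσ] at h
  obtain ⟨s, rfl⟩ : 2 ∣ σ := by omega
  obtain ⟨u, hu⟩ : ∃ u, u = s ^ 2 := ⟨_, rfl⟩
  have e1 : 4 * (k : ℤ) + l = 8 * u := by rw [h, hu]; ring
  obtain ⟨τ, rfl⟩ : 2 ∣ s := by omega
  obtain ⟨w, hw⟩ : ∃ w, w = τ ^ 2 := ⟨_, rfl⟩
  have e2 : u = 4 * w := by rw [hu, hw]; ring
  omega

theorem arith1b {p k l m : ℕ} (h3 : 3 < p) (hkl : k + l + 1 = 3 * p) (h : 4 * (k : ℤ) + l = 2 * (2 * k - l) ^ 2)
    (hm : 3 * (l * m) = (2 * p - 1) * (2 * p - 2)) : p = 5 := by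
  obtain ⟨σ, hσ⟩ : ∃ σ : ℤ, σ = 2 * k - l := ⟨_, rfl⟩
  rw [← hσ] at h
  have e0 : (k : ℤ) + l + 1 = 3 * p := by exact_mod_cast hkl
  have e1 : 3 * (l : ℤ) = 2 * σ * (σ - 1) := by linear_combination h + 2 * hσ
  have e2 : 6 * (p : ℤ) - 2 = σ * (2 * σ - 1) := by linear_combination h - 2 * e0 + hσ
  have e3 : 3 * ((l : ℤ) * m) = (2 * p - 1) * (2 * p - 2) := by
    zify [show 1 ≤ 2 * p by omega, show 2 ≤ 2 * p by omega] at hm; exact hm
  have e4 : σ ∣ 4 := ⟨18 * (σ - 1) * m - (2 * σ - 1) * (σ * (2 * σ - 1) - 5), by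
    linear_combination -9 * e3 + 9 * m * e1 - (6 * p - 7 + σ * (2 * σ - 1)) * e2⟩
  have e5 := Int.le_of_dvd (by norm_num) e4
  have e6 := Int.le_of_dvd (by norm_num) ((neg_dvd (a := σ)).2 e4)
  have e7 : -4 ≤ σ := by omega
  interval_cases σ <;> omega

theorem arith1c {p w : ℕ} (h3 : 3 < p) (hp : p.Prime) (hw : Odd w) {c i : ℕ} (hc : c = (2 * p - 2) * w)
    (hi : i = p * (2 * p - 1) * w)
    (h : c * i < 512 ∨ c * i = 2520 ∨ ∃ q : ℕ, Odd q ∧ 3 < q ∧ 2 * (c * i) = q * (q ^ 2 - 1) ∧ (c + 1 = q ∨ c = q + 1)) :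
    w = 1 := by
  have h5 : 5 ≤ p := by
    have : p ≠ 4 := fun e => absurd (e ▸ hp) (by decide)
    omega
  by_contra w1
  have w3 : 3 ≤ w := by obtain ⟨r, rfl⟩ := hw; omega
  have e1 : 8 * 3 * (5 * 9 * 3) ≤ c * i := by rw [hc, hi]; gcongr <;> omega
  have c0 : 0 < c := Nat.pos_of_ne_zero fun e => by simp [e] at e1
  rcases h with h | h | ⟨q, -, q3, h, h'⟩
  · omega
  · omega
  obtain ⟨r, rfl⟩ : ∃ r, q = r + 1 := ⟨q - 1, by omega⟩
  rw [show (r + 1) ^ 2 - 1 = r * (r + 2) by rw [Nat.sub_eq_of_eq_add]; ring] at h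
  have d1 : w ∣ c := hc ▸ dvd_mul_left _ _
  have d2 : w ∣ 2 * i := hi ▸ (dvd_mul_left _ _).mul_left _
  have : w ∣ 2 := by
    rcases h' with h' | h'
    · obtain rfl : c = r := by omega
      have : 2 * i = c * (c + 3) + 2 := Nat.eq_of_mul_eq_mul_left c0 (by linear_combination h)
      exact (Nat.dvd_add_right (d1.mul_right _)).1 (this ▸ d2)
    · have : 2 * i + c * 3 = c * c + 2 := Nat.eq_of_mul_eq_mul_left c0 (by rw [h'] at h ⊢; linear_combination h)
      exact (Nat.dvd_add_right (d1.mul_right _)).1 (this ▸ dvd_add d2 (d1.mul_right _))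
  have := Nat.le_of_dvd two_pos this
  omega

theorem case1 [IsSimpleGroup G] (hG : ¬ IsMulCommutative G) [Fintype Ω] {p : ℕ} (hp : p.Prime) (h3 : 3 < p)
    (hΩ : Fintype.card Ω = 3 * p) [IsPretransitive G Ω] {R : Ω → Ω → Prop} (h : Rk3 G R) (hs : ∀ {a b}, R a b → R b a)
    {t : G} (ht : orderOf t = 2) (hc : ∀ u, orderOf u = 2 → IsConj t u) (hf : (fixedBy Ω t).ncard ≤ 3) {x : ℕ}
    (hx : x + 1 = 2 * p) (ho : (Nat.card G : ℤ) * (x - 1) ^ 2 = p * Nat.card (centralizer ({t} : Set G)) ^ 2 * x * (x - 1))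
    (a : Ω) (hk : 4 * (#{c | R a c} : ℤ) + #{c | a ≠ c ∧ ¬ R a c} = 2 * (2 * #{c | R a c} - #{c | a ≠ c ∧ ¬ R a c}) ^ 2) :
    p = 5 ∧ Nat.card G = 360 := by
  have po := hp.odd_of_ne_two (by omega)
  have hΩ' : Nat.card Ω = 3 * p := Nat.card_eq_fintype_card.trans hΩ
  have oΩ : Odd (Nat.card Ω) := by rw [hΩ']; exact Odd.mul (by decide) po
  have oi := odd_index ht hc
  have ci := (centralizer ({t} : Set G)).card_mul_index
  have c0 : 0 < Nat.card (centralizer ({t} : Set G)) := Nat.card_pos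
  have hsm := small_or_gw hG oΩ (by omega) ht hc hf
  have hkl := (h.deg_compl a).trans hΩ
  generalize Nat.card (centralizer ({t} : Set G)) = c at *
  generalize (centralizer ({t} : Set G)).index = i at *
  obtain ⟨y, rfl⟩ : ∃ y, x = y + 1 := ⟨x - 1, by omega⟩
  have e1 : i * y = p * (y + 1) * c := Nat.eq_of_mul_eq_mul_left (Nat.mul_pos c0 (show 0 < y by omega)) (by
    have : ((c * y * (i * y) : ℕ) : ℤ) = (c * y * (p * (y + 1) * c) : ℕ) := by
      rw [← ci] at ho; push_cast at ho ⊢; linear_combination ho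
    exact_mod_cast this)
  obtain ⟨w, hw⟩ : y ∣ c := by
    refine Nat.Coprime.dvd_of_dvd_mul_left (m := p * (y + 1)) (Nat.Coprime.mul_right ?_ (by simp))
      ⟨i, by linear_combination -e1⟩
    refine ((Nat.Prime.coprime_iff_not_dvd hp).2 fun h => ?_).symm
    have := Nat.le_of_dvd (by norm_num) ((Nat.dvd_add_right h).1 (show p ∣ y + 2 from ⟨2, by omega⟩))
    omega
  have hi : i = p * (y + 1) * w := Nat.eq_of_mul_eq_mul_right (show 0 < y by omega) (by rw [e1, hw]; ring)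
  have ow : Odd w := (Nat.odd_mul.1 (hi ▸ oi)).2
  have h16 : ¬ 16 ∣ Nat.card G := fun h16 => by
    have c2 : ∀ n, Odd n → Nat.Coprime (2 ^ 4) n := fun n h => Nat.Coprime.pow_left _ (Nat.coprime_two_left.2 h)
    have e2 := (c2 _ ow).dvd_of_dvd_mul_right (hw ▸ (c2 _ oi).dvd_of_dvd_mul_right (ci ▸ h16))
    obtain ⟨e3, e4, e5⟩ := arith1a hkl hk (by omega) hp.pos
    obtain ⟨v, v2, x, hx, y, hy, e⟩ := rk3_invol h oΩ a h16 e4
    obtain ⟨v', v2', x', hx', y', hy', e'⟩ := rk3_invol h.compl oΩ a h16 (by convert e5)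
    obtain ⟨g, rfl⟩ := isConj_iff.1 ((hc v v2).symm.trans (hc v' v2'))
    rw [fix_conj, Set.mem_smul_set_iff_inv_smul_mem] at hx' hy'
    exact e'.2 ((h.inv_iff g⁻¹).1 (rk3_fix h hs a e3 v2 ((ncard_fix_conj (hc v v2)).trans_le hf) hx hy e hx' hy'
      ((MulAction.injective g⁻¹).ne e'.1)))
  obtain rfl := arith1c h3 hp ow (c := c) (i := i) (by rw [hw]; congr 1; omega) (by rw [hi]; congr 2; omega) (ci ▸ hsm h16)
  obtain ⟨m, hm⟩ : #{c | a ≠ c ∧ ¬ R a c} ∣ Nat.card (stabilizer G a) := by convert h.compl.deg_dvd a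
  have e2 := (stabilizer G a).card_mul_index
  rw [index_stabilizer_of_transitive, hΩ', hm, ← ci, hw, hi] at e2
  have e3 := arith1b (m := m) h3 hkl hk (Nat.eq_of_mul_eq_mul_left hp.pos (by
    rw [show 2 * p - 1 = y + 1 by omega, show 2 * p - 2 = y by omega]; linear_combination e2))
  refine ⟨e3, ?_⟩
  rw [← ci, hw, hi, show y = 8 by omega, e3]

end H05.D3
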