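import Mathlib
import Cfsg.Agent.H05.D3p4
import Cfsg.Agent.S0497

/-!
Simple transitive groups of degree `3 p` with `|N(P)| = 2 p` (helper5): `prim`, `imprim`.
-/

open Cfsg Subgroup MulAction H08 H19 H05 Classical Finset
open scoped MatrixGroups

namespace H05.D3

variable {G : Type*} [Group G] [Finite G] [IsSimpleGroup G] (hG : ¬ IsMulCommutative G) {p : ℕ} [hp : Fact p.Prime]
  (h3 : 3 < p) {Ω : Type*} [Fintype Ω] [MulAction G Ω] [IsPretransitive G Ω] (hΩ : Fintype.card Ω = 3 * p) (P : Sylow p G)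
  (hN : Nat.card (normalizer ((P : Subgroup G) : Set G)) = 2 * p)
include hG hN

omit [IsPretransitive G Ω] in
theorem not_normal : ¬ (P : Subgroup G).Normal := fun h =>
  P.ne_bot_of_dvd_card ((dvd_mul_left p 2).trans (hN ▸ card_subgroup_dvd_card _)) (NA.pg_bot hG _ P.2)

include h3 hΩ

theorem imprim (h : ¬ IsPreprimitive G Ω) : ∃ (F : Type) (_ : Field F) (_ : Fintype F) (m : ℕ),
    Fintype.card F = 2 ^ m ∧ p = 2 ^ m + 1 ∧ Nonempty (G ≃* PSL(2, F)) := by
  have : Nontrivial Ω := Fintype.one_lt_card_iff_nontrivial.1 (by omega)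
  obtain ⟨a⟩ : Nonempty Ω := inferInstance
  have h1 : (stabilizer G a).index = 3 * p := by rw [index_stabilizer_of_transitive, Nat.card_eq_fintype_card, hΩ]
  rw [← isCoatom_stabilizer_iff_preprimitive G a, IsCoatom, not_and] at h
  have := h (fun e => by rw [e, index_top] at h1; omega)
  push Not at this
  obtain ⟨M, m1, m2⟩ := this
  have : FaithfulSMul G (G ⧸ M) := ⟨fun {g g'} e => by
    have h4 : M.normalCore = ⊥ := (M.normalCore_normal.eq_bot_or_eq_top).resolve_right fun e =>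
      m2 (top_le_iff.1 (e ▸ M.normalCore_le))
    rw [normalCore_eq_ker, MonoidHom.ker_eq_bot_iff] at h4
    exact h4 (Equiv.ext e)⟩
  have h2 : M.index ∣ 3 * p := h1 ▸ index_dvd_of_le m1.le
  have h4 : M.index = p := by
    obtain ⟨a, b, ha, hb, e⟩ := (Nat.dvd_mul).1 h2
    rcases (Nat.dvd_prime Nat.prime_three).1 ha with rfl | rfl <;> rcases (Nat.dvd_prime hp.out).1 hb with rfl | rfl
    · exact absurd (index_eq_one.1 e.symm) m2
    · omega
    · have e1 := card_dvd_of_injective (toPermHom G (G ⧸ M)) toPerm_injective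
      rw [Nat.card_perm, show Nat.card (G ⧸ M) = 3 from e.symm] at e1
      have e2 := ((dvd_mul_left p 2).trans (hN ▸ card_subgroup_dvd_card _)).trans e1
      have := (hp.out.dvd_factorial).1 e2
      omega
    · exact absurd (eq_of_le_of_card_ge m1.le (Nat.le_of_mul_le_mul_right (by
        rw [← h1, card_mul_index, h1, e, card_mul_index]) (show 0 < 3 * b by omega))) m1.ne
  obtain ⟨⟨m, h5, h6⟩, h7⟩ := sl2_of_action (α := G ⧸ M) (IsPreprimitive.of_prime_card (h4 ▸ hp.out : M.index.Prime)) h3 P hN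
    (not_normal hG P hN) (Or.inl h4)
  obtain ⟨F, _, _, hF⟩ := exists_field_two_pow (show m ≠ 0 by omega)
  obtain ⟨e⟩ := h7 F (hF.trans h6.symm)
  obtain ⟨f⟩ := nonempty_sl_equiv_psl_of_even (F := F) (hF ▸ (Nat.even_pow' (by omega)).2 even_two)
  exact ⟨F, _, _, m, hF, by omega, ⟨e.trans f⟩⟩

theorem prim [FaithfulSMul G Ω] (hprim : IsPreprimitive G Ω) : p = 5 ∧ Nonempty (G ≃* alternatingGroup (Fin 6)) := by
  have := Fintype.ofFinite G
  have := Fintype.ofFinite P
  have : Nontrivial Ω := Fintype.one_lt_card_iff_nontrivial.1 (by omega)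
  obtain ⟨o⟩ : Nonempty Ω := inferInstance
  have hΩ' : Nat.card Ω = 3 * p := Nat.card_eq_fintype_card.trans hΩ
  have po := hp.out.odd_of_ne_two (by omega)
  have h1 : p ∣ Nat.card G := (dvd_mul_left p 2).trans (hN ▸ card_subgroup_dvd_card _)
  have h2 : ¬ p ^ 2 ∣ Nat.card G := fun h => by
    have e1 := (P.pow_dvd_card_of_pow_dvd_card h).trans (card_dvd_of_le le_normalizer)
    rw [hN, sq] at e1
    have := Nat.le_of_dvd two_pos (Nat.dvd_of_mul_dvd_mul_right hp.out.pos e1)
    omega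
  obtain ⟨H, _, _, S, hS⟩ := exists_dOne' P (card_sylow_eq_prime h1 h2 P)
  have hH : Nat.card H = 2 := by
    rw [← hS, ← S.N_eq, S.card_N, mul_comm] at hN
    exact Nat.eq_of_mul_eq_mul_right hp.out.pos hN
  have hM : ∀ M : Subgroup G, M.Normal → M ≠ ⊥ → p ∣ Nat.card M := fun M h h' => by
    rw [h.eq_bot_or_eq_top.resolve_left h', card_top]; exact h1
  have hK := S.K_eq_bot_of_card (by omega) hH hM
  obtain ⟨ξ, Y, δ, T⟩ := S.exists_two h3 hK hH
  have nf : ∀ g : G, p ∣ orderOf g → ∀ x : Ω, g • x ≠ x := fun g hg x e => h2 (by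
    rw [← (stabilizer G x).card_mul_index, index_stabilizer_of_transitive, sq, hΩ']
    exact mul_dvd_mul (hg.trans (Subgroup.orderOf_dvd_natCard _ e)) (dvd_mul_left _ _))
  have hπ := isCharacter_perm (G := G) Ω
  obtain ⟨l3, hcase⟩ := cases3 hG T h3 hK hH (by rw [hS]; exact not_normal hG P hN) hM hπ (fun g hg => by
    rw [Nat.cast_eq_zero, Nat.card_eq_zero]; exact Or.inl ⟨fun a => nf g hg _ a.2⟩)
    (classInner_perm_one_of_transitive Ω) (charDegree_eq_of_apply_one (by simp [hΩ])) (fun g => ⟨_, rfl⟩)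
  have : Nontrivial H := Finite.one_lt_card_iff_nontrivial.1 (by omega)
  obtain ⟨j, hj⟩ := exists_ne (1 : H)
  have ht := orderOf_jH (S := S) hH hj
  have ht2 : S.jH j ^ 2 = 1 := ht ▸ pow_orderOf_eq_one _
  have hf : (fixedBy Ω (S.jH j)).ncard ≤ 3 := by
    obtain ⟨a, b, e1, e2⟩ := lin_split hK hH hj hπ
    have : ((Nat.card (fixedBy Ω (S.jH j)) + b : ℕ) : ℂ) = a := by push_cast; linear_combination e2
    have := Nat.cast_injective this
    rw [← Nat.card_coe_set_eq]; omega
  rcases hcase with h | ⟨rfl, h, e⟩ | ⟨rfl, h, l1, θ, t1, t2, t3, e⟩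
  · exfalso
    obtain ⟨⟨m, h5, h6⟩, h7⟩ := T.sl2 hM h3 h hH P hS
    obtain ⟨F, _, _, hF⟩ := exists_field_two_pow (show m ≠ 0 by omega)
    obtain ⟨e⟩ := h7 F (hF.trans h6.symm)
    obtain ⟨f⟩ := nonempty_sl_equiv_psl_of_even (F := F) (hF ▸ (Nat.even_pow' (by omega)).2 even_two)
    exact not_index_three_mul hF (by obtain ⟨k, hk⟩ := po; omega) (U := (stabilizer G o).map (e.trans f).toMonoidHom)
      (((e.trans f).mapSubgroup.isCoatom_iff _).2 (IsPreprimitive.isCoatom_stabilizer_of_isPreprimitive G o)) (by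
        rw [index_map_of_bijective (f := (e.trans f).toMonoidHom) (e.trans f).bijective, index_stabilizer_of_transitive]; omega)
  · exfalso
    have e1 : (ξ : G → ℂ) (S.jH j) = (((fixedBy Ω (S.jH j)).ncard - 1 : ℤ) : ℂ) := by
      have := congrFun e (S.jH j)
      simp only [Pi.add_apply, Pi.one_apply, Nat.card_coe_set_eq] at this
      push_cast; linear_combination -this
    have e2 := four_dvd_deg_sub hG ht2 e1
    refine case2 hG hp.out h3 hΩ ((isIrr_perm_sub_one_iff Ω).1 ?_) ht (fun u hu => isConj_invol T h3 hK hH hj hu)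
      (by obtain ⟨k, hk⟩ := po; omega) h (order_formula T h3 hK hH hj e1)
    convert ξ.2 using 1
    exact funext fun g => by rw [congrFun e g]; simp
  · obtain ⟨a, b, e1, e2⟩ := lin_split hK hH hj ξ.2.isCharacter
    have e3 := four_dvd_deg_sub hG (χ := ξ) (v := a - b) ht2 (by rw [e2]; simp)
    have e4 : (ξ : G → ℂ) (S.jH j) = (1 : ℤ) := by
      obtain ⟨k, hk⟩ := po
      rw [e2, show a = 1 by omega, show b = 0 by omega]; simp
    have i1 : ∀ χ ψ : IrrCharacter G, χ ≠ ψ → classInner (χ : G → ℂ) ψ = 0 := fun χ ψ h => by rw [classInner_irr, if_neg h]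
    have i2 : ∀ χ : IrrCharacter G, classInner (χ : G → ℂ) χ = 1 := fun χ => χ.2.classInner_self
    have e' : (fun g : G => (Nat.card (fixedBy Ω g) : ℂ)) = (irrOne G : G → ℂ) + ξ + θ := e
    obtain ⟨R, hR⟩ := exists_rk3 (G := G) (X := Ω) (by
      have := classInner_perm_perm (G := G) Ω Ω
      rw [e'] at this
      simp only [classInner_add_left, classInner_add_right, i2, i1 _ _ T.ne, i1 _ _ T.ne.symm, i1 _ _ t1, i1 _ _ t1.symm,
        i1 _ _ t2, i1 _ _ t2.symm] at this
      exact_mod_cast (show ((Nat.card (orbitRel.Quotient G (Ω × Ω)) : ℕ) : ℂ) = (3 : ℕ) by rw [← this]; norm_num))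
    obtain ⟨x, hx⟩ : ∃ x : Ω, x ≠ S.jH j • x := by
      by_contra! hc
      exact ne_one_of_orderOf ht (eq_of_smul_eq_smul fun x : Ω => by rw [← hc x, one_smul])
    have hs : ∀ {a b}, R a b → R b a := fun h => hR.symm (mul_self_of_orderOf ht) hx h
    obtain ⟨y, hy⟩ := S.exists_ne
    have hu : orderOf (S.jP y) = p := by rw [orderOf_injective _ S.injP, S.orderOf_P hy]
    have ho := order_formula T h3 hK hH hj e4
    have hc := fun u hu => isConj_invol T h3 hK hH hj (z := u) hu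
    suffices p = 5 ∧ Nat.card G = 360 from ⟨this.1, Agent.S0497.result this.2⟩
    rcases rk3_params hR hs hp.out hΩ θ.2 (fun e => t1 (Subtype.ext e)) (by rw [← θ.2.charDegree_eq, t3]) (by
      rw [e']; simp only [classInner_add_left, i2, i1 _ _ t1.symm, i1 _ _ t2.symm]; simp) hu
      (S.apply_eq_zero_of_dvd t3.symm.dvd hu.symm.dvd) (nf _ hu.symm.dvd) o with hk | hk
    · exact case1 hG hp.out h3 hΩ hR hs ht hc hf h ho o hk
    · refine case1 hG hp.out h3 hΩ hR.compl (fun h => ⟨h.1.symm, mt hs h.2⟩) ht hc hf h ho o ?_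
      have : #{c | o ≠ c ∧ ¬ (o ≠ c ∧ ¬ R o c)} = #{c | R o c} :=
        congrArg card (filter_congr fun c _ => ⟨by tauto, fun h => ⟨hR.ne h, by tauto⟩⟩)
      convert hk using 1 <;> rw [← this] <;> congr!

end H05.D3
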