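import Cfsg.Agent.H19.Dm0

/-! Part AB3 of the `S₈` cluster: `A₅ × A₅` containing enough involution centralizers is everything (`H05.Dm.ab3`). -/

set_option autoImplicit false
set_option synthInstance.maxSize 4000

open H19.Dm Equiv Subgroup

namespace H05.Dm

theorem dih {G : Type*} [Group G] [Finite G] {x y : G} (hx : x * x = 1) (hy : y * y = 1) :
    (∃ k : ℕ, y = (x * y) ^ k * x * ((x * y) ^ k)⁻¹) ∨ ∃ n : ℕ, (x * y) ^ n ≠ 1 ∧ (x * y) ^ n * (x * y) ^ n = 1 ∧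
      (x * y) ^ n * x = x * (x * y) ^ n ∧ (x * y) ^ n * y = y * (x * y) ^ n ∧ ∃ k : ℕ,
        (x * y) ^ n * x = (x * y) ^ k * x * ((x * y) ^ k)⁻¹ ∨ (x * y) ^ n * x = (x * y) ^ k * y * ((x * y) ^ k)⁻¹ := by
  have xi : x⁻¹ = x := inv_eq_of_mul_eq_one_right hx
  have yi : y⁻¹ = y := inv_eq_of_mul_eq_one_right hy
  have e0 : y = (x * y)⁻¹ * x := by rw [mul_inv_rev, xi, yi, mul_assoc, hx, mul_one]
  have e1 : x * (x * y)⁻¹ = (x * y) * x := by rw [mul_inv_rev, xi, yi, mul_assoc]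
  generalize x * y = r at *
  have e2 : ∀ k : ℕ, x * (r ^ k)⁻¹ = r ^ k * x := fun k => by
    induction k with
    | zero => simp
    | succ k ih => rw [pow_succ, mul_inv_rev, ← mul_assoc, e1, mul_assoc, ih, ← mul_assoc, ← pow_succ', pow_succ]
  have e3 : ∀ k : ℕ, r ^ k * x * (r ^ k)⁻¹ = r ^ (2 * k) * x := fun k => by
    rw [mul_assoc, e2, ← mul_assoc, ← pow_add, two_mul]
  have hp := orderOf_pos r
  have h1 := pow_orderOf_eq_one r
  obtain ⟨m, hm | hm⟩ := Nat.even_or_odd' (orderOf r)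
  · have z2 : r ^ m * r ^ m = 1 := by rw [← pow_add, ← two_mul, ← hm, h1]
    have zi : (r ^ m)⁻¹ = r ^ m := inv_eq_of_mul_eq_one_right z2
    have zx : r ^ m * x = x * r ^ m := by rw [← e2, zi]
    refine .inr ⟨m, pow_ne_one_of_lt_orderOf (by omega) (by omega), z2, zx, ?_, ?_⟩
    · rw [e0, ← mul_assoc, ((Commute.refl r).pow_left m).inv_right.eq, mul_assoc, zx, mul_assoc]
    obtain ⟨k, hk | hk⟩ := Nat.even_or_odd' m
    · exact ⟨k, .inl (by rw [e3, hk])⟩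
    · refine ⟨k + 1, .inr ?_⟩
      rw [e0, hk]
      calc _ = r⁻¹ * (r ^ (2 * (k + 1)) * x) := by rw [show 2 * (k + 1) = 2 * k + 1 + 1 by ring, pow_succ' r (2 * k + 1)]; group
        _ = r⁻¹ * (r ^ (k + 1) * x * (r ^ (k + 1))⁻¹) := by rw [e3]
        _ = _ := by group
  · refine .inl ⟨m, ?_⟩
    rw [e3, e0]
    congr 1
    rw [hm, pow_succ] at h1
    exact (eq_inv_of_mul_eq_one_left h1).symm

theorem f1 : ∀ x : Perm (Fin 5), Perm.sign x = 1 → x * x = 1 → x = 1 ∨ ∃ g, Perm.sign g = 1 ∧ x = g⁻¹ * a1.1 * g := by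
  decide +kernel

theorem f2 : ∀ x : Perm (Fin 5), Perm.sign x = 1 → a1.1 * x = x * a1.1 → x = 1 ∨ x = a1.1 ∨ x = a2.1 ∨ x = a1.1 * a2.1 := by
  decide +kernel

theorem f3 : a1 * a1 = 1 ∧ a2 * a2 = 1 ∧ a1 * a2 = a2 * a1 ∧ a1 ≠ 1 ∧ a2 ≠ 1 ∧ a1 ≠ a2 ∧ a1 * a2 ≠ 1 ∧ a1 * a2 ≠ a1 ∧
    a1 * a2 ≠ a2 ∧ a2 * a1⁻¹ * (a2 * a1⁻¹) = 1 ∧ a2 * a1⁻¹ ≠ 1 := by decide +kernel

theorem g1 (x : A5) (h : x * x = 1) : ∃ g e : A5, (e = 1 ∨ e = a1) ∧ x = g⁻¹ * e * g := by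
  rcases f1 x.1 (Perm.mem_alternatingGroup.1 x.2) (congrArg Subtype.val h) with r | ⟨g, r, s⟩
  · exact ⟨1, 1, .inl rfl, Subtype.ext (by simpa using r)⟩
  · exact ⟨⟨g, Perm.mem_alternatingGroup.2 r⟩, a1, .inr rfl, Subtype.ext s⟩

/-- the four-group -/
def V : Subgroup A5 := centralizer {a1}

theorem mem_V {x : A5} : x ∈ V ↔ x = 1 ∨ x = a1 ∨ x = a2 ∨ x = a1 * a2 := by
  rw [V, mem_centralizer_singleton_iff]
  refine ⟨fun h => ?_, ?_⟩
  · rcases f2 x.1 (Perm.mem_alternatingGroup.1 x.2) (congrArg Subtype.val h.symm) with r | r | r | r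
    exacts [.inl (Subtype.ext r), .inr (.inl (Subtype.ext r)), .inr (.inr (.inl (Subtype.ext r))),
      .inr (.inr (.inr (Subtype.ext r)))]
  · rintro (rfl | rfl | rfl | rfl)
    · simp
    · rfl
    · exact f3.2.2.1.symm
    · rw [mul_assoc, ← f3.2.2.1]

theorem card_V : Nat.card V = 4 := by
  have : (V : Set A5) = ({1, a1, a2, a1 * a2} : Finset A5) := by ext x; simp [mem_V]
  rw [← SetLike.coe_sort_coe, this, Finset.coe_sort_coe, Nat.card_eq_fintype_card, Fintype.card_coe]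
  decide +kernel

theorem V_comm {x y : A5} (hx : x ∈ V) (hy : y ∈ V) : x * y = y * x := by
  rcases mem_V.1 hx with rfl | rfl | rfl | rfl <;> rcases mem_V.1 hy with rfl | rfl | rfl | rfl <;> decide +kernel

variable {X : Type*} [Group X] {φ : A5 × A5 →* X}

theorem E_eq : E φ = (V.prod V).map φ := by
  have m1 : a1 ∈ V := mem_V.2 (by simp)
  have m2 : a2 ∈ V := mem_V.2 (by simp)
  apply le_antisymm
  · refine (closure_le _).2 ?_
    rintro _ (rfl | rfl | rfl | rfl)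
    exacts [mem_map_of_mem φ (mem_prod.2 ⟨m1, V.one_mem⟩ : (a1, 1) ∈ V.prod V),
      mem_map_of_mem φ (mem_prod.2 ⟨m2, V.one_mem⟩ : (a2, 1) ∈ V.prod V),
      mem_map_of_mem φ (mem_prod.2 ⟨V.one_mem, m1⟩ : (1, a1) ∈ V.prod V),
      mem_map_of_mem φ (mem_prod.2 ⟨V.one_mem, m2⟩ : (1, a2) ∈ V.prod V)]
  · rintro _ ⟨⟨x, y⟩, ⟨hx, hy⟩, rfl⟩
    have b1 : φ (a1, 1) ∈ E φ := subset_closure (by simp)
    have b2 : φ (a2, 1) ∈ E φ := subset_closure (by simp)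
    have b3 : φ (1, a1) ∈ E φ := subset_closure (by simp)
    have b4 : φ (1, a2) ∈ E φ := subset_closure (by simp)
    rw [show (x, y) = (x, 1) * (1, y) by simp, map_mul]
    refine mul_mem ?_ ?_
    · rcases mem_V.1 hx with rfl | rfl | rfl | rfl
      exacts [by rw [Prod.mk_one_one, map_one]; exact one_mem _, b1, b2, by simpa [← map_mul] using mul_mem b1 b2]
    · rcases mem_V.1 hy with rfl | rfl | rfl | rfl
      exacts [by rw [Prod.mk_one_one, map_one]; exact one_mem _, b3, b4, by simpa [← map_mul] using mul_mem b3 b4]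

theorem E_comm {x y : X} (hx : x ∈ E φ) (hy : y ∈ E φ) : x * y = y * x := by
  rw [E_eq] at hx hy
  obtain ⟨a, ha, rfl⟩ := hx
  obtain ⟨b, hb, rfl⟩ := hy
  rw [← map_mul, ← map_mul, show a * b = b * a from Prod.ext (V_comm ha.1 hb.1) (V_comm ha.2 hb.2)]

theorem fus [Finite X] (h : AB φ) (h1 : AB1 φ) {H : Subgroup X} (hH : E φ ≤ H) {x g : X} (hx : x ∈ E φ) (hg : g ∈ H)
    (hy : g⁻¹ * x * g ∈ E φ) : ∃ m, φ m ∈ H ∧ g⁻¹ * x * g = (φ m)⁻¹ * x * φ m := by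
  have c1 : Nat.card (E φ) = 16 := by
    rw [E_eq, card_map_of_injective h.inj, Nat.card_congr (V.prodEquiv V).toEquiv, Nat.card_prod, card_V]
  have c2 : Nat.card ((E φ).subgroupOf H) = 2 ^ 4 := by rw [Nat.card_congr (subgroupOfEquivOfLe hH).toEquiv, c1]; rfl
  have c3 : (Nat.card H).factorization 2 = 4 := by
    have a := card_subgroup_dvd_card ((E φ).subgroupOf H)
    rw [c2] at a
    have b : ¬ 2 ^ 5 ∣ Nat.card H := fun b => h.n32 (b.trans (card_subgroup_dvd_card H))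
    rw [Nat.prime_two.pow_dvd_iff_le_factorization Nat.card_pos.ne'] at a b
    omega
  let P : Sylow 2 H := Sylow.ofCard ((E φ).subgroupOf H) (by rw [c2, c3])
  have : IsMulCommutative P := ⟨⟨fun a b => Subtype.ext (Subtype.ext (E_comm (φ := φ) a.2 b.2))⟩⟩
  obtain ⟨n, hn, e⟩ := P.conj_eq_normalizer_conj_of_mem ⟨x, hH hx⟩ ⟨g, hg⟩ hx hy
  have : n.1 ∈ normalizer (E φ : Set X) := by
    have := (subgroupOf_normalizer_eq hH).ge hn
    exact this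
  obtain ⟨m, hm⟩ := h1 this
  exact ⟨m, hm ▸ n.2, by rw [hm]; exact congrArg Subtype.val e⟩

theorem cen_conj {e m : A5 × A5} (h : centralizer {φ e} ≤ φ.range) : centralizer {φ (m⁻¹ * e * m)} ≤ φ.range := fun g hg => by
  rw [mem_centralizer_singleton_iff, map_mul, map_mul, map_inv] at hg
  have : φ m * g * (φ m)⁻¹ ∈ φ.range := h (mem_centralizer_singleton_iff.2 (by
    calc _ = φ m * (g * ((φ m)⁻¹ * φ e * φ m)) * (φ m)⁻¹ := by group
      _ = _ := by rw [hg]; group))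
  simpa [mul_assoc] using mul_mem (mul_mem (inv_mem (⟨m, rfl⟩ : φ m ∈ φ.range)) this) (⟨m, rfl⟩ : φ m ∈ φ.range)

theorem cenA (h2 : AB2 φ) {x : A5} (hx : x * x = 1) (x1 : x ≠ 1) : centralizer {φ (x, 1)} ≤ φ.range := by
  obtain ⟨g, e, rfl | rfl, s⟩ := g1 x hx
  · exact (x1 (by simpa using s)).elim
  · simpa [s] using cen_conj (m := (g, 1)) h2.1

theorem cenC [Finite X] (h : AB φ) (h1 : AB1 φ) (h2 : AB2 φ) : centralizer {φ (a1, a1)} ≤ φ.range := fun g hg => by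
  set C := centralizer {φ (a1, a1)} with hC
  have m1 : a1 ∈ V := mem_V.2 (by simp)
  have m2 : a2 ∈ V := mem_V.2 (by simp)
  have mE : ∀ {x y}, x ∈ V → y ∈ V → φ (x, y) ∈ E φ := fun a b => by
    rw [E_eq]; exact mem_map_of_mem φ (mem_prod.2 ⟨a, b⟩)
  have EC : E φ ≤ C := fun x hx => mem_centralizer_singleton_iff.2 (E_comm hx (mE m1 m1))
  have CE : ∀ x ∈ C, x ∈ φ.range → x ∈ E φ := by
    rintro _ hx ⟨m, rfl⟩
    rw [mem_centralizer_singleton_iff, ← map_mul, ← map_mul] at hx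
    have := h.inj hx
    exact mE (mem_centralizer_singleton_iff.2 (congrArg Prod.fst this)) (mem_centralizer_singleton_iff.2 (congrArg Prod.snd this))
  have nf : ∀ x ∈ E φ, ∀ k ∈ C, k⁻¹ * x * k ∈ E φ → k⁻¹ * x * k = x := fun x hx k hk hy => by
    obtain ⟨m, a, b⟩ := fus h h1 EC hx hk hy
    rw [b, mul_assoc, E_comm hx (CE _ a ⟨m, rfl⟩), inv_mul_cancel_left]
  have xE := mE m1 V.one_mem
  have yE := mE m2 V.one_mem
  have x2 : φ (a1, 1) * φ (a1, 1) = 1 := by simp [← map_mul, f3.1, Prod.mk_one_one]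
  have y2 : φ (a2, 1) * φ (a2, 1) = 1 := by simp [← map_mul, f3.2.1, Prod.mk_one_one]
  have yC : g⁻¹ * φ (a2, 1) * g ∈ C := mul_mem (mul_mem (inv_mem hg) (EC yE)) hg
  have rC := mul_mem (EC xE) yC
  obtain ⟨k, s⟩ | ⟨n, z1, z2, z3, z4, k, s⟩ := dih x2 (y := g⁻¹ * φ (a2, 1) * g) (by
    calc _ = g⁻¹ * (φ (a2, 1) * φ (a2, 1)) * g := by group
      _ = 1 := by rw [y2]; group)
  · have kC := pow_mem rC k
    generalize (φ (a1, 1) * (g⁻¹ * φ (a2, 1) * g)) ^ k = r at *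
    have e : (g * r)⁻¹ * φ (a2, 1) * (g * r) = φ (a1, 1) := by
      calc _ = r⁻¹ * (g⁻¹ * φ (a2, 1) * g) * r := by group
        _ = _ := by rw [s]; group
    have := nf _ yE _ (mul_mem hg kC) (e ▸ xE)
    rw [e] at this
    exact (f3.2.2.2.2.2.1 (congrArg Prod.fst (h.inj this))).elim
  have kC := pow_mem rC k
  have zC := pow_mem rC n
  generalize (φ (a1, 1) * (g⁻¹ * φ (a2, 1) * g)) ^ k = r at *
  generalize (φ (a1, 1) * (g⁻¹ * φ (a2, 1) * g)) ^ n = z at *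
  have zE := mul_mem (CE z zC (h2.1 (mem_centralizer_singleton_iff.2 z3))) xE
  obtain s | s := s
  · have := nf _ xE r⁻¹ (inv_mem kC) (by rwa [inv_inv, ← s])
    rw [inv_inv, ← s] at this
    exact (z1 (by simpa using this)).elim
  have e : (g * r⁻¹)⁻¹ * φ (a2, 1) * (g * r⁻¹) = z * φ (a1, 1) := by rw [s]; group
  have := nf _ yE _ (mul_mem hg (inv_mem kC)) (e ▸ zE)
  rw [e, ← eq_mul_inv_iff_mul_eq, ← map_inv, ← map_mul, Prod.inv_mk, Prod.mk_mul_mk, inv_one, mul_one] at this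
  have yR := cenA h2 f3.2.2.2.2.2.2.2.2.2.1 f3.2.2.2.2.2.2.2.2.2.2 (mem_centralizer_singleton_iff.2 (this ▸ z4.symm))
  have := nf _ yE g hg (CE _ yC yR)
  exact cenA h2 f3.2.1 f3.2.2.2.2.1 (mem_centralizer_singleton_iff.2 (by
    calc g * φ (a2, 1) = g * (g⁻¹ * φ (a2, 1) * g) := by rw [this]
      _ = _ := by group))

theorem ab3 [Finite X] (h : AB φ) (h1 : AB1 φ) (h2 : AB2 φ) : φ.range = ⊤ := by
  have m1 : a1 ∈ V := mem_V.2 (by simp)
  have mE : ∀ {x y}, x ∈ V → y ∈ V → φ (x, y) ∈ E φ := fun a b => by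
    rw [E_eq]; exact mem_map_of_mem φ (mem_prod.2 ⟨a, b⟩)
  have rp : ∀ m : A5 × A5, m * m = 1 → ∃ (n : A5 × A5) (d e : A5), (d = 1 ∨ d = a1) ∧ (e = 1 ∨ e = a1) ∧ m = n⁻¹ * (d, e) * n :=
    fun m hm => by
      obtain ⟨g, d, a, b⟩ := g1 m.1 (congrArg Prod.fst hm)
      obtain ⟨k, e, a', b'⟩ := g1 m.2 (congrArg Prod.snd hm)
      exact ⟨(g, k), d, e, a, a', Prod.ext b b'⟩
  have nf : ∀ {d e} (k : X), d ∈ V → e ∈ V → k⁻¹ * φ (1, a1) * k = φ (d, e) → d = 1 ∧ e ≠ 1 := fun {d e} k hd he s => by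
    obtain ⟨m, -, b⟩ := fus h h1 le_top (mE V.one_mem m1) (mem_top k) (s ▸ mE hd he)
    rw [s, ← map_inv, ← map_mul, ← map_mul] at b
    have := h.inj b
    refine ⟨by simpa using congrArg Prod.fst this, fun r => f3.2.2.2.1 ?_⟩
    have := congrArg Prod.snd this
    simp only [r, Prod.snd_mul, Prod.snd_inv] at this
    calc a1 = m.2 * (m.2⁻¹ * a1 * m.2) * m.2⁻¹ := by group
      _ = 1 := by rw [← this]; group
  have hV : ∀ {d}, d = 1 ∨ d = a1 → d ∈ V := by rintro _ (rfl | rfl); exacts [one_mem _, m1]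
  have x2 : φ (a1, 1) * φ (a1, 1) = 1 := by simp [← map_mul, f3.1, Prod.mk_one_one]
  have y2 : φ (1, a1) * φ (1, a1) = 1 := by simp [← map_mul, f3.1, Prod.mk_one_one]
  refine eq_top_iff.2 fun g _ => ?_
  have y2' : g⁻¹ * φ (1, a1) * g * (g⁻¹ * φ (1, a1) * g) = 1 := by
    calc _ = g⁻¹ * (φ (1, a1) * φ (1, a1)) * g := by group
      _ = 1 := by rw [y2]; group
  obtain ⟨k, s⟩ | ⟨n, z1, z2, z3, z4, -⟩ := dih x2 y2'
  · generalize (φ (a1, 1) * (g⁻¹ * φ (1, a1) * g)) ^ k = r at *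
    refine (f3.2.2.2.1 (nf (g * r) m1 V.one_mem ?_).1).elim
    calc _ = r⁻¹ * (g⁻¹ * φ (1, a1) * g) * r := by group
      _ = _ := by rw [s]; group
  generalize (φ (a1, 1) * (g⁻¹ * φ (1, a1) * g)) ^ n = z at *
  obtain ⟨m, rfl⟩ := h2.1 (mem_centralizer_singleton_iff.2 z3)
  obtain ⟨n, d, e, hd, he, rfl⟩ := rp m (h.inj (by rw [map_mul, z2, map_one]))
  have yR : g⁻¹ * φ (1, a1) * g ∈ φ.range := by
    refine cen_conj (e := (d, e)) (m := n) ?_ (mem_centralizer_singleton_iff.2 z4.symm)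
    rcases hd with rfl | rfl <;> rcases he with rfl | rfl
    exacts [(z1 (by simp [Prod.mk_one_one])).elim, h2.2, h2.1, cenC h h1 h2]
  obtain ⟨m', hm'⟩ := yR
  obtain ⟨n', d', e', hd', he', rfl⟩ := rp m' (h.inj (by rw [map_mul, hm', y2', map_one]))
  have s : (g * (φ n')⁻¹)⁻¹ * φ (1, a1) * (g * (φ n')⁻¹) = φ (d', e') := by
    calc _ = φ n' * (g⁻¹ * φ (1, a1) * g) * (φ n')⁻¹ := by group
      _ = _ := by rw [← hm', map_mul, map_mul, map_inv]; group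
  obtain ⟨rfl, r⟩ := nf _ (hV hd') (hV he') s
  rw [he'.resolve_left r] at s
  have : g * (φ n')⁻¹ ∈ φ.range := h2.2 (mem_centralizer_singleton_iff.2 (by
    calc g * (φ n')⁻¹ * φ (1, a1) = g * (φ n')⁻¹ * ((g * (φ n')⁻¹)⁻¹ * φ (1, a1) * (g * (φ n')⁻¹)) := by rw [s]
      _ = _ := by group))
  simpa using mul_mem this (⟨n', rfl⟩ : φ n' ∈ φ.range)

end H05.Dm
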