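import Mathlib
import Cfsg.Agent.H05.Brauer
import Cfsg.Agent.H05.AutC
import Cfsg.Agent.H05.Orth
import Cfsg.Prelude.Def_LieExceptional

/-!
Groups with self-centralizing TI Sylow subgroups (namespace `H05.Fc`): `no_ps` (no element of order `p s` from
character degrees), `CC` (centralizer condition), `CC.zass` (Zassenhaus action on the Sylow subgroups).
-/

set_option autoImplicit false
set_option linter.unusedSectionVars false

open H05 Cfsg MulAction

namespace H05.Fc

variable {G : Type*} [Group G] [Finite G]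

theorem not_vanish {x : G} (hx : x ≠ 1) {m : ℕ} (hm : 1 < m)
    (h : ∀ χ : IrrCharacter G, (χ : G → ℂ) ≠ 1 → (χ : G → ℂ) x = 0 ∨ m ∣ charDegree (χ : G → ℂ)) : False := by
  classical
  have h0 := sum_degree_mul_apply_of_ne (G := G) hx
  let o : IrrCharacter G := ⟨1, isIrrCharacter_one⟩
  rw [← Finset.add_sum_erase _ _ (Finset.mem_univ o)] at h0
  have hm0 : (m : ℂ) ≠ 0 := by exact_mod_cast (by omega : m ≠ 0)
  have hi : IsIntegral ℤ ((∑ χ ∈ Finset.univ.erase o, (χ : G → ℂ) 1 * (χ : G → ℂ) x) / m) := by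
    rw [Finset.sum_div]
    refine IsIntegral.sum _ fun χ hχ => ?_
    have hne : (χ : G → ℂ) ≠ 1 := fun e => (Finset.mem_erase.1 hχ).1 (Subtype.ext e)
    rcases h χ hne with e | ⟨k, hk⟩
    · rw [e, mul_zero, zero_div]; exact isIntegral_zero
    · rw [← χ.2.charDegree_eq, hk]
      have : ((m * k : ℕ) : ℂ) * (χ : G → ℂ) x / m = k * (χ : G → ℂ) x := by push_cast; field_simp
      rw [this]
      exact (isIntegral_natCast k).mul (χ.2.isIntegral x)
  have e : (∑ χ ∈ Finset.univ.erase o, (χ : G → ℂ) 1 * (χ : G → ℂ) x) / m = -(((1 : ℕ) : ℂ) / m) := by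
    have : (o : G → ℂ) 1 * (o : G → ℂ) x = 1 := by simp [o]
    rw [this] at h0
    rw [← neg_div]; congr 1; push_cast; linear_combination h0
  rw [e] at hi
  have := nat_dvd_of_isIntegral_div (a := 1) (by omega : m ≠ 0) (by simpa using hi.neg)
  have := Nat.le_of_dvd one_pos this
  omega

theorem no_ps_aux {p q a b s : ℕ} (hp : p.Prime) (hs : s.Prime) (hG : Nat.card G = q * a * b)
    (hpa : ¬ p ∣ a * b) (hsq : ¬ s ∣ q * b) (hb : 1 < b)
    (hd : ∀ χ : IrrCharacter G, (χ : G → ℂ) ≠ 1 → charDegree (χ : G → ℂ) = q ∨ a ∣ charDegree (χ : G → ℂ) ∨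
      b ∣ charDegree (χ : G → ℂ)) (g : G) : orderOf g ≠ p * s := by
  intro hg
  have hpos : 0 < q * a * b := hG ▸ Nat.card_pos
  have hq : 0 < q := Nat.pos_of_mul_pos_right (Nat.pos_of_mul_pos_right hpos)
  have ha : 0 < a := Nat.pos_of_mul_pos_left (Nat.pos_of_mul_pos_right hpos)
  have h1 : g ≠ 1 := by
    rintro rfl
    rw [orderOf_one] at hg
    exact hp.one_lt.ne' (Nat.eq_one_of_mul_eq_one_right hg.symm)
  refine not_vanish h1 hb fun χ hχ => ?_
  rcases hd χ hχ with e | e | e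
  · refine Or.inl (χ.2.apply_eq_zero_of_defect_zero hp ?_ (hg ▸ dvd_mul_right _ _))
    rwa [e, hG, mul_assoc, Nat.mul_div_cancel_left _ hq]
  · refine Or.inl (χ.2.apply_eq_zero_of_defect_zero hs (fun h => hsq ?_) (hg ▸ dvd_mul_left _ _))
    have := Nat.div_dvd_div_left χ.2.charDegree_dvd_card e
    rw [hG, show q * a * b = a * (q * b) by ring, Nat.mul_div_cancel_left _ ha] at this
    rw [hG, show q * a * b = a * (q * b) by ring] at h
    exact h.trans this
  · exact Or.inr e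

theorem no_ps {p k a b : ℕ} (hp : p.Prime) (hG : Nat.card G = p ^ k * a * b)
    (hpa : ¬ p ∣ a * b) (hab : a.Coprime b) (ha : 1 < a) (hb : 1 < b)
    (hd : ∀ χ : IrrCharacter G, (χ : G → ℂ) ≠ 1 → charDegree (χ : G → ℂ) = p ^ k ∨ a ∣ charDegree (χ : G → ℂ) ∨
      b ∣ charDegree (χ : G → ℂ)) {s : ℕ} (hs : s.Prime) (hsp : s ≠ p) (g : G) : orderOf g ≠ p * s := by
  intro hg
  have h1 : s ∣ p ^ k * a * b := hG ▸ (dvd_mul_left _ _).trans (hg ▸ orderOf_dvd_natCard g)
  have h2 : ¬ s ∣ p ^ k := fun h => hsp ((Nat.prime_dvd_prime_iff_eq hs hp).1 (hs.dvd_of_dvd_pow h))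
  rw [mul_assoc] at h1
  rcases (Nat.Prime.dvd_mul hs).1 (((Nat.Prime.dvd_mul hs).1 h1).resolve_left h2) with h | h
  · refine no_ps_aux hp hs hG hpa (fun h' => ?_) hb hd g hg
    have := Nat.dvd_gcd h (((Nat.Prime.dvd_mul hs).1 h').resolve_left h2)
    rw [hab] at this
    exact hs.one_lt.ne' (Nat.dvd_one.1 this)
  · refine no_ps_aux (a := b) (b := a) (q := p ^ k) hp hs (by rw [hG]; ring) (by rwa [mul_comm]) (fun h' => ?_) ha
      (fun χ hχ => (hd χ hχ).imp_right Or.symm) g hg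
    have := Nat.dvd_gcd (((Nat.Prime.dvd_mul hs).1 h').resolve_left h2) h
    rw [hab] at this
    exact hs.one_lt.ne' (Nat.dvd_one.1 this)

/-- every nontrivial element of a Sylow `p`-subgroup `P` has centralizer `P` -/
def CC (p : ℕ) (G : Type*) [Group G] : Prop :=
  ∀ P : Sylow p G, ∀ x ∈ P, x ≠ 1 → ∀ y, Commute x y ↔ y ∈ P

variable {p : ℕ} [hp : Fact p.Prime]

theorem cc_of (hab : ∀ P : Sylow p G, IsMulCommutative P)
    (hno : ∀ s : ℕ, s.Prime → s ≠ p → ∀ g : G, orderOf g ≠ p * s) : CC p G := by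
  intro P x hx h1
  have hle : (P : Subgroup G) ≤ Subgroup.centralizer ({x} : Set G) := fun y hy => by
    rw [Subgroup.mem_centralizer_singleton_iff]
    exact congrArg Subtype.val ((hab P).is_comm.comm (⟨y, hy⟩ : P) ⟨x, hx⟩)
  have hpg : IsPGroup p (Subgroup.centralizer ({x} : Set G)) := by
    rw [IsPGroup.iff_card]
    refine ⟨_, Nat.eq_prime_pow_of_unique_prime_dvd Nat.card_pos.ne' fun {s} hs hd => ?_⟩
    by_contra hsp
    have : Fact s.Prime := ⟨hs⟩
    obtain ⟨y, hy⟩ := exists_prime_orderOf_dvd_card' s hd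
    obtain ⟨k, hk⟩ := (IsPGroup.iff_orderOf.1 P.isPGroup') ⟨x, hx⟩
    rw [Subgroup.orderOf_mk] at hk
    have hpd : p ∣ orderOf x := by
      rw [hk]; refine dvd_pow_self _ ?_
      rintro rfl
      exact h1 (orderOf_eq_one_iff.1 (by simpa using hk))
    have ho : orderOf (x ^ (orderOf x / p)) = p := orderOf_pow_orderOf_div (orderOf_pos x).ne' hpd
    have hc : Commute (x ^ (orderOf x / p)) (y : G) :=
      (show Commute x (y : G) from (Subgroup.mem_centralizer_singleton_iff.1 y.2).symm).pow_left _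
    have hy' : orderOf (y : G) = s := by rw [Subgroup.orderOf_coe, hy]
    refine hno s hs hsp (x ^ (orderOf x / p) * y) ?_
    rw [hc.orderOf_mul_eq_mul_orderOf_of_coprime (by
      rw [ho, hy']; exact (Nat.coprime_primes hp.out hs).2 (Ne.symm hsp)), ho, hy']
  have e := P.3 hpg hle
  intro y
  rw [show y ∈ P ↔ y ∈ (P : Subgroup G) from Iff.rfl, ← e, Subgroup.mem_centralizer_singleton_iff]
  exact ⟨fun h => h.symm, fun h => h.symm⟩

namespace CC

variable (h : CC p G)
include h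

theorem eq_of_smul {P Q : Sylow p G} {u : G} (hu : u ∈ P) (h1 : u ≠ 1) (hQ : u • Q = Q) : Q = P := by
  have h2 : u ∈ (P : Subgroup G) ⊓ Subgroup.normalizer (Q : Set G) := ⟨hu, Sylow.smul_eq_iff_mem_normalizer.1 hQ⟩
  rw [P.isPGroup'.inf_normalizer_sylow Q] at h2
  ext y
  exact ((h Q u h2.2 h1 y).symm.trans (h P u hu h1 y))

omit h in
theorem smul_self {P : Sylow p G} {u : G} (hu : u ∈ P) : u • P = P :=
  Sylow.smul_eq_iff_mem_normalizer.2 (Subgroup.le_normalizer hu)

omit h in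
theorem conj_mem {P : Sylow p G} {g u : G} (hg : g • P = P) (hu : u ∈ P) : g * u * g⁻¹ ∈ P :=
  (Subgroup.mem_set_normalizer_iff.1 (Sylow.smul_eq_iff_mem_normalizer.1 hg) u).1 hu

theorem smul_inj {P Q : Sylow p G} (hQ : Q ≠ P) {u v : G} (hu : u ∈ P) (hv : v ∈ P) (e : u • Q = v • Q) : u = v := by
  by_contra hne
  refine hQ (h.eq_of_smul (u := v⁻¹ * u) (mul_mem (inv_mem hv) hu) (fun e' => hne ?_) ?_)
  · exact (inv_mul_eq_one.1 e').symm
  · rw [mul_smul, e, inv_smul_smul]

omit h in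
theorem smul_ne {P Q : Sylow p G} (hQ : Q ≠ P) {u : G} (hu : u • P = P) : u • Q ≠ P := fun e =>
  hQ (smul_left_cancel u (e.trans hu.symm))

theorem card_dvd (P : Sylow p G) : Nat.card P ∣ Nat.card (Sylow p G) - 1 := by
  classical
  let S : SubMulAction (P : Subgroup G) (Sylow p G) :=
    ⟨{Q | Q ≠ P}, fun u _ hQ => smul_ne hQ (smul_self u.2)⟩
  have hfree : ∀ b : S, stabilizer (P : Subgroup G) b = ⊥ := fun b => by
    rw [eq_bot_iff]
    intro u hu
    by_contra h1
    exact b.2 (h.eq_of_smul u.2 (fun e => h1 (Subtype.ext e)) (congrArg Subtype.val hu))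
  have e1 := Nat.card_congr (selfEquivOrbitsQuotientProd hfree)
  rw [Nat.card_prod] at e1
  have e2 : Nat.card S = Nat.card (Sylow p G) - 1 := by
    have := Fintype.ofFinite (Sylow p G)
    rw [show Nat.card S = Nat.card {Q : Sylow p G // Q ≠ P} from rfl, Nat.card_eq_fintype_card,
      Nat.card_eq_fintype_card, Fintype.card_subtype_compl, Fintype.card_subtype_eq]
  rw [← e2, e1]
  exact dvd_mul_left _ _

theorem card_stab_le (P : Sylow p G) {x : G} (hx : x ∈ P) (h1 : x ≠ 1) :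
    Nat.card (stabilizer G P) ≤ (Nat.card P - 1) * Nat.card P := by
  classical
  let f : stabilizer G P → {y : (P : Subgroup G) // y ≠ 1} := fun g => ⟨⟨g * x * (g : G)⁻¹, conj_mem g.2 hx⟩, fun e => h1 (by
    simpa using congrArg Subtype.val e)⟩
  have := Fintype.ofFinite (stabilizer G P)
  have := Fintype.ofFinite P
  have e : Fintype.card {y : (P : Subgroup G) // y ≠ 1} = Nat.card P - 1 := by
    rw [Fintype.card_subtype_compl, Fintype.card_subtype_eq, Nat.card_eq_fintype_card]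
  rw [← e, Nat.card_eq_fintype_card, mul_comm]
  refine (Finset.card_le_mul_card_image_of_maps_to (s := Finset.univ) (t := Finset.univ) (f := f)
    (fun _ _ => Finset.mem_univ _) (Nat.card P) fun b _ => ?_)
  rcases (Finset.univ.filter fun a => f a = b).eq_empty_or_nonempty with e0 | ⟨g, hg⟩
  · rw [e0]; simp
  · rw [Nat.card_eq_fintype_card, ← Finset.card_univ]
    have key : ∀ a ∈ Finset.univ.filter fun a => f a = b, (g : G)⁻¹ * a ∈ P := fun a ha => by
      refine (h P x hx h1 _).1 ?_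
      have e1 := (Finset.mem_filter.1 ha).2.trans (Finset.mem_filter.1 hg).2.symm
      have e2 : (a : G) * x * (a : G)⁻¹ = g * x * (g : G)⁻¹ := congrArg (fun z => (z.1 : G)) e1
      have : x * ((g : G)⁻¹ * a) = (g : G)⁻¹ * ((g * x * (g : G)⁻¹) * a) := by group
      rw [Commute, SemiconjBy, this, ← e2]; group
    refine Finset.card_le_card_of_injOn (fun a => if ha : (g : G)⁻¹ * a ∈ P then ⟨_, ha⟩ else 1)
      (fun _ _ => by simp) fun a ha c hc e => ?_
    simp only [dif_pos (key a ha), dif_pos (key c hc), Subtype.mk.injEq, mul_right_inj] at e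
    exact Subtype.ext e

theorem faithful {P Q : Sylow p G} (hQ : Q ≠ P) {x : G} (hx : x ∈ P) (h1 : x ≠ 1) :
    FaithfulSMul G (Sylow p G) := by
  have key : ∀ g : G, (∀ R : Sylow p G, g • R = R) → g = 1 := fun g hg => by
    have e : g * x * g⁻¹ = x := h.smul_inj hQ (conj_mem (hg P) hx) hx (by
      rw [mul_smul, mul_smul, hg, ← hg Q, inv_smul_smul, hg Q])
    have hgP : g ∈ P := (h P x hx h1 g).1 (mul_inv_eq_iff_eq_mul.1 e).symm
    by_contra h2
    exact hQ (h.eq_of_smul hgP h2 (hg Q))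
  refine ⟨fun {a b} hab => ?_⟩
  have := key (b⁻¹ * a) fun R => by rw [mul_smul, hab, inv_smul_smul]
  exact (inv_mul_eq_one.1 this).symm

theorem trans {P Q R : Sylow p G} (hc : Nat.card (Sylow p G) = Nat.card P + 1) (hQ : Q ≠ P) (hR : R ≠ P) :
    ∃ u ∈ P, u • Q = R := by
  classical
  let f : P → {Q : Sylow p G // Q ≠ P} := fun u => ⟨(u : G) • Q, smul_ne hQ (smul_self u.2)⟩
  have hf : Function.Injective f := fun u v e => Subtype.ext (h.smul_inj hQ u.2 v.2 (congrArg Subtype.val e))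
  have e2 : Nat.card {Q : Sylow p G // Q ≠ P} = Nat.card P := by
    have := Fintype.ofFinite (Sylow p G)
    rw [Nat.card_eq_fintype_card, Fintype.card_subtype_compl, Fintype.card_subtype_eq, ← Nat.card_eq_fintype_card, hc]
    rfl
  obtain ⟨u, hu⟩ := (hf.bijective_of_nat_card_le e2.le).2 ⟨R, hR⟩
  exact ⟨u, u.2, congrArg Subtype.val hu⟩

omit h in
theorem card_syl (P Q : Sylow p G) : Nat.card Q = Nat.card P := by
  have := P.card_eq_multiplicity
  have := Q.card_eq_multiplicity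
  omega

theorem two_trans (P : Sylow p G) (hc : Nat.card (Sylow p G) = Nat.card P + 1) :
    IsMultiplyPretransitive G (Sylow p G) 2 := by
  rw [is_two_pretransitive_iff]
  intro a b c d hab hcd
  obtain ⟨g, hg⟩ := exists_smul_eq G a c
  obtain ⟨u, hu, e⟩ := h.trans (P := c) (Q := g • b) (R := d) (by rw [hc, card_syl P c])
    (fun e => hab (smul_left_cancel g (hg.trans e.symm))) hcd.symm
  exact ⟨u * g, by rw [mul_smul, hg, smul_self hu], by rw [mul_smul, e]⟩

theorem three (P : Sylow p G) (hc : Nat.card (Sylow p G) = Nat.card P + 1) (g : G) (a b c : Sylow p G)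
    (hab : a ≠ b) (hbc : b ≠ c) (hac : a ≠ c) (ha : g • a = a) (hb : g • b = b) (hc' : g • c = c) : g = 1 := by
  obtain ⟨u, hu, e⟩ := h.trans (P := a) (Q := b) (R := c) (by rw [hc, card_syl P a]) hab.symm hac.symm
  have h1 : u ≠ 1 := by rintro rfl; exact hbc (by simpa using e)
  have e2 : g * u * g⁻¹ = u := h.smul_inj hab.symm (conj_mem ha hu) hu (by
    rw [mul_smul, mul_smul, e, ← hb, inv_smul_smul, e, hc'])
  have hg : g ∈ a := (h a u hu h1 g).1 (mul_inv_eq_iff_eq_mul.1 e2).symm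
  by_contra h2
  exact hab (h.eq_of_smul hg h2 hb).symm

theorem noreg (P : Sylow p G) (hc : Nat.card (Sylow p G) = Nat.card P + 1) {r s : ℕ} (hr : r.Prime) (hs : s.Prime)
    (hrs : r ≠ s) (h1 : r ∣ Nat.card P + 1) (h2 : s ∣ Nat.card P + 1) (N : Subgroup G) (hN : N.Normal)
    (ht : IsPretransitive N (Sylow p G)) : ∃ a : Sylow p G, stabilizer N a ≠ ⊥ := by
  by_contra hcon
  push Not at hcon
  have key : ∀ n ∈ N, n • P = P → n = 1 := fun n hn e => by
    have : (⟨n, hn⟩ : N) ∈ stabilizer N P := e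
    rw [hcon] at this
    exact congrArg Subtype.val (Subgroup.mem_bot.1 this)
  have hcard : Nat.card N = Nat.card P + 1 := by
    rw [← hc, ← (stabilizer N P).index_mul_card, hcon, Subgroup.card_bot, mul_one, ← hcon P,
      index_stabilizer_of_transitive]
  have : Fact r.Prime := ⟨hr⟩
  have : Fact s.Prime := ⟨hs⟩
  obtain ⟨x, hx⟩ := exists_prime_orderOf_dvd_card' (G := N) r (hcard ▸ h1)
  obtain ⟨y, hy⟩ := exists_prime_orderOf_dvd_card' (G := N) s (hcard ▸ h2)
  rw [← Subgroup.orderOf_coe] at hx hy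
  have hx1 : (x : G) • P ≠ P := fun e => by
    rw [key x x.2 e, orderOf_one] at hx; exact hr.one_lt.ne hx
  have hy1 : (y : G) • P ≠ P := fun e => by
    rw [key y y.2 e, orderOf_one] at hy; exact hs.one_lt.ne hy
  obtain ⟨u, hu, e⟩ := h.trans hc hx1 hy1
  have := key ((y : G)⁻¹ * (u * x * u⁻¹)) (mul_mem (inv_mem y.2) (hN.conj_mem _ x.2 u)) (by
    rw [mul_smul, mul_smul, mul_smul, smul_self (inv_mem hu), e, inv_smul_smul])
  rw [inv_mul_eq_one] at this
  rw [this] at hy
  have e3 : orderOf (u * x * u⁻¹) = orderOf (x : G) := by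
    simpa using MulEquiv.orderOf_eq (MulAut.conj u) (x : G)
  exact hrs (hx.symm.trans (e3.symm.trans hy))

theorem exists_ne_one (P : Sylow p G) (hP : 1 < Nat.card P) : ∃ x ∈ P, x ≠ 1 := by
  have := Finite.one_lt_card_iff_nontrivial.1 hP
  obtain ⟨x, hx⟩ := exists_ne (1 : (P : Subgroup G))
  exact ⟨x, x.2, fun e => hx (Subtype.ext e)⟩

/-- the numerical data: `|G| = n e q` with `q ∣ n - 1`, `e ≤ q - 1` -/
theorem num (P : Sylow p G) (hP : 1 < Nat.card P) : ∃ e k, e ≤ Nat.card P - 1 ∧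
    Nat.card (Sylow p G) = 1 + Nat.card P * k ∧ Nat.card G = (1 + Nat.card P * k) * e * Nat.card P := by
  obtain ⟨x, hx, h1⟩ := h.exists_ne_one P hP
  obtain ⟨k, hk⟩ := h.card_dvd P
  obtain ⟨e, he⟩ : Nat.card P ∣ Nat.card (stabilizer G P) :=
    Subgroup.card_dvd_of_le fun u hu => smul_self hu
  have h2 := h.card_stab_le P hx h1
  have h3 : 0 < Nat.card (Sylow p G) := Nat.card_pos
  have h4 := (stabilizer G P).index_mul_card
  rw [index_stabilizer_of_transitive] at h4
  refine ⟨e, k, ?_, by omega, ?_⟩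
  · rw [he, mul_comm] at h2
    exact Nat.le_of_mul_le_mul_right h2 (by omega)
  · rw [← h4, he, show 1 + Nat.card P * k = Nat.card (Sylow p G) by omega]; ring

theorem zass (P : Sylow p G) (hc : Nat.card (Sylow p G) = Nat.card P + 1) {r s : ℕ} (hr : r.Prime) (hs : s.Prime)
    (hrs : r ≠ s) (h1 : r ∣ Nat.card P + 1) (h2 : s ∣ Nat.card P + 1) (hP : 1 < Nat.card P)
    (hG : (Nat.card P + 1) * Nat.card P < Nat.card G) : IsZassenhausGroup G (Sylow p G) := by
  obtain ⟨x, hx, hx1⟩ := h.exists_ne_one P hP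
  have : Nontrivial (Sylow p G) := Finite.one_lt_card_iff_nontrivial.1 (by omega)
  obtain ⟨Q, hQ⟩ := exists_ne P
  refine ⟨h.faithful hQ hx hx1, h.two_trans P hc, h.three P hc, ?_, h.noreg P hc hr hs hrs h1 h2⟩
  have h4 := (stabilizer G P).index_mul_card
  rw [index_stabilizer_of_transitive, hc] at h4
  have h5 : ¬ stabilizer G P ≤ (P : Subgroup G) := fun hle => by
    have := Subgroup.card_le_of_le hle
    rw [← h4] at hG
    exact absurd (Nat.mul_le_mul_left _ this) hG.not_ge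
  obtain ⟨g, hg, hgP⟩ := SetLike.not_le_iff_exists.1 h5
  obtain ⟨u, hu, e⟩ := h.trans hc (smul_ne hQ hg) hQ
  refine ⟨u * g, fun e' => hgP ?_, P, Q, hQ.symm, by rw [mul_smul, hg, smul_self hu], by rw [mul_smul, e]⟩
  rw [eq_inv_of_mul_eq_one_right e']
  exact inv_mem hu

end CC

end H05.Fc
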