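import Mathlib
import Cfsg.Agent.S0495
import Cfsg.Agent.H14.Loop

/-! A table model `H05.G168.M` of the simple group of order 168 and the facts read off from it;
`exists_equiv` identifies every simple group of order 168 with it. -/

set_option autoImplicit false

namespace H05.G168

def tT : ℕ := 0x735b432b0000008b00573f000f0000876f0000230b0000836b00001f0700007f004f370003000000634b331b000000000000000000000000775f472f00000000000000000000a300005600270e009f006e003b000a009b000053001e060097006700360002000000624a321a00000000000000000000008f005e46001700a700005a002a130000000000000000009e8600003a2200009a000052001d0500007e004e35000100937b0000311900000000000000000000008e7600002e1600a600720042001200a28a00003e260000000000000000000000826a00001c04009600660034000000927a0000301800000000000000000000008d7500002d1500a500005900291100a100005500250d0000856d00002109000000000000000000957d654d0000000091796149000000000000000000000000008c005d45001400a400710041001000008900543d000c009d006c003900080099816951000000000000000000000000907860480000000000000000000000000000745c442c00000000705840280000a08800003c2400009c840000382000009880685000000000947c644c000000000000000000000000000000000000000000000000000000000000000000000000000000000000000000000000000000000000000000000000000000000000000000000000000000000000000000000000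
def tPT : ℕ := 0x8d53b8a9c3b85633b872a3b88ce578c5c5783a3578731578a8e738c557383aa73857173854e8f83958f8c6a8f8ab18f870eab839cab8c63ab88f1ab8715c7855cc78aa3c788eac7889d3f0ad43f052b3f07623f088f770e547703e2770539770acf530e5d5303eb53077953050faf03d4af0e62af08b9af074f8b03dd8b0e6b8b0af98b051de70754e708abe70ae2e7085e5e8ccc5e83335e87a15e88577a8e8c7a833a7a85e17a8cd7328e9e3285f33287ba328317ce85ccce887ace8ea1ce831eea878cea8873ea8ce1ea87978685de868eb3868cfa868a567e0c8d7e03727e05a97e0a5f5a0ecd5a037b5a07e95a0c9f360ed63605bb3607f2360356ee058dee0a72ee0ca9ee035fca07cdca0a7bca0ee9ca059fa607d6a60cbba60ef2a6046e9d82b59d8d4a9d8b919d8467b982bcb98f0ab989d1b982a7d5847cd589cad58f11d582aef18475f18b8af18d51f18d67298f2e2989f5298bbc298ba74589ee458f35458d7c458666bd02f4bd0d0bbd0999bd066f9902fd990f4b990bd99902e6f50674f5098bf50d19f502efd1067dd10bcbd10f59d10d2f2d0f662d09bd2d0bf42d09af650be6650d3d650f746506a5dc84ecdc8b13dc895adc84e5f886acf88953f88b1af886b79484fe948f93948dda9484f7b086beb08dd3b08f9ab08b374c897e4c8fa54c8dec4c8977688b3e688de5688fac688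
def tIV : ℕ := 0x3f42463b6b829a5371899d5d75a1855967967e4f272e2a23433e473a738a9e5f6981995177a2865b65957d4d2f262b22836a9b528b729f5e3d414539a376875a97667f4e252d292188709c5c80689850403c4438a074845894647c4c2c2428208da56d558fa66e57a78e6f56a48c6c54353637341d1f1e1c7b92624b79916149937a634a90786048323133301b191a1813160e0b17120f0a11150d0914100c080607050403020100
def tOD : ℕ := 0x70407030703040703030204070403070402030307030704070304070402030307040307070304070303020407040307070407030402030307030704070407030402030303070407030304020703070407040307070307040303040204070703040707030704030707030704030704070402040203030303070307040307040707040307040707030303030302040402040203030402030303030204030304020404020202020201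
def tCL : ℕ := 0x50204030403020503030102050203040201030304030502040302050201030305020304040302050303010205020304050204030201030304030502050204030201030303040205030302010403050205020304040305020303020102050403020504030502030404030502030402050201020103030303040305020304020505020304020504030303030301020201020103030201030303030102030302010202010101010100
def tW : ℕ := 0x164d1467164b79153433803e14786317227c1b1d15531769104f65133a98323511916213124a90101c1a942612516b110d490e7b385036310c960e7d0c480f93204c1f19820d990f37303c680b9209610b957e080a7a08601e182464810a099a6404047f054c9705064e069466077c071924182079619149035203806a029802015083016800009b609078483c3130380a6003060848070204019012050010780200100830180000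
def tREP : ℕ := 0x22210a060100
def tF1 : ℕ := 0x60a001400080017050000000e02000000001600000015000d00000c00100400001200000000070f000000011300090011000b03000000000000
def tF2 : ℕ := 0x1a1c003300340007020000001e18000000000500000031003600003700300100000400000000191f000000030600350032001d1b000000000000
def tDR : ℕ := 0x503040207010600
def tB1 : ℕ := 0xffffff
def tB2 : ℕ := 0xff0000ff0000ff
def tBT : ℕ := 0xff
def tBO1 : ℕ := 0x33
def tBO2 : ℕ := 0xf

/-- byte `i` of a packed table -/
def gt (t i : ℕ) : ℕ := Nat.land (Nat.shiftRight t (Nat.mul 8 i)) 255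

/-- the model -/
def M : Type := Fin 168

def mk (n : ℕ) : M := ⟨Nat.mod n 168, Nat.mod_lt _ (by decide)⟩

instance : DecidableEq M := inferInstanceAs (DecidableEq (Fin 168))
instance : Fintype M := inferInstanceAs (Fintype (Fin 168))
theorem mk_val (a : M) : mk a.1 = a := Fin.ext (Nat.mod_eq_of_lt a.2)
noncomputable instance (P : M → Prop) [h : DecidablePred P] : Decidable (∀ a, P a) :=
  decidable_of_iff (H14.allLt 168 (fun i => decide (P (mk i))) = true) (by
    rw [H14.allLt_iff]
    exact ⟨fun H a => mk_val a ▸ of_decide_eq_true (H a.1 a.2), fun H i _ => decide_eq_true (H _)⟩)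
noncomputable instance (P : M → Prop) [h : DecidablePred P] : Decidable (∃ a, P a) :=
  decidable_of_iff (H14.anyLt 168 (fun i => decide (P (mk i))) = true) (by
    rw [H14.anyLt_iff]
    exact ⟨fun ⟨i, _, H⟩ => ⟨_, of_decide_eq_true H⟩,
      fun ⟨a, H⟩ => ⟨a.1, a.2, decide_eq_true ((mk_val a).symm ▸ H)⟩⟩)
def cd (a : ℕ) : ℕ := Nat.land (Nat.shiftRight tPT (Nat.mul 24 a)) 16777215
def aq (c x : ℕ) : ℕ := Nat.mod (Nat.shiftRight c (Nat.mul 3 x)) 8
def mu (c d : ℕ) : ℕ :=
  gt tT (Nat.add (aq c (aq d 1)) (Nat.add (Nat.mul 8 (aq c (aq d 2))) (Nat.mul 64 (aq c (aq d 4)))))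

instance : Mul M := ⟨fun a b => mk (mu (cd a.1) (cd b.1))⟩
instance : One M := ⟨mk 0⟩
instance : Inv M := ⟨fun a => mk (gt tIV a.1)⟩

def ap (a : M) (x : Fin 8) : Fin 8 :=
  ⟨aq (cd a.1) x.1, Nat.mod_lt _ (by decide)⟩

theorem ap_mul (a b : M) (x : Fin 8) : ap (a * b) x = ap a (ap b x) := by
  have : ∀ a b : M, H14.allLt 8 (fun x => Nat.beq (aq (cd (a * b).1) x) (aq (cd a.1) (aq (cd b.1) x))) =
    true := by decide +kernel
  exact Fin.ext (Nat.eq_of_beq_eq_true ((H14.allLt_iff _ _).1 (this a b) x.1 x.2))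
theorem ap_inj (a b : M) (h : ∀ x, ap a x = ap b x) : a = b := by
  have : ∀ a : M, mk (gt tT (Nat.add (ap a 1).1 (Nat.add (Nat.mul 8 (ap a 2).1) (Nat.mul 64 (ap a 4).1)))) =
    a := by decide +kernel
  rw [← this a, h, h, h, this]

instance : Group M := Group.ofLeftAxioms
  (fun a b c => ap_inj _ _ fun x => by rw [ap_mul, ap_mul, ap_mul, ap_mul])
  (by decide +kernel) (by decide +kernel)

theorem card_M : Nat.card M = 168 := Nat.card_fin 168

def od (a : M) : ℕ := gt tOD a.1
def cl (a : M) : ℕ := gt tCL a.1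

theorem orderOf_eq (a : M) : orderOf a = od a := by
  have : ∀ a : M, 0 < od a ∧ a ^ od a = 1 ∧ ∀ m < od a, 0 < m → a ^ m ≠ 1 := by decide +kernel
  exact (orderOf_eq_iff (this a).1).2 (this a).2

theorem isConj_iff (a b : M) : IsConj a b ↔ cl a = cl b := by
  have h1 : ∀ c a : M, cl (c * a * c⁻¹) = cl a := by decide +kernel
  have h2 : ∀ a : M, mk (gt tW a.1) * mk (gt tREP (cl a)) * (mk (gt tW a.1))⁻¹ = a := by
    decide +kernel
  constructor
  · intro h
    obtain ⟨c, rfl⟩ := _root_.isConj_iff.1 h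
    exact (h1 c a).symm
  · intro h
    exact (_root_.isConj_iff.2 ⟨_, h2 a⟩).symm.trans (h ▸ _root_.isConj_iff.2 ⟨_, h2 b⟩)

instance : IsSimpleGroup M where
  exists_pair_ne := ⟨mk 0, mk 1, fun e => absurd (congrArg Fin.val e) (by decide +kernel)⟩
  eq_bot_or_eq_top_of_normal N hN := by
    rw [or_iff_not_imp_left]
    intro h
    obtain ⟨⟨x, hx⟩, hx1⟩ := Subgroup.ne_bot_iff_exists_ne_one.1 h
    have h1 : ∀ x : M, x ≠ 1 → cl x = 1 ∨ ∃ g, cl (x * (g * x * g⁻¹)) = 1 := by decide +kernel
    have h2 : ∀ m : M, ∃ s, cl s ≤ 1 ∧ ∃ t, cl t ≤ 1 ∧ cl (s * t * m) ≤ 1 := by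
      decide +kernel
    have h3 : ∀ m : M, cl m = 0 → m = 1 := by decide +kernel
    obtain ⟨y, hy, e⟩ : ∃ y ∈ N, cl y = 1 := by
      rcases h1 x (fun e => hx1 (Subtype.ext e)) with e | ⟨g, e⟩
      · exact ⟨x, hx, e⟩
      · exact ⟨_, N.mul_mem hx (hN.conj_mem x hx g), e⟩
    have h4 : ∀ s, cl s ≤ 1 → s ∈ N := fun s hs => by
      rcases Nat.le_one_iff_eq_zero_or_eq_one.1 hs with h | h
      · rw [h3 s h]; exact N.one_mem
      · obtain ⟨c, rfl⟩ := _root_.isConj_iff.1 ((isConj_iff y s).2 (e.trans h.symm))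
        exact hN.conj_mem y hy c
    rw [eq_top_iff]
    intro m _
    obtain ⟨s, a, t, b, c⟩ := h2 m
    exact (N.mul_mem_cancel_left (N.mul_mem (h4 s a) (h4 t b))).1 (h4 _ c)

theorem exists_equiv {G : Type*} [Group G] [Finite G] [IsSimpleGroup G] (h : Nat.card G = 168) :
    Nonempty (M ≃* G) := by
  haveI : Fact (Nat.Prime 7) := ⟨by norm_num⟩
  obtain ⟨e⟩ := Cfsg.Agent.S0495.result h (F := ZMod 7) (ZMod.card 7)
  obtain ⟨e'⟩ := Cfsg.Agent.S0495.result card_M (F := ZMod 7) (ZMod.card 7)
  exact ⟨e'.trans e.symm⟩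

def bt (B : ℕ) (a : M) : Prop := Nat.testBit B a.1 = true
instance (B : ℕ) : DecidablePred (bt B) := fun a => inferInstanceAs (Decidable (_ = true))

def sub (B : ℕ) (h1 : bt B 1) (h2 : ∀ a, bt B a → ∀ b, bt B b → bt B (a * b))
    (h3 : ∀ a, bt B a → bt B a⁻¹) : Subgroup M where
  carrier := {a | bt B a}
  one_mem' := h1
  mul_mem' := fun ha hb => h2 _ ha _ hb
  inv_mem' := fun ha => h3 _ ha

def M1 : Subgroup M := sub tB1 (by decide +kernel) (by decide +kernel) (by decide +kernel)
def M2 : Subgroup M := sub tB2 (by decide +kernel) (by decide +kernel) (by decide +kernel)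
def T0 : Subgroup M := sub tBT (by decide +kernel) (by decide +kernel) (by decide +kernel)
def O1 : Subgroup M := sub tBO1 (by decide +kernel) (by decide +kernel) (by decide +kernel)
def O2 : Subgroup M := sub tBO2 (by decide +kernel) (by decide +kernel) (by decide +kernel)

instance : DecidablePred (· ∈ M1) := fun a => inferInstanceAs (Decidable (bt tB1 a))
instance : DecidablePred (· ∈ M2) := fun a => inferInstanceAs (Decidable (bt tB2 a))
instance : DecidablePred (· ∈ T0) := fun a => inferInstanceAs (Decidable (bt tBT a))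
instance : DecidablePred (· ∈ O1) := fun a => inferInstanceAs (Decidable (bt tBO1 a))
instance : DecidablePred (· ∈ O2) := fun a => inferInstanceAs (Decidable (bt tBO2 a))

def f4 (t : ℕ) (σ : Equiv.Perm (Fin 4)) : M := mk (gt t ((σ 0).1 + 4 * (σ 1).1 + 16 * (σ 2).1))

def fD : DihedralGroup 4 → M
  | .r i => mk (gt tDR i.val)
  | .sr i => mk (gt tDR (4 + i.val))

theorem equiv_of {H : Type*} [Group H] (f : H → M) (K : Subgroup M) (h1 : ∀ a b, f (a * b) = f a * f b)
    (h2 : ∀ a, f a = 1 → a = 1) (h3 : ∀ a, f a ∈ K) (h4 : ∀ x ∈ K, ∃ a, f a = x) :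
    Nonempty (K ≃* H) := by
  have : (MonoidHom.mk' f h1).range = K := by
    ext x
    exact ⟨by rintro ⟨a, rfl⟩; exact h3 a, h4 x⟩
  exact ⟨this ▸ (MonoidHom.ofInjective ((injective_iff_map_eq_one _).2 h2)).symm⟩

theorem eM1 : Nonempty (M1 ≃* Equiv.Perm (Fin 4)) :=
  equiv_of (f4 tF1) _ (by decide +kernel) (by decide +kernel) (by decide +kernel) (by decide +kernel)
theorem eM2 : Nonempty (M2 ≃* Equiv.Perm (Fin 4)) :=
  equiv_of (f4 tF2) _ (by decide +kernel) (by decide +kernel) (by decide +kernel) (by decide +kernel)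
theorem eT0 : Nonempty (T0 ≃* DihedralGroup 4) :=
  equiv_of fD _ (by decide +kernel) (by decide +kernel) (by decide +kernel) (by decide +kernel)

theorem klein_of (K : Subgroup M) [DecidablePred (· ∈ K)]
    (h1 : (Finset.univ.filter (· ∈ K)).card = 4) (h2 : ∀ x ∈ K, x * x = 1) : IsKleinFour K := by
  have h : Nat.card K = 4 := by
    rw [← h1, Nat.card_eq_fintype_card, Fintype.card_subtype]
  haveI : Nontrivial K := Finite.one_lt_card_iff_nontrivial.1 (by omega)
  exact ⟨h, (Monoid.exponent_eq_prime_iff Nat.prime_two).2 fun g hg =>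
    orderOf_eq_prime (Subtype.ext (by rw [pow_two]; exact h2 g g.2)) hg⟩

/-- the facts used for subgroups -/
structure Dat {G : Type*} [Group G] (T O1 O2 M1 M2 : Subgroup G) : Prop where
  eT : Nonempty (T ≃* DihedralGroup 4)
  e1 : Nonempty (M1 ≃* Equiv.Perm (Fin 4))
  e2 : Nonempty (M2 ≃* Equiv.Perm (Fin 4))
  k1 : IsKleinFour O1
  k2 : IsKleinFour O2
  t1 : ∀ x ∈ O1, x ∈ T
  t2 : ∀ x ∈ O2, x ∈ T
  cj : ∀ x : G, x * x = 1 → ∀ y : G, y * y = 1 → x * y = y * x →
    ∃ g, (g * x * g⁻¹ ∈ O1 ∧ g * y * g⁻¹ ∈ O1) ∨ (g * x * g⁻¹ ∈ O2 ∧ g * y * g⁻¹ ∈ O2)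
  n1 : ∀ g, g ∈ M1 ↔ ∀ x ∈ O1, g * x * g⁻¹ ∈ O1
  n2 : ∀ g, g ∈ M2 ↔ ∀ x ∈ O2, g * x * g⁻¹ ∈ O2
  nc : ∀ g, ∃ x, x ∈ O1 ∧ g * x * g⁻¹ ∉ O2
  nm : ∀ g, ∃ x, x ∈ M1 ∧ g * x * g⁻¹ ∉ M2
  tk : ∀ x ∈ T, x * x = 1 → ∀ y ∈ T, y * y = 1 → x * y = y * x →
    (x ∈ O1 ∧ y ∈ O1) ∨ (x ∈ O2 ∧ y ∈ O2)
  c2 : ∃ z : G, z ≠ 1 ∧ z * z = 1 ∧ ∀ g, g * z = z * g → g ∈ M1
  c3 : ∃ x : G, x ≠ 1 ∧ x * x * x = 1 ∧ ∀ g, (g * x * g⁻¹ = x ∨ g * x * g⁻¹ = x * x) → g ∈ M1
  nt : ∀ g, (∀ x ∈ T, g * x * g⁻¹ ∈ T) → g ∈ T
  ct : ∀ z ∈ T, z ≠ 1 → (∀ t ∈ T, t * z = z * t) → ∀ g, g * z = z * g → g ∈ T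

theorem datM : Dat T0 O1 O2 M1 M2 where
  eT := eT0
  e1 := eM1
  e2 := eM2
  k1 := klein_of _ (by decide +kernel) (by decide +kernel)
  k2 := klein_of _ (by decide +kernel) (by decide +kernel)
  t1 := by decide +kernel
  t2 := by decide +kernel
  cj := by decide +kernel
  n1 := by decide +kernel
  n2 := by decide +kernel
  nc := by decide +kernel
  nm := by decide +kernel
  tk := by decide +kernel
  c2 := ⟨mk 1, by decide +kernel⟩
  c3 := ⟨mk 10, by decide +kernel⟩
  nt := by decide +kernel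
  ct := by decide +kernel

theorem Dat.map {G H : Type*} [Group G] [Group H] {T O1 O2 M1 M2 : Subgroup G} (D : Dat T O1 O2 M1 M2)
    (e : G ≃* H) : Dat (T.map (e : G →* H)) (O1.map (e : G →* H)) (O2.map (e : G →* H))
      (M1.map (e : G →* H)) (M2.map (e : G →* H)) := by
  have m : ∀ (K : Subgroup G) (x : G), e x ∈ K.map (e : G →* H) ↔ x ∈ K := fun K x =>
    Subgroup.mem_map_iff_mem (f := (e : G →* H)) e.injective
  have q : ∀ (K : Subgroup G), K ≃* K.map (e : G →* H) := fun K => e.subgroupMap K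
  have k : ∀ (K : Subgroup G), IsKleinFour K → IsKleinFour (K.map (e : G →* H)) := fun K h =>
    ⟨by rw [← Nat.card_congr (q K).toEquiv, h.card_four],
      by rw [← Monoid.exponent_eq_of_mulEquiv (q K), h.exponent_two]⟩
  have o : ∀ x, e x = 1 ↔ x = 1 := fun x => e.map_eq_one_iff
  refine ⟨D.eT.map (q T).symm.trans, D.e1.map (q M1).symm.trans, D.e2.map (q M2).symm.trans,
    k _ D.k1, k _ D.k2, ?_, ?_, ?_, ?_, ?_, ?_, ?_, ?_, ?_, ?_, ?_, ?_⟩ <;>
  simp only [e.surjective.forall, e.surjective.exists, ← map_mul, ← map_inv, m, o, Ne,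
    e.injective.eq_iff]
  exacts [D.t1, D.t2, D.cj, D.n1, D.n2, D.nc, D.nm, D.tk, D.c2, D.c3, D.nt, D.ct]

theorem exists_dat {G : Type*} [Group G] [Finite G] [IsSimpleGroup G] (h : Nat.card G = 168)
    (T : Sylow 2 G) : ∃ O1 O2 M1 M2, Dat (T : Subgroup G) O1 O2 M1 M2 := by
  haveI : Fact (Nat.Prime 2) := ⟨Nat.prime_two⟩
  obtain ⟨e⟩ := exists_equiv h
  have D := datM.map e
  obtain ⟨f⟩ := D.eT
  let S : Sylow 2 G := Sylow.ofCard (T0.map (e : M →* G)) (by
    rw [Nat.card_congr f.toEquiv, DihedralGroup.nat_card, h,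
      show Nat.factorization 168 2 = 3 from
        Nat.factorization_eq_of_coprime_left (a := 2 ^ 3) (b := 21) (by norm_num) (by simp) |>.trans
          (by rw [Nat.prime_two.factorization_pow]; simp)]
    rfl)
  obtain ⟨g, rfl⟩ := MulAction.exists_smul_eq G S T
  exact ⟨_, _, _, _, D.map (MulAut.conj g)⟩

theorem card_ord {G : Type*} [Group G] (e : M ≃* G) (k : ℕ) :
    Nat.card {g : G // orderOf g = k} = (Finset.univ.filter fun a : M => od a = k).card := by
  rw [← Fintype.card_subtype, ← Nat.card_eq_fintype_card]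
  exact (Nat.card_congr (e.toEquiv.subtypeEquiv fun a => by
    rw [← orderOf_eq]; exact (e.orderOf_eq a).symm ▸ Iff.rfl)).symm

theorem isConj_map {G : Type*} [Group G] (e : M ≃* G) (a b : M) :
    IsConj (e a) (e b) ↔ cl a = cl b := by
  rw [← isConj_iff, _root_.isConj_iff, _root_.isConj_iff, e.surjective.exists]
  simp only [← map_mul, ← map_inv, e.injective.eq_iff]

theorem card_conj {G : Type*} [Group G] (e : M ≃* G) (x : M) :
    Nat.card {g : G // IsConj (e x) g} = (Finset.univ.filter fun a : M => cl x = cl a).card := by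
  rw [← Fintype.card_subtype, ← Nat.card_eq_fintype_card]
  exact (Nat.card_congr (e.toEquiv.subtypeEquiv fun a => (isConj_map e x a).symm)).symm

theorem od_map {G : Type*} [Group G] (e : M ≃* G) (a : M) : orderOf (e a) = od a := by
  rw [e.orderOf_eq, orderOf_eq]

end H05.G168
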