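import Mathlib
import Cfsg.Agent.H05.ONan4
import Cfsg.Agent.H02.Thompson
import Cfsg.Agent.H02.Fitting

/-! Ito's theorem: a 2-transitive symmetric design with a nontrivial central automorphism is the
point-hyperplane design of a projective space (`H05.Ito.SD.abelian`, `H05.Ito.main`). Also the
double-counting lemma `H05.dcount`. -/

set_option autoImplicit false
open Cfsg Subgroup MulAction

namespace H05

theorem dcount {α β : Type*} [Finite α] [Finite β] (s : Set α) (t : Set β) (r : α → β → Prop)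
    (m n : ℕ) (hm : ∀ a ∈ s, {b | b ∈ t ∧ r a b}.ncard = m)
    (hn : ∀ b ∈ t, {a | a ∈ s ∧ r a b}.ncard = n) : s.ncard * m = t.ncard * n := by
  classical
  have hs := s.toFinite
  have ht := t.toFinite
  rw [Set.ncard_eq_toFinset_card s hs, Set.ncard_eq_toFinset_card t ht]
  refine Finset.card_mul_eq_card_mul r (fun a ha => ?_) (fun b hb => ?_)
  · rw [← hm a (by simpa using ha), ← Set.ncard_coe_finset]
    congr 1; ext; simp
  · rw [← hn b (by simpa using hb), ← Set.ncard_coe_finset]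
    congr 1; ext; simp

theorem dvd_of_fibers {α β : Type*} [Finite α] (s : Set α) (f : α → β) (m : ℕ)
    (hm : ∀ a ∈ s, {b | b ∈ s ∧ f b = f a}.ncard = m) : m ∣ s.ncard := by
  have := dcount s (Set.univ : Set (f '' s)) (fun a b => f a = b) 1 m (fun a ha => ?_)
    (fun b _ => ?_)
  · exact Dvd.intro_left _ (by rw [← this, mul_one])
  · rw [Set.ncard_eq_one]
    exact ⟨⟨f a, a, ha, rfl⟩, by ext ⟨b, hb⟩; simp [eq_comm, Subtype.ext_iff]⟩
  · obtain ⟨_, a, ha, rfl⟩ := b
    exact hm a ha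

/-- a nontrivial nilpotent normal subgroup of `K` gives an abelian subgroup of `K` normalised by
`N(K)` -/
theorem exists_abelian {G : Type*} [Group G] [Finite G] {K A : Subgroup G} (hle : A ≤ K)
    (hn : K ≤ normalizer (A : Set G)) (hA : Group.IsNilpotent A) (h1 : A ≠ ⊥) :
    ∃ M : Subgroup G, M ≤ K ∧ M ≠ ⊥ ∧ (∀ a ∈ M, ∀ b ∈ M, a * b = b * a) ∧
      ∀ g ∈ normalizer (K : Set G), ∀ n ∈ M, g * n * g⁻¹ ∈ M := by
  have hF : fittingOf K ≠ ⊥ := fun e => h1 (le_bot_iff.1 (e ▸ H02.le_fittingOf hle hn hA))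
  haveI := (nontrivial_iff_ne_bot _).2 hF
  refine ⟨fittingOf K ⊓ centralizer (fittingOf K : Set G), inf_le_left.trans (H02.fittingOf_le K),
    fun e => ?_, fun a ha b hb => (hb.2 a ha.1), fun g hg n hn => ?_⟩
  · haveI := (nontrivial_iff_ne_bot _).2 (Group.IsNilpotent.center_ne_bot (G := fittingOf K))
    obtain ⟨⟨z, hz⟩, hz1⟩ := exists_ne (1 : center (fittingOf K))
    have : (z : G) ∈ fittingOf K ⊓ centralizer (fittingOf K : Set G) :=
      ⟨z.2, fun a ha => congrArg Subtype.val (mem_center_iff.1 hz ⟨a, ha⟩)⟩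
    rw [e, mem_bot] at this
    exact hz1 (Subtype.ext (Subtype.ext this))
  · have hg' := H02.normalizer_le_normalizer_fittingOf K hg
    refine ⟨(mem_normalizer_iff.1 hg' n).1 hn.1, fun a ha => ?_⟩
    have := hn.2 _ ((mem_normalizer_iff''.1 hg' a).1 ha)
    calc a * (g * n * g⁻¹) = g * (g⁻¹ * a * g * n) * g⁻¹ := by group
      _ = _ := by rw [this]; group

namespace Ito

variable {G X Ω : Type*} [Group G] [MulAction G X] [MulAction G Ω]

/-- a symmetric design with a group 2-transitive on points and transitive on antiflags -/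
structure SD (G : Type*) {X Ω : Type*} [Group G] [MulAction G X] [MulAction G Ω]
    (I : X → Ω → Prop) (k l : ℕ) : Prop where
  inv : ∀ (g : G) x b, I x b → I (g • x) (g • b)
  two : ∀ a b c d : X, a ≠ b → c ≠ d → ∃ g : G, g • a = c ∧ g • b = d
  anti : ∀ x b c, ¬ I x b → ¬ I x c → ∃ g : G, g • x = x ∧ g • b = c
  faith : ∀ g : G, (∀ x : X, g • x = x) → g = 1
  faith' : ∀ g : G, (∀ b : Ω, g • b = b) → g = 1
  blk : ∀ b, {x | I x b}.ncard = k
  pt : ∀ x, {b | I x b}.ncard = k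
  pp : ∀ x y, x ≠ y → {b | I x b ∧ I y b}.ncard = l
  bb : ∀ b c, b ≠ c → {x | I x b ∧ I x c}.ncard = l
  l1 : 1 ≤ l
  kl : l < k
  off : ∀ x, ∃ b c, b ≠ c ∧ ¬ I x b ∧ ¬ I x c

/-- automorphisms with centre `x` -/
def Kc (G : Type*) {X Ω : Type*} [Group G] [MulAction G Ω] (I : X → Ω → Prop) (x : X) :
    Subgroup G where
  carrier := {g | ∀ b, I x b → g • b = b}
  one_mem' := fun _ _ => one_smul _ _
  mul_mem' := fun ha hb c hc => by rw [mul_smul, hb c hc, ha c hc]
  inv_mem' := fun ha c hc => by rw [inv_smul_eq_iff, ha c hc]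

/-- the line through two points -/
def Ln (I : X → Ω → Prop) (x y : X) : Set X := {z | ∀ b, I x b → I y b → I z b}

namespace SD
variable [Finite X] [Finite Ω] {I : X → Ω → Prop} {k l : ℕ} (h : SD G I k l)
include h

omit [Finite X] [Finite Ω] in
theorem inv_iff (g : G) (x : X) (b : Ω) : I (g • x) (g • b) ↔ I x b :=
  ⟨fun e => by simpa using h.inv g⁻¹ _ _ e, h.inv g x b⟩

omit [Finite X] [Finite Ω] in
theorem conj {g a : G} {x : X} (ha : a ∈ Kc G I x) : g * a * g⁻¹ ∈ Kc G I (g • x) := fun b hb => by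
  rw [mul_smul, mul_smul, ha, smul_inv_smul]
  simpa using h.inv g⁻¹ _ _ hb

omit [Finite X] in
theorem exists_sep {x y : X} (hxy : x ≠ y) : ∃ b, I x b ∧ ¬ I y b := by
  by_contra! H
  have : {b | I x b} = {b | I x b ∧ I y b} := by ext b; simpa using H b
  have h1 := h.pt x
  rw [this, h.pp x y hxy] at h1
  exact h.kl.ne h1

omit [Finite X] in
theorem fix {g : G} {x : X} (hg : g ∈ Kc G I x) : g • x = x := by
  by_contra e
  obtain ⟨b, h1, h2⟩ := h.exists_sep (Ne.symm e)
  exact h2 (by simpa [hg b h1] using h.inv g x b h1)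

omit [Finite X] in
/-- the blocks through two points are determined by two points on all of them -/
theorem blocks_eq {x y z w : X} (hxy : x ≠ y) (hzw : z ≠ w) (hz : z ∈ Ln I x y)
    (hw : w ∈ Ln I x y) {b : Ω} (h1 : I z b) (h2 : I w b) : I x b ∧ I y b := by
  have : {b | I x b ∧ I y b} = {b | I z b ∧ I w b} :=
    Set.eq_of_subset_of_ncard_le (fun c hc => ⟨hz c hc.1 hc.2, hw c hc.1 hc.2⟩)
      (by rw [h.pp _ _ hxy, h.pp _ _ hzw])
  exact (Set.ext_iff.1 this b).2 ⟨h1, h2⟩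

omit [Finite X] in
theorem ln_eq {x y z w : X} (hxy : x ≠ y) (hzw : z ≠ w) (hz : z ∈ Ln I x y)
    (hw : w ∈ Ln I x y) : Ln I z w = Ln I x y := by
  ext u
  exact ⟨fun hu b h1 h2 => hu b (hz b h1 h2) (hw b h1 h2), fun hu b h1 h2 =>
    hu b (h.blocks_eq hxy hzw hz hw h1 h2).1 (h.blocks_eq hxy hzw hz hw h1 h2).2⟩

omit [Finite X] in
/-- a block through a moved point and its image passes through the centre -/
theorem thru {g : G} {x y : X} (hg : g ∈ Kc G I x) (hy : g • y ≠ y) {b : Ω} (h1 : I y b)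
    (h2 : I (g • y) b) : I x b := by
  have hxy : x ≠ y := fun e => hy (e ▸ h.fix hg)
  refine (h.blocks_eq hxy hy.symm (fun _ _ e => e) (fun c h3 h4 => ?_) h1 h2).1
  simpa [hg c h3] using h.inv g y c h4

omit [Finite X] in
theorem fixed_off {g : G} {x y : X} (hg : g ∈ Kc G I x) {b : Ω} (hb : g • b = b) (hx : ¬ I x b)
    (hy : I y b) : g • y = y := by
  by_contra e
  exact hx (h.thru hg e hy (by simpa [hb] using h.inv g y b hy))

omit [Finite X] in
theorem moved_eq {g : G} {x : X} (hg : g ∈ Kc G I x) {b : Ω} (hb : g • b ≠ b) :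
    {y | I y b ∧ g • y = y} = {y | I y b ∧ I y (g • b)} := by
  ext y
  refine ⟨fun hy => ⟨hy.1, by simpa [hy.2] using h.inv g y b hy.1⟩, fun hy => ⟨hy.1, ?_⟩⟩
  by_contra e
  refine hb (hg b (h.thru (inv_mem hg) (y := y) (fun e' => e (by rw [inv_smul_eq_iff] at e'; exact e'.symm)) hy.1 ?_))
  simpa using h.inv g⁻¹ _ _ hy.2

omit [Finite X] in
theorem moved {g : G} {x : X} (hg : g ∈ Kc G I x) {b : Ω} (hb : g • b ≠ b) :
    {y | I y b ∧ g • y = y}.ncard = l := by
  rw [h.moved_eq hg hb, h.bb _ _ hb.symm]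

theorem exists_fix {g : G} {x : X} (hg : g ∈ Kc G I x) (h1 : g ≠ 1) : ∃ y, y ≠ x ∧ g • y = y := by
  obtain ⟨b, hb⟩ : ∃ b : Ω, g • b ≠ b := by
    by_contra! H; exact h1 (h.faith' g H)
  obtain ⟨y, hy⟩ := Set.nonempty_of_ncard_ne_zero (s := {y | I y b ∧ g • y = y})
    (by rw [h.moved hg hb]; have := h.l1; omega)
  exact ⟨y, fun e => hb (hg b (e ▸ hy.1)), hy.2⟩

theorem count {x : X} (S : Set X) (hx : x ∈ S) (hS : ∀ b, ¬ I x b → {y | I y b ∧ y ∈ S}.ncard = l) :
    (S.ncard - 1) * (k - l) = {b | ¬ I x b}.ncard * l := by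
  rw [← Set.ncard_sdiff_singleton_of_mem hx]
  refine dcount _ _ (fun y b => I y b) _ _ (fun y hy => ?_) (fun b hb => ?_)
  · rw [← h.pt y, ← h.pp x y (Ne.symm hy.2), ← Set.ncard_sdiff (fun b hb => hb.2)]
    congr 1; ext b; simp only [Set.mem_ofPred_eq, Set.mem_sdiff]; tauto
  · rw [← hS b hb]
    congr 1; ext y
    simp only [Set.mem_ofPred_eq, Set.mem_sdiff, Set.mem_singleton_iff]
    exact ⟨fun e => ⟨e.2, e.1.1⟩, fun e => ⟨⟨e.2, fun e' => hb (e' ▸ e.1)⟩, e.1⟩⟩

theorem count' (x : X) : (k - 1) * (k - l) = {b | ¬ I x b}.ncard * l := by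
  obtain ⟨c, hc⟩ := Set.nonempty_of_ncard_ne_zero (s := {b | I x b})
    (by rw [h.pt]; have := h.kl; omega)
  rw [← h.count {y | I y c} hc (fun b hb => h.bb b c (fun e => hb (e ▸ hc))), h.blk]

theorem kl2 (x : X) : l + 2 ≤ k := by
  have h1 := h.count' x
  obtain ⟨b, c, hbc, hb, hc⟩ := h.off x
  have h2 : 1 < {b | ¬ I x b}.ncard := (Set.one_lt_ncard (Set.toFinite _)).2 ⟨b, hb, c, hc, hbc⟩
  have := h.kl
  have := h.l1
  by_contra H
  have e : k = l + 1 := by omega
  subst e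
  simp only [Nat.add_sub_cancel, Nat.add_sub_cancel_left, mul_one] at h1
  nlinarith

/-- two centres force the identity -/
theorem disj {g : G} {x y : X} (hxy : x ≠ y) (hx : g ∈ Kc G I x) (hy : g ∈ Kc G I y) : g = 1 := by
  refine h.faith g fun z => ?_
  by_contra hz
  have hln : ∀ w, g • w ≠ w → w ∈ Ln I x y := fun w hw => by
    have hxw : x ≠ w := fun e => hw (e ▸ h.fix hx)
    have : y ∈ Ln I x w := fun b h1 h2 =>
      h.thru hy hw h2 (by simpa [hx b h1] using h.inv g w b h2)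
    rw [h.ln_eq hxw hxy (fun _ e _ => e) this]
    exact fun _ _ e => e
  obtain ⟨b, h1, h2⟩ := h.exists_sep (x := z) (y := x) (fun e => hz (e ▸ h.fix hx))
  have hb : g • b ≠ b := fun e => hz (h.fixed_off hx e h2 h1)
  have h3 : {w | I w b} \ {z} ⊆ {w | I w b ∧ g • w = w} := fun w hw => ⟨hw.1, by
    by_contra e
    exact h2 (h.blocks_eq hxy (Ne.symm hw.2) (hln z hz) (hln w e) h1 hw.1).1⟩
  have := Set.ncard_le_ncard h3
  rw [h.moved hx hb, Set.ncard_sdiff_singleton_of_mem (show z ∈ {w | I w b} from h1), h.blk] at this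
  have := h.kl2 x
  omega

theorem two_off {g : G} {x : X} (hg : g ∈ Kc G I x) {b c : Ω} (hbc : b ≠ c) (hb : ¬ I x b)
    (hc : ¬ I x c) (gb : g • b = b) (gc : g • c = c) : g = 1 := by
  obtain ⟨y, h1, h2⟩ : ∃ y, I y b ∧ ¬ I y c := by
    by_contra! H
    have : {y | I y b} = {y | I y b ∧ I y c} := by ext y; simpa using H y
    have h1 := h.blk b
    rw [this, h.bb _ _ hbc] at h1
    exact h.kl.ne h1
  refine h.disj (x := x) (y := y) (fun e => hb (e ▸ h1)) hg fun d hd => ?_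
  by_contra e
  have : {w | I w d ∧ I w c} = {w | I w d ∧ g • w = w} :=
    Set.eq_of_subset_of_ncard_le (fun w hw => ⟨hw.1, h.fixed_off hg gc hc hw.2⟩)
      (by rw [h.moved hg e, h.bb d c (fun e' => e (e' ▸ gc))])
  exact h2 ((Set.ext_iff.1 this y).2 ⟨hd, h.fixed_off hg gb hb h1⟩).2

omit [Finite X] [Finite Ω] in
theorem ln_smul (g : G) {x y z : X} (hz : z ∈ Ln I x y) : g • z ∈ Ln I (g • x) (g • y) :=
  fun b h1 h2 => by
    simpa using h.inv g _ _ (hz (g⁻¹ • b) (by simpa using h.inv g⁻¹ _ _ h1)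
      (by simpa using h.inv g⁻¹ _ _ h2))

omit [Finite Ω] in
theorem ln_card {x y z w : X} (hxy : x ≠ y) (hzw : z ≠ w) : (Ln I x y).ncard = (Ln I z w).ncard := by
  have key : ∀ {x y z w : X}, x ≠ y → z ≠ w → (Ln I x y).ncard ≤ (Ln I z w).ncard := by
    intro x y z w hxy hzw
    obtain ⟨g, rfl, rfl⟩ := h.two x y z w hxy hzw
    exact Set.ncard_le_ncard_of_injOn (g • ·) (fun a ha => h.ln_smul g ha)
      (MulAction.injective g).injOn
  exact le_antisymm (key hxy hzw) (key hzw hxy)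

/-- a set closed under lines through `y` -/
theorem ln_dvd {x y : X} (hxy : x ≠ y) (S : Set X) (hy : y ∉ S)
    (hS : ∀ z ∈ S, ∀ w ∈ Ln I y z, w ≠ y → w ∈ S) : (Ln I x y).ncard - 1 ∣ S.ncard := by
  refine dvd_of_fibers S (Ln I y) _ fun z hz => ?_
  have hyz : y ≠ z := fun e => hy (e ▸ hz)
  rw [h.ln_card hxy hyz, ← Set.ncard_sdiff_singleton_of_mem (show y ∈ Ln I y z from fun _ e _ => e)]
  congr 1; ext w
  refine ⟨fun hw => ⟨hw.2 ▸ fun _ _ e => e, fun e => hy (e ▸ hw.1)⟩, fun hw =>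
    ⟨hS z hz w hw.1 hw.2, h.ln_eq hyz (Ne.symm hw.2) (fun _ e _ => e) hw.1⟩⟩

/-- in the semiregular case an element with centre `x` fixing `y` fixes the line `xy` -/
theorem fix_ln {g : G} {x y z : X} (hg : g ∈ Kc G I x) (hs : ∀ b, ¬ I x b → g • b ≠ b)
    (hxy : x ≠ y) (hy : g • y = y) (hz : z ∈ Ln I x y) : g • z = z := by
  have hkl := h.kl
  have hF : {w : X | g • w = w}.ncard - 1 = k - 1 := by
    have := h.count {w : X | g • w = w} (h.fix hg) (fun b hb => h.moved hg (hs b hb))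
    rw [← h.count' x] at this
    exact Nat.eq_of_mul_eq_mul_right (by omega) this
  obtain ⟨c, hc⟩ := Set.nonempty_of_ncard_ne_zero (s := {b | I y b}) (by rw [h.pt]; omega)
  have d1 := h.ln_dvd hxy ({w | I w c} \ {y}) (by simp) (fun z hz w hw hwy => ⟨hw c hc hz.1, hwy⟩)
  rw [Set.ncard_sdiff_singleton_of_mem (show y ∈ {w | I w c} from hc), h.blk, ← hF,
    ← Set.ncard_sdiff_singleton_of_mem (show y ∈ {w : X | g • w = w} from hy)] at d1
  have d2 := h.ln_dvd hxy ({w : X | g • w = w} \ Ln I x y) (fun e => e.2 fun _ _ e => e)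
    (fun z hz w hw hwy => by
      have hyz : y ≠ z := fun e => hz.2 (e ▸ fun _ _ e => e)
      have hx : x ∉ Ln I y z := fun e => hz.2 (by
        rw [h.ln_eq hyz hxy e (fun _ e _ => e)]; exact fun _ _ e => e)
      refine ⟨?_, fun e => hz.2 ?_⟩
      · simp only [Ln, Set.mem_ofPred_eq, not_forall] at hx
        obtain ⟨b, h1, h2, h3⟩ := hx
        refine ((Set.ext_iff.1 (h.moved_eq hg (hs b h3)) w).2 ⟨hw b h1 h2, hw _ ?_ ?_⟩).2
        · simpa [hy] using h.inv g y b h1
        · simpa [show g • z = z from hz.1] using h.inv g z b h2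
      · rw [← h.ln_eq hxy (Ne.symm hwy) (fun _ _ e => e) e,
          h.ln_eq hyz (Ne.symm hwy) (fun _ e _ => e) hw]
        exact fun _ _ e => e)
  have e : {w : X | g • w = w} \ {y} =
      ({w : X | g • w = w} \ Ln I x y) ∪ (({w : X | g • w = w} ∩ Ln I x y) \ {y}) := by
    ext w
    have : w = y → w ∈ Ln I x y := fun e => e ▸ fun _ _ e => e
    simp only [Set.mem_sdiff, Set.mem_union, Set.mem_inter_iff, Set.mem_singleton_iff]
    tauto
  rw [e, Set.ncard_union_eq (Set.disjoint_left.2 fun w h1 h2 => h1.2 h2.1.2)] at d1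
  have d3 := Nat.le_of_dvd ((Set.ncard_pos (Set.toFinite _)).2
    ⟨x, show x ∈ ({w : X | g • w = w} ∩ Ln I x y) \ {y} from ⟨⟨h.fix hg, fun _ e _ => e⟩, hxy⟩⟩)
    ((Nat.dvd_add_right d2).1 d1)
  rw [← Set.ncard_sdiff_singleton_of_mem (show y ∈ Ln I x y from fun _ _ e => e)] at d3
  by_cases hzy : z = y
  · exact hzy ▸ hy
  have := Set.eq_of_subset_of_ncard_le (show ({w : X | g • w = w} ∩ Ln I x y) \ {y} ⊆ Ln I x y \ {y}
    from fun w hw => ⟨hw.1.2, hw.2⟩) d3
  exact ((Set.ext_iff.1 this z).2 ⟨hz, hzy⟩).1.1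

theorem nilp [Finite G] {x : X} (hK : Kc G I x ≠ ⊥) : ∃ A : Subgroup G, A ≤ Kc G I x ∧
    Kc G I x ≤ normalizer (A : Set G) ∧ Group.IsNilpotent A ∧ A ≠ ⊥ := by
  by_cases hs : ∃ g ∈ Kc G I x, g ≠ 1 ∧ ∃ b, ¬ I x b ∧ g • b = b
  · obtain ⟨g, hg, h1, b, hb, gb⟩ := hs
    have hF : IsFrobeniusComplement ((stabilizer G b).subgroupOf (Kc G I x)) := by
      refine H02.isFrob_iff.2 ⟨fun e => h1 ?_, fun e => h1 ?_, fun a c hc c1 hac => ?_⟩
      · exact congrArg Subtype.val ((eq_bot_iff_forall _).1 e ⟨g, hg⟩ gb)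
      · obtain ⟨c, d, hcd, hc, hd⟩ := h.off x
        have key : ∀ c, ¬ I x c → g • c = c := fun c hc => by
          obtain ⟨a, ha, rfl⟩ := h.anti x b c hb hc
          have h2 := h.conj (g := a⁻¹) hg
          rw [inv_smul_eq_iff.2 ha.symm] at h2
          have : (a⁻¹ * g * a⁻¹⁻¹) • b = b := (eq_top_iff' _).1 e ⟨_, h2⟩
          rwa [mul_smul, mul_smul, inv_inv, inv_smul_eq_iff] at this
        exact h.two_off hg hcd hc hd (key c hc) (key d hd)
      · by_contra e
        refine c1 (Subtype.ext (h.two_off c.2 (c := (a : G)⁻¹ • b) (fun e' => e ?_) hb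
          (fun e' => hb ?_) hc ?_))
        · rw [eq_inv_smul_iff] at e'; exact e'
        · simpa [h.fix a.2] using h.inv a _ _ e'
        · have : ((a : G) * c * (a : G)⁻¹) • b = b := hac
          rw [eq_inv_smul_iff, ← mul_smul, ← mul_smul, this]
    obtain ⟨T, hT, hn, -, hnil⟩ := H02.IsFrob.exists_kernel hF
    refine ⟨T.map (Kc G I x).subtype, map_subtype_le _, ?_,
      Group.nilpotent_of_mulEquiv (T.equivMapOfInjective _ (subtype_injective _)), fun e => ?_⟩
    · exact (normal_subgroupOf_iff_le_normalizer (map_subtype_le _)).1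
        (by rwa [subgroupOf, comap_map_eq_self_of_injective (subtype_injective _)])
    · exact H02.IsFrob.ne_bot_of_coe_eq hF hT ((map_eq_bot_iff_of_injective _ (subtype_injective _)).1 e)
  · push Not at hs
    have fl : ∀ {g : G} {x y z : X}, g ∈ Kc G I x → x ≠ y → g • y = y → z ∈ Ln I x y → g • z = z := by
      intro g x' y z hg hxy hy hz
      by_cases h1 : g = 1
      · simp [h1]
      refine h.fix_ln hg (fun b hb e => ?_) hxy hy hz
      obtain ⟨a, ha⟩ : ∃ a : G, a • x' = x := by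
        by_cases e : x' = x
        · exact ⟨1, by simp [e]⟩
        · obtain ⟨a, ha, -⟩ := h.two x' x x x' e (Ne.symm e)
          exact ⟨a, ha⟩
      refine hs _ (ha ▸ h.conj (g := a) hg) (by simpa using h1) (a • b)
        (fun e' => hb ((h.inv_iff a _ _).1 (ha ▸ e'))) (by simp [mul_smul, e])
    have cm : ∀ {a b : G} {x y : X}, x ≠ y → a ∈ Kc G I x → b ∈ Kc G I y → a • y = y → b • x = x →
        a * b = b * a := by
      intro a b x y hxy ha hb e1 e2
      have h1 : a * (b * a⁻¹ * b⁻¹) ∈ Kc G I x := mul_mem ha (e2 ▸ h.conj (g := b) (inv_mem ha))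
      have h2 : a * b * a⁻¹ * b⁻¹ ∈ Kc G I y := mul_mem (e1 ▸ h.conj (g := a) hb) (inv_mem hb)
      have := h.disj hxy h1 (by simpa [mul_assoc] using h2)
      calc a * b = a * (b * a⁻¹ * b⁻¹) * (b * a) := by group
        _ = _ := by rw [this, one_mul]
    obtain ⟨⟨g, hg⟩, h1⟩ := (nontrivial_iff_exists_ne 1).1 ((nontrivial_iff_ne_bot _).2 hK)
    have h1 : g ≠ 1 := fun e => h1 (Subtype.ext e)
    obtain ⟨y, hy, gy⟩ := h.exists_fix hg h1
    have kl : ∀ a ∈ Kc G I x, a • y ∈ Ln I x y := fun a ha b h1 h2 => by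
      simpa [ha b h1] using h.inv a y b h2
    -- an element with centre `y` moving `x`
    obtain ⟨m, hm, mx⟩ : ∃ m ∈ Kc G I y, m • x ≠ x := by
      by_contra! H
      refine h1 (h.faith g fun z => ?_)
      by_cases e : z = x
      · exact e ▸ h.fix hg
      obtain ⟨a, ha, ha'⟩ := h.two x z y x (Ne.symm e) hy
      have := H _ (ha ▸ h.conj (g := a) hg)
      rw [← ha', mul_smul, mul_smul, inv_smul_smul, smul_left_cancel_iff] at this
      exact this
    have ab : ∀ a ∈ Kc G I x ⊓ stabilizer G y, ∀ b ∈ Kc G I x ⊓ stabilizer G y, a * b = b * a := by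
      intro a ha b hb
      have hmx : m • x ∈ Ln I x y := fun c h1 h2 => by simpa [hm c h2] using h.inv m x c h1
      have my : m • y = y := h.fix hm
      have a'y : (m * a * m⁻¹) • y = y := by
        rw [mul_smul, mul_smul, inv_smul_eq_iff.2 my.symm, ha.2, my]
      have a'x : (m * a * m⁻¹) • x = x :=
        fl (h.conj ha.1) (fun e => hy ((smul_left_cancel_iff m).1 (my.trans e.symm))) a'y
          (by rw [h.ln_eq hy.symm (fun e => hy ((smul_left_cancel_iff m).1 (my.trans e.symm))) hmx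
            (fun _ _ e => e)]; exact fun _ e _ => e)
      have c1 := cm mx (h.conj ha.1) hb.1 a'x (fl hb.1 hy.symm hb.2 hmx)
      have hc : m * (a * m⁻¹ * a⁻¹) ∈ Kc G I y :=
        mul_mem hm ((show a • y = y from ha.2) ▸ h.conj (g := a) (inv_mem hm))
      have c2 := cm hy hc hb.1 (by
        rw [show m * (a * m⁻¹ * a⁻¹) = m * a * m⁻¹ * a⁻¹ by group, mul_smul,
          h.fix (inv_mem ha.1), a'x]) hb.2
      have c3 : Commute (m * (a * m⁻¹ * a⁻¹))⁻¹ b := Commute.inv_left c2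
      have := (c3.mul_left c1).eq
      rwa [show (m * (a * m⁻¹ * a⁻¹))⁻¹ * (m * a * m⁻¹) = a by group] at this
    refine ⟨Kc G I x ⊓ stabilizer G y, inf_le_left, fun a ha => ?_, ?_, fun e => h1 ?_⟩
    · have key : ∀ a ∈ Kc G I x, ∀ n ∈ Kc G I x ⊓ stabilizer G y,
          a * n * a⁻¹ ∈ Kc G I x ⊓ stabilizer G y := fun a ha n hn =>
        mem_inf.2 ⟨mul_mem (mul_mem ha hn.1) (inv_mem ha), by
          rw [mem_stabilizer_iff, mul_smul, mul_smul, fl hn.1 hy.symm hn.2 (kl _ (inv_mem ha)),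
            smul_inv_smul]⟩
      refine mem_normalizer_iff.2 fun n => ⟨key a ha n, fun hn => ?_⟩
      simpa [mul_assoc] using key _ (inv_mem ha) _ hn
    · refine ⟨⟨1, ?_⟩⟩
      rw [Subgroup.upperCentralSeries_one, eq_top_iff']
      exact fun a => mem_center_iff.2 fun b => Subtype.ext (ab _ b.2 _ a.2)
    · exact (eq_bot_iff_forall _).1 e g ⟨hg, gy⟩

/-- Ito: a nontrivial central automorphism gives the O'Nan configuration on points -/
theorem onan [Finite G] {x : X} (hK : Kc G I x ≠ ⊥) : ∃ (p : ℕ) (N : X → Subgroup G), ON p N := by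
  obtain ⟨A, h1, h2, h3, h4⟩ := h.nilp hK
  obtain ⟨M, hM, hM1, hc, hn⟩ := exists_abelian h1 h2 h3 h4
  obtain ⟨⟨g, hg⟩, g1⟩ := (nontrivial_iff_exists_ne 1).1 ((nontrivial_iff_ne_bot _).2 hM1)
  have g1 : g ≠ 1 := fun e => g1 (Subtype.ext e)
  obtain ⟨p, N, hN, -⟩ := ON.of_normal h.faith h.two x M (fun n hn => h.fix (hM hn))
    (fun a ha => hn a (mem_normalizer_iff.2 fun n => ⟨fun e => ha ▸ h.conj (g := a) e, fun e => by
      have := h.conj (g := a⁻¹) e
      rw [inv_smul_eq_iff.2 ha.symm] at this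
      simpa [mul_assoc] using this⟩)) hc ⟨g, hg, g1, h.exists_fix (hM hg) g1⟩
  exact ⟨p, N, hN⟩

end SD

open Classical in
/-- the incidence map on functions -/
noncomputable def Am [Fintype X] (I : X → Ω → Prop) : (X → ℚ) →ₗ[ℚ] (Ω → ℚ) where
  toFun f b := ∑ x, if I x b then f x else 0
  map_add' f g := by
    ext b; simp only [Pi.add_apply, ← Finset.sum_add_distrib]
    exact Finset.sum_congr rfl fun x _ => by split_ifs <;> simp
  map_smul' c f := by
    ext b; simp only [Pi.smul_apply, smul_eq_mul, RingHom.id_apply, Finset.mul_sum]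
    exact Finset.sum_congr rfl fun x _ => by split_ifs <;> simp

open Classical in
theorem Am_ind [Fintype X] (I : X → Ω → Prop) (S : X → Prop) (b : Ω) :
    Am I (fun x => if S x then 1 else 0) b = {x | I x b ∧ S x}.ncard := by
  rw [Set.ncard_eq_toFinset_card', Finset.card_eq_sum_ones]
  simp only [Am, LinearMap.coe_mk, AddHom.coe_mk, ← ite_and, Finset.sum_boole]
  simp

theorem Am_inv [Fintype X] {I : X → Ω → Prop} (inv : ∀ (g : G) x b, I (g • x) (g • b) ↔ I x b)
    {f : X → ℚ} {g : G} (hf : ∀ x, f (g • x) = f x) (b : Ω) : Am I f (g • b) = Am I f b := by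
  classical
  simp only [Am, LinearMap.coe_mk, AddHom.coe_mk]
  rw [← Equiv.sum_comp (MulAction.toPerm g)]
  simp [inv, hf]

theorem card_const {α β : Type*} [Finite β] [MulAction G β] {S : α → Set β} {a b : α} (g : G)
    (h : ∀ x, g • x ∈ S b ↔ x ∈ S a) : (S a).ncard = (S b).ncard := by
  refine Set.ncard_congr (fun x _ => g • x) (fun x hx => (h x).2 hx)
    (fun x y _ _ e => smul_left_cancel g e) fun y hy => ⟨g⁻¹ • y, (h _).1 (by simpa using hy), by simp⟩

/-- the symmetric design of a flag orbit -/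
theorem design [Finite X] [Finite Ω] (hc : Nat.card X = Nat.card Ω) (x0 : X) (a : Ω)
    (trX : ∀ x : X, ∃ g : G, g • x0 = x)
    (two : ∀ a b c d : Ω, a ≠ b → c ≠ d → ∃ g : G, g • a = c ∧ g • b = d)
    (faith : ∀ g : G, (∀ b : Ω, g • b = b) → g = 1)
    (hnt : ∃ b, ∀ g : G, g • x0 = x0 → g • a ≠ b) (hfix : ∀ b : Ω, ∃ g : G, g • x0 = x0 ∧ g • b ≠ b) :
    ∃ k l, SD G (fun (x : X) (b : Ω) => ∃ g : G, g • x0 = x ∧ g • a = b) k l := by
  classical
  haveI := Fintype.ofFinite X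
  haveI := Fintype.ofFinite Ω
  set I := fun (x : X) (b : Ω) => ∃ g : G, g • x0 = x ∧ g • a = b with hI
  have inv' : ∀ (g : G) x b, I x b → I (g • x) (g • b) := by
    rintro g _ _ ⟨s, rfl, rfl⟩
    exact ⟨g * s, mul_smul _ _ _, mul_smul _ _ _⟩
  have inv : ∀ (g : G) x b, I (g • x) (g • b) ↔ I x b := fun g x b =>
    ⟨fun e => by simpa using inv' g⁻¹ _ _ e, inv' g x b⟩
  have i0 : I x0 a := ⟨1, one_smul _ _, one_smul _ _⟩
  obtain ⟨b0, hb0⟩ := hnt
  have n0 : ¬ I x0 b0 := fun ⟨g, h1, h2⟩ => hb0 g h1 h2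
  have ab0 : a ≠ b0 := fun e => n0 (e ▸ i0)
  have trO : ∀ b : Ω, ∃ g : G, g • a = b := fun b => by
    by_cases e : b = a
    · exact ⟨1, by simp [e]⟩
    · obtain ⟨g, hg, -⟩ := two a b b a (Ne.symm e) e
      exact ⟨g, hg⟩
  set k := {b | I x0 b}.ncard
  set r := {x | I x a}.ncard
  set l := {x | I x a ∧ I x b0}.ncard
  have pt : ∀ x, {b | I x b}.ncard = k := fun x => by
    obtain ⟨g, rfl⟩ := trX x
    exact (card_const (S := fun x => {b | I x b}) g fun b => inv g x0 b).symm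
  have blk : ∀ b, {x | I x b}.ncard = r := fun b => by
    obtain ⟨g, rfl⟩ := trO b
    exact (card_const (S := fun b => {x | I x b}) g fun x => inv g x a).symm
  have bb : ∀ b c, b ≠ c → {x | I x b ∧ I x c}.ncard = l := fun b c hbc => by
    obtain ⟨g, rfl, rfl⟩ := two a b0 b c ab0 hbc
    exact (card_const (S := fun p : Ω × Ω => {x | I x p.1 ∧ I x p.2}) (a := (a, b0))
      (b := (g • a, g • b0)) g fun x => and_congr (inv g x a) (inv g x b0)).symm
  have rk : r = k := by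
    have := dcount (Set.univ : Set X) (Set.univ : Set Ω) I k r (by simpa using pt) (by simpa using blk)
    rw [Set.ncard_univ, Set.ncard_univ, hc] at this
    haveI hne : Nonempty Ω := ⟨a⟩
    exact (Nat.eq_of_mul_eq_mul_left Nat.card_pos this).symm
  have kl : l < k := by
    rw [← rk]
    exact Set.ncard_lt_ncard (Set.ssubset_iff_exists.2 ⟨fun x hx => hx.1, x0, i0, fun e => n0 e.2⟩)
  have l1 : 1 ≤ l := by
    obtain ⟨g, h1, h2⟩ := hfix a
    rw [← bb _ _ h2]
    exact (Set.ncard_pos (Set.toFinite _)).2 ⟨x0, ⟨g, h1, rfl⟩, i0⟩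
  rw [rk] at blk
  have hn : (k - l : ℚ) ≠ 0 := sub_ne_zero.2 (by exact_mod_cast kl.ne')
  have hk : (k : ℚ) ≠ 0 := by exact_mod_cast (by omega : k ≠ 0)
  let J : Ω → X → Prop := fun b x => I x b
  let d : Ω → Ω → ℚ := fun b c => if c = b then 1 else 0
  let e : X → X → ℚ := fun b c => if c = b then 1 else 0
  let row : Ω → X → ℚ := fun b x => if I x b then 1 else 0
  let col : X → Ω → ℚ := fun x b => if I x b then 1 else 0
  have A1 : Am I 1 = (k : ℚ) • 1 := by
    ext b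
    have := Am_ind I (fun _ => True) b
    simp only [if_true, and_true, blk] at this
    rw [Pi.smul_apply, Pi.one_apply, smul_eq_mul, mul_one]
    exact this
  have Arow : ∀ b, Am I (row b) = (k - l : ℚ) • d b + (l : ℚ) • 1 := fun b => by
    ext c
    rw [Am_ind I (fun x => I x b) c]
    by_cases h : c = b
    · simp [d, h, blk]
    · simp [d, h, bb c b h]
  have Ae : ∀ x, Am I (e x) = col x := fun x => by
    ext b
    simp only [Am, e, col, LinearMap.coe_mk, AddHom.coe_mk]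
    rw [Finset.sum_eq_single x] <;> simp +contextual
  have surj : Function.Surjective (Am I) := by
    rw [← LinearMap.range_eq_top, eq_top_iff, ← (Pi.basisFun ℚ Ω).span_eq, Submodule.span_le]
    rintro _ ⟨b, rfl⟩
    refine ⟨(k - l : ℚ)⁻¹ • (row b - ((l : ℚ) / k) • 1), ?_⟩
    rw [map_smul, map_sub, map_smul, A1, Arow, smul_smul, div_mul_cancel₀ _ hk, add_sub_cancel_right,
      smul_smul, inv_mul_cancel₀ hn, one_smul]
    ext c; simp [d, Pi.single_apply]
  have inj : Function.Injective (Am I) :=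
    (LinearMap.injective_iff_surjective_of_finrank_eq_finrank (by
      simpa [Nat.card_eq_fintype_card] using hc)).2 surj
  have pp : ∀ x y, x ≠ y → {b | I x b ∧ I y b}.ncard = l := fun x y hxy => by
    have : Am I (Am J (col x)) = Am I ((k - l : ℚ) • e x + (l : ℚ) • 1) := by
      have h1 : Am J (col x) = ∑ b, col x b • row b := by
        ext y
        simp only [Am, J, row, LinearMap.coe_mk, AddHom.coe_mk, Finset.sum_apply, Pi.smul_apply]
        exact Finset.sum_congr rfl fun b _ => by split_ifs <;> simp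
      have h2 : ∑ b, col x b = k := by
        rw [← pt x, Set.ncard_eq_toFinset_card']; simp [col]
      rw [h1, map_sum, map_add, map_smul, map_smul, Ae, A1]
      simp only [map_smul, Arow, smul_add, Finset.sum_add_distrib, ← Finset.sum_smul, h2]
      ext c
      simp [d, Finset.sum_apply, mul_comm]
    have := congrFun (inj this) y
    rw [Am_ind J (fun b => I x b) y] at this
    simp only [e, J, Pi.add_apply, Pi.smul_apply, if_neg hxy.symm, smul_eq_mul, mul_zero,
      Pi.one_apply, mul_one, zero_add, Nat.cast_inj] at this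
    rw [← this]; simp only [and_comm]
  have anti' : ∀ b x y, ¬ I x b → ¬ I y b → ∃ g : G, g • b = b ∧ g • x = y := fun b x y hx hy => by
    let f : X → ℚ := fun z => if ∃ g : G, g • b = b ∧ g • x = z then 1 else 0
    obtain ⟨c, hc⟩ : ∃ c, c ≠ b := by
      by_cases e : a = b
      · exact ⟨b0, e ▸ ab0.symm⟩
      · exact ⟨a, e⟩
    have h1 : Am I f = (Am I f b - Am I f c) • d b + Am I f c • 1 := by
      ext c'
      by_cases e : c' = b
      · simp [d, e]
      · obtain ⟨g, h1, rfl⟩ := two b c b c' hc.symm (Ne.symm e)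
        rw [Am_inv inv fun z => ?_]
        · simp [d, e]
        · refine if_congr ⟨fun ⟨s, h2, h3⟩ => ⟨g⁻¹ * s, ?_, ?_⟩, fun ⟨s, h2, h3⟩ => ⟨g * s, ?_, ?_⟩⟩ rfl rfl
          · rw [mul_smul, h2, inv_smul_eq_iff, h1]
          · rw [mul_smul, h3, inv_smul_smul]
          · rw [mul_smul, h2, h1]
          · rw [mul_smul, h3]
    set α := Am I f b - Am I f c
    set β := Am I f c
    have h2 : f = (α / (k - l)) • row b + ((β - α * l / (k - l)) / k) • 1 := inj (by
      rw [h1, map_add, map_smul, map_smul, Arow, A1]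
      ext c'
      simp only [Pi.add_apply, Pi.smul_apply, smul_eq_mul, Pi.one_apply]
      field_simp
      ring)
    have h3 : f y = f x := by rw [h2]; simp [row, hx, hy]
    by_contra H
    simp only [f, if_neg H, if_pos (⟨1, by simp, by simp⟩ : ∃ g : G, g • b = b ∧ g • x = x)] at h3
    exact zero_ne_one h3
  have anti : ∀ x b c, ¬ I x b → ¬ I x c → ∃ g : G, g • x = x ∧ g • b = c := fun x b c hb hc => by
    obtain ⟨s, hs⟩ := trO b
    obtain ⟨t, ht⟩ := trO c
    obtain ⟨g, h1, h2⟩ := anti' a (s⁻¹ • x) (t⁻¹ • x) (fun e => hb (by simpa [hs] using inv' s _ _ e))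
      (fun e => hc (by simpa [ht] using inv' t _ _ e))
    exact ⟨t * g * s⁻¹, by simp [mul_smul, h2], by simp [mul_smul, ← hs, h1, ht]⟩
  have off : ∀ x, ∃ b c, b ≠ c ∧ ¬ I x b ∧ ¬ I x c := fun x => by
    obtain ⟨s, rfl⟩ := trX x
    obtain ⟨g, h1, h2⟩ := hfix b0
    exact ⟨s • g • b0, s • b0, fun e => h2 (smul_left_cancel s e),
      fun e => n0 ((inv g _ _).1 (by rw [h1]; exact (inv s _ _).1 e)), fun e => n0 ((inv s _ _).1 e)⟩
  have two0 : ∀ y z, x0 ≠ y → x0 ≠ z → ∃ g : G, g • x0 = x0 ∧ g • y = z := fun y z hy hz => by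
    let f : X → ℚ := fun w => if ∃ g : G, g • x0 = x0 ∧ g • y = w then 1 else 0
    have fi : ∀ g : G, g • x0 = x0 → ∀ b, Am I f (g • b) = Am I f b := fun g h1 =>
      Am_inv inv fun z => by
        refine if_congr ⟨fun ⟨s, h2, h3⟩ => ⟨g⁻¹ * s, ?_, ?_⟩, fun ⟨s, h2, h3⟩ => ⟨g * s, ?_, ?_⟩⟩ rfl rfl
        · rw [mul_smul, h2, inv_smul_eq_iff, h1]
        · rw [mul_smul, h3, inv_smul_smul]
        · rw [mul_smul, h2, h1]
        · rw [mul_smul, h3]
    have h1 : Am I f = (Am I f a - Am I f b0) • col x0 + Am I f b0 • 1 := by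
      ext c
      by_cases e : I x0 c
      · obtain ⟨g, h1, rfl⟩ := id e
        simp [col, e, fi g h1]
      · obtain ⟨g, h1, rfl⟩ := anti x0 b0 c n0 e
        simp [col, e, fi g h1]
    have h2 : f = (Am I f a - Am I f b0) • e x0 + (Am I f b0 / k) • 1 := inj (by
      rw [map_add, map_smul, map_smul, Ae, A1, smul_smul, div_mul_cancel₀ _ hk, ← h1])
    have h3 : f z = f y := by rw [h2]; simp [e, hy.symm, hz.symm]
    by_contra H
    simp only [f, if_neg H, if_pos (⟨1, by simp, by simp⟩ : ∃ g : G, g • x0 = x0 ∧ g • y = y)] at h3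
    exact zero_ne_one h3
  refine ⟨k, l, inv', fun x y z w hxy hzw => ?_, anti, fun g hg => faith g fun b => ?_, faith, blk,
    pt, pp, bb, l1, kl, off⟩
  · obtain ⟨s, rfl⟩ := trX x
    obtain ⟨t, rfl⟩ := trX z
    obtain ⟨g, h1, h2⟩ := two0 (s⁻¹ • y) (t⁻¹ • w) (fun e => hxy (by simp [e])) (fun e => hzw (by simp [e]))
    exact ⟨t * g * s⁻¹, by simp [mul_smul, h1], by simp [mul_smul, h2]⟩
  · by_contra e
    have := bb _ _ e
    rw [show {x | I x (g • b) ∧ I x b} = {x | I x b} from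
      Set.ext fun x => ⟨fun e => e.2, fun e => ⟨by simpa [hg] using inv' g x b e, e⟩⟩, blk] at this
    omega

/-- Ito's theorem -/
theorem main [Finite G] [FaithfulSMul G Ω] [Finite Ω] (h2 : IsMultiplyPretransitive G Ω 2)
    (H : Subgroup G) (hidx : H.index = Nat.card Ω) (hnt : ¬ IsPretransitive H Ω)
    (hfix : ∀ a : Ω, ∃ h : H, h • a ≠ a)
    (hunf : ∃ a : Ω, ∃ h : H, h ≠ 1 ∧ ∀ b ∈ orbit H a, h • b = b) :
    ∃ (m : ℕ) (F : Type) (_ : Field F) (_ : Fintype F), 2 ≤ m ∧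
      Nat.card Ω = (Fintype.card F ^ (m + 1) - 1) / (Fintype.card F - 1) ∧
      ∃ N : Subgroup G, N.Normal ∧
        Nonempty (N ≃* Matrix.ProjectiveSpecialLinearGroup (Fin (m + 1)) F) ∧
        centralizer (N : Set G) = ⊥ := by
  obtain ⟨a, g, g1, hg⟩ := hunf
  have st : ∀ g : G, g • ((1 : G) : G ⧸ H) = ((1 : G) : G ⧸ H) ↔ g ∈ H := fun g => by
    rw [← mem_stabilizer_iff, stabilizer_quotient]
  obtain ⟨k, l, h⟩ := design (G := G) (X := G ⧸ H) hidx ((1 : G) : G ⧸ H) a
    (fun x => exists_smul_eq G _ x) (fun a b c d => is_two_pretransitive_iff.1 h2)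
    (fun g hg => FaithfulSMul.eq_of_smul_eq_smul (α := Ω) (by simpa using hg))
    (by
      by_contra! K
      refine hnt ⟨fun b c => ?_⟩
      obtain ⟨s, h1, rfl⟩ := K b
      obtain ⟨t, h2, rfl⟩ := K c
      exact ⟨⟨t * s⁻¹, mul_mem ((st t).1 h2) (inv_mem ((st s).1 h1))⟩, by simp [mul_smul]⟩)
    (fun b => by
      obtain ⟨s, hs⟩ := hfix b
      exact ⟨s, (st s).2 s.2, hs⟩)
  obtain ⟨p, N, hN⟩ := h.onan (x := ((1 : G) : G ⧸ H)) (fun e => g1 (Subtype.ext
    ((eq_bot_iff_forall _).1 e g fun b ⟨s, h1, h2⟩ => hg b ⟨⟨s, (st s).1 h1⟩, h2⟩)))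
  haveI : Nontrivial (G ⧸ H) := by
    rw [← Finite.one_lt_card_iff_nontrivial, ← index, hidx, Finite.one_lt_card_iff_nontrivial]
    obtain ⟨s, hs⟩ := hfix a
    exact ⟨_, _, hs⟩
  rw [← hidx]
  exact hN.main

end Ito
end H05
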