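import Mathlib
import Cfsg.Agent.H18.Prim
import Cfsg.Agent.H18.Basic
import Cfsg.Agent.H10.Perm

/-!
Jordan sets of permutation groups (namespace `H05`).
* `Jd G Γ` : the pointwise stabiliser of `Γᶜ` is transitive on `Γ`; `Jd.tr`, `Jd.union`, `jd_iff`, `Jd.two_trans`
* `prim_range`, `alt_le_of_meet` : two elements whose supports meet in one point
* `exists_count` : counting group elements of a doubly transitive group
* `Jd.three_trans` : Marggraf (i), `Jd.homog`, `Jd.alt_le` : Marggraf (ii)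
* `Jd.prim_of_quasi`, `Jd.prim_of_quasi'` : quasiprimitive groups with a Jordan set
-/

set_option autoImplicit false

namespace H05

open MulAction

universe u v

variable {G Ω : Type*} [Group G] [MulAction G Ω]

/-- Jordan set -/
def Jd (G : Type*) {Ω : Type*} [Group G] [MulAction G Ω] (Γ : Set Ω) : Prop :=
  ∀ x ∈ Γ, ∀ y ∈ Γ, ∃ g : G, (∀ z ∉ Γ, g • z = z) ∧ g • x = y

/-- the translate `g⁻¹ Γ` -/
def tr (g : G) (Γ : Set Ω) : Set Ω := {x | g • x ∈ Γ}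

@[simp] theorem mem_tr {g : G} {Γ : Set Ω} {x : Ω} : x ∈ tr g Γ ↔ g • x ∈ Γ := Iff.rfl

theorem tr_tr (g h : G) (Γ : Set Ω) : tr h (tr g Γ) = tr (g * h) Γ := by ext; simp [mul_smul]

@[simp] theorem tr_one (Γ : Set Ω) : tr (1 : G) Γ = Γ := by ext; simp

theorem ncard_tr (g : G) (Γ : Set Ω) : (tr g Γ).ncard = Γ.ncard :=
  Set.ncard_preimage_of_injective_subset_range (f := fun x => g • x) (MulAction.injective g)
    (by rw [(MulAction.surjective g).range_eq]; exact Set.subset_univ _)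

theorem smul_mem_of_fix {g : G} {Γ : Set Ω} (h : ∀ z ∉ Γ, g • z = z) {x : Ω} : g • x ∈ Γ ↔ x ∈ Γ := by
  constructor
  · intro hx; by_contra hc; rw [h x hc] at hx; exact hc hx
  · intro hx; by_contra hc; have := smul_left_cancel g (h _ hc); rw [this] at hc; exact hc hx

theorem fix_inv {g : G} {Γ : Set Ω} (h : ∀ z ∉ Γ, g • z = z) : ∀ z ∉ Γ, g⁻¹ • z = z :=
  fun z hz => inv_smul_eq_iff.2 (h z hz).symm

theorem Jd.tr {Γ : Set Ω} (h : Jd G Γ) (g : G) : Jd G (tr g Γ) := by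
  intro x hx y hy
  obtain ⟨k, h1, h2⟩ := h _ hx _ hy
  refine ⟨g⁻¹ * k * g, fun z hz => ?_, ?_⟩
  · rw [mul_smul, mul_smul, h1 _ hz, inv_smul_smul]
  · rw [mul_smul, mul_smul, h2, inv_smul_smul]

theorem Jd.union {Γ Δ : Set Ω} (h : Jd G Γ) (h' : Jd G Δ) {a : Ω} (ha : a ∈ Γ) (ha' : a ∈ Δ) : Jd G (Γ ∪ Δ) := by
  have key : ∀ x ∈ Γ ∪ Δ, ∃ g : G, (∀ z ∉ Γ ∪ Δ, g • z = z) ∧ g • a = x := by
    rintro x (hx | hx)
    · obtain ⟨g, h1, h2⟩ := h a ha x hx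
      exact ⟨g, fun z hz => h1 z fun e => hz (Or.inl e), h2⟩
    · obtain ⟨g, h1, h2⟩ := h' a ha' x hx
      exact ⟨g, fun z hz => h1 z fun e => hz (Or.inr e), h2⟩
  intro x hx y hy
  obtain ⟨g, h1, rfl⟩ := key x hx
  obtain ⟨k, k1, rfl⟩ := key y hy
  exact ⟨k * g⁻¹, fun z hz => by rw [mul_smul, fix_inv h1 z hz, k1 z hz], by rw [mul_smul, inv_smul_smul]⟩

theorem jd_iff {Γ : Set Ω} :
    Jd G Γ ↔ IsPretransitive (fixingSubgroup G Γᶜ) (SubMulAction.ofFixingSubgroup G Γᶜ) := by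
  constructor
  · intro h
    refine ⟨fun x y => ?_⟩
    obtain ⟨g, h1, h2⟩ := h x (not_not.1 x.2) y (not_not.1 y.2)
    exact ⟨⟨g, (mem_fixingSubgroup_iff G).2 h1⟩, Subtype.ext h2⟩
  · intro h x hx y hy
    obtain ⟨g, e⟩ := h.exists_smul_eq ⟨x, not_not.2 hx⟩ ⟨y, not_not.2 hy⟩
    exact ⟨g, (mem_fixingSubgroup_iff G).1 g.2, congrArg Subtype.val e⟩

theorem Jd.two_trans [Finite Ω] (hG : IsPreprimitive G Ω) {Γ : Set Ω} (h : Jd G Γ) (h1 : 1 < Γ.ncard)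
    (h2 : Γ.ncard < Nat.card Ω) : IsMultiplyPretransitive G Ω 2 := by
  have := Set.ncard_add_ncard_compl Γ
  exact hG.is_two_pretransitive (s := Γᶜ) (n := Nat.card Ω - Γ.ncard - 1) (by omega) (by omega) (jd_iff.1 h)

theorem prim_range (hG : IsPreprimitive G Ω) : IsPreprimitive (toPermHom G Ω).range Ω := by
  have : IsPretransitive (toPermHom G Ω).range Ω := ⟨fun x y => by
    obtain ⟨g, rfl⟩ := hG.toIsPretransitive.exists_smul_eq x y
    exact ⟨⟨_, g, rfl⟩, rfl⟩⟩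
  exact H18.prim_of_rel fun r hr hi a b hab h => H18.prim_rel hG r hr (fun g => hi ⟨_, g, rfl⟩) hab h

theorem alt_le_of_meet [Fintype Ω] [DecidableEq Ω] (hG : IsPreprimitive G Ω) {g h : G} {a : Ω} (hg : g • a ≠ a)
    (hh : h • a ≠ a) (hd : ∀ x, x ≠ a → g • x = x ∨ h • x = x) : alternatingGroup Ω ≤ (toPermHom G Ω).range :=
  Equiv.Perm.alternatingGroup_le_of_isPreprimitive_of_isThreeCycle_mem (prim_range hG)
    (H10.isThreeCycle_commutator (g := toPermHom G Ω g) (h := toPermHom G Ω h) hg hh hd)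
    ⟨g * h * g⁻¹ * h⁻¹, by simp only [map_mul, map_inv]⟩

theorem prim_of_two (h2 : IsMultiplyPretransitive G Ω 2) [IsPretransitive G Ω] : IsPreprimitive G Ω :=
  H18.prim_of_rel fun r hr hi a b hab h x y => by
    by_cases e : x = y
    · exact e ▸ hr.refl x
    · obtain ⟨g, rfl, rfl⟩ := H18.mt_two_iff.1 h2 a b x y hab e
      exact hi g _ _ h

theorem exists_count [Fintype G] [DecidableEq Ω] (h2 : IsMultiplyPretransitive G Ω 2) :
    ∃ s, 0 < s ∧ ∀ a b : Ω, a ≠ b → ∀ P : Finset (Ω × Ω), (∀ p ∈ P, p.1 ≠ p.2) →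
      (Finset.univ.filter fun g : G => (g • a, g • b) ∈ P).card = s * P.card := by
  classical
  by_cases hn : ∃ a b : Ω, a ≠ b
  swap
  · exact ⟨1, one_pos, fun a b h => absurd ⟨a, b, h⟩ hn⟩
  obtain ⟨a₀, b₀, h₀⟩ := hn
  let N : Ω → Ω → Ω → Ω → Finset G := fun a b c d => Finset.univ.filter fun g => g • a = c ∧ g • b = d
  have hN : ∀ a b c d, a ≠ b → c ≠ d → (N a b c d).card = (N a₀ b₀ a₀ b₀).card := by
    intro a b c d hab hcd
    obtain ⟨k, rfl, rfl⟩ := H18.mt_two_iff.1 h2 a₀ b₀ a b h₀ hab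
    obtain ⟨l, rfl, rfl⟩ := H18.mt_two_iff.1 h2 a₀ b₀ c d h₀ hcd
    refine Finset.card_bij' (fun g _ => l⁻¹ * g * k) (fun g _ => l * g * k⁻¹) (fun g hg => ?_) (fun g hg => ?_)
      (fun g _ => by group) (fun g _ => by group)
    · simp only [N, Finset.mem_filter, Finset.mem_univ, true_and] at hg ⊢
      simp [mul_smul, hg.1, hg.2]
    · simp only [N, Finset.mem_filter, Finset.mem_univ, true_and] at hg ⊢
      simp [mul_smul, hg.1, hg.2]
  refine ⟨(N a₀ b₀ a₀ b₀).card, Finset.card_pos.2 ⟨1, by simp [N]⟩, fun a b hab P hP => ?_⟩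
  rw [Finset.card_eq_sum_card_fiberwise (t := P) (f := fun g : G => (g • a, g • b)) (fun g hg => by simpa using hg),
    mul_comm, ← smul_eq_mul, ← Finset.sum_const]
  refine Finset.sum_congr rfl fun p hp => ?_
  rw [← hN a b p.1 p.2 hab (hP p hp)]
  congr 1
  ext g
  simp only [N, Finset.mem_filter, Finset.mem_univ, true_and, Prod.ext_iff]
  exact ⟨fun h => h.2, fun h => ⟨by rw [h.1, h.2]; exact hp, h⟩⟩

theorem Jd.stab_rel [Finite G] [Finite Ω] (h2 : IsMultiplyPretransitive G Ω 2) {Γ : Set Ω} (h : Jd G Γ) (h1 : 1 < Γ.ncard)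
    (hn : 2 * Γ.ncard ≤ Nat.card Ω) {α : Ω} (r : Ω → Ω → Prop) (r0 : ∀ x y, r x y → y ≠ α) (r1 : ∀ x, x ≠ α → r x x)
    (r2 : ∀ x y, r x y → r y x) (r3 : ∀ x y z, r x y → r y z → r x z)
    (ri : ∀ g : G, g • α = α → ∀ x y, r x y → r (g • x) (g • y)) {a b : Ω} (hab : a ≠ b) (hr : r a b) :
    ∀ x y, x ≠ α → y ≠ α → r x y := by
  classical
  have := Fintype.ofFinite G
  have := Fintype.ofFinite Ω
  by_contra hc
  push Not at hc
  obtain ⟨x, y, hx, hy, hxy⟩ := hc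
  obtain ⟨s, hs, hcnt⟩ := exists_count h2
  have hcl : ∀ u w, u ≠ α → w ≠ α → {z | r u z}.ncard ≤ {z | r w z}.ncard := by
    intro u w hu hw
    obtain ⟨g, g1, rfl⟩ := H18.mt_two_iff.1 h2 α u α w hu.symm hw.symm
    exact Set.ncard_le_ncard_of_injOn (fun z => g • z) (fun z hz => ri g g1 _ _ hz) (MulAction.injective g).injOn
  let F := Γ.toFinset
  have hF : F.card = Γ.ncard := (Set.ncard_eq_toFinset_card' Γ).symm
  have hoff : ∀ p ∈ F.offDiag, p.1 ≠ p.2 := fun p hp => (Finset.mem_offDiag.1 hp).2.2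
  by_cases hA : ∃ (g : G) (u w : Ω), g • α ∉ Γ ∧ g • u ∈ Γ ∧ g • w ∉ Γ ∧ r u w
  · obtain ⟨g, u, w, g1, g2, g3, g4⟩ := hA
    have big : ∀ z, z ≠ α → Γ.ncard < {t | r z t}.ncard := by
      intro z hz
      refine lt_of_lt_of_le ?_ (hcl w z (r0 _ _ g4) hz)
      rw [← ncard_tr g]
      refine Set.ncard_lt_ncard ⟨fun t ht => ?_, fun e => g3 (e (r1 w (r0 _ _ g4)))⟩
      obtain ⟨k, k1, rfl⟩ := h.tr g u g2 t ht
      have := ri k (k1 α g1) _ _ (r2 _ _ g4)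
      rwa [k1 w g3] at this
    have ins : ∀ (k : G) (z t : Ω), z ≠ α → k • z ∈ Γ → k • t ∈ Γ → ¬ r z t → k • α ∈ Γ := by
      intro k z t hz h1 h2 h3
      by_contra hα
      have h4 := big z hz
      rw [← ncard_tr k] at h4
      refine h4.not_ge (Set.ncard_le_ncard fun v hv => ?_)
      by_contra hv'
      obtain ⟨l, l1, rfl⟩ := h.tr k z h1 t h2
      have := ri l (l1 α hα) _ _ hv
      rw [l1 v hv'] at this
      exact h3 (r3 _ _ _ hv (r2 _ _ this))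
    have all : ∀ (k : G) (t : Ω), t ≠ α → ¬ r x t → k • x ∈ Γ → k • α ∈ Γ → k • t ∈ Γ := by
      intro k t ht hxt k1 k2
      have hne : x ≠ t := fun e => hxt (e ▸ r1 x hx)
      have e := Finset.eq_of_subset_of_card_le (s := Finset.univ.filter fun g : G => (g • x, g • t) ∈ F.offDiag)
        (t := Finset.univ.filter fun g : G => (g • x, g • α) ∈ F.offDiag) (fun l hl => by
          simp only [F, Finset.mem_filter, Finset.mem_univ, true_and, Finset.mem_offDiag, Set.mem_toFinset] at hl ⊢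
          exact ⟨hl.1, ins l x t hx hl.1 hl.2.1 hxt, fun e => hx (smul_left_cancel l e)⟩)
        (by rw [hcnt _ _ hne _ hoff, hcnt _ _ hx _ hoff])
      have : k ∈ Finset.univ.filter fun g : G => (g • x, g • α) ∈ F.offDiag := by
        simp only [F, Finset.mem_filter, Finset.mem_univ, true_and, Finset.mem_offDiag, Set.mem_toFinset]
        exact ⟨k1, k2, fun e => hx (smul_left_cancel k e)⟩
      rw [← e] at this
      simp only [F, Finset.mem_filter, Finset.mem_univ, true_and, Finset.mem_offDiag, Set.mem_toFinset] at this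
      exact this.2.1
    obtain ⟨c, hc, d, hd, hcd⟩ := (Set.one_lt_ncard (Set.toFinite Γ)).1 h1
    obtain ⟨k, rfl, rfl⟩ := H18.mt_two_iff.1 h2 x α c d hx hcd
    have h4 := big y hy
    rw [← ncard_tr k] at h4
    exact h4.not_ge (Set.ncard_le_ncard fun v hv => all k v (r0 _ _ hv) (fun e => hxy (r3 _ _ _ e (r2 _ _ hv))) hc hd)
  · push Not at hA
    have ha : a ≠ α := r0 _ _ (r2 _ _ hr)
    have := Finset.card_le_card (s := Finset.univ.filter fun g : G => (g • a, g • α) ∈ F ×ˢ Fᶜ)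
      (t := Finset.univ.filter fun g : G => (g • a, g • b) ∈ F.offDiag) (fun l hl => by
        simp only [F, Finset.mem_filter, Finset.mem_univ, true_and, Finset.mem_offDiag, Set.mem_toFinset,
          Finset.mem_product, Finset.mem_compl] at hl ⊢
        exact ⟨hl.1, by_contra fun e => hA l a b hl.2 hl.1 e hr, fun e => hab (smul_left_cancel l e)⟩)
    rw [hcnt _ _ hab _ hoff, hcnt _ _ ha _ (fun p hp e => by
      rw [Finset.mem_product, Finset.mem_compl, e] at hp; exact hp.2 hp.1), Finset.card_product, Finset.offDiag_card,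
      Finset.card_compl, hF, ← Nat.card_eq_fintype_card] at this
    have h5 := Nat.le_of_mul_le_mul_left this hs
    have h6 : Γ.ncard * Γ.ncard ≤ Γ.ncard * (Nat.card Ω - Γ.ncard) := Nat.mul_le_mul_left _ (by omega)
    have h7 : Γ.ncard ≤ Γ.ncard * Γ.ncard := Nat.le_mul_self _
    omega

theorem Jd.three_trans [Finite G] [Finite Ω] (hG : IsPreprimitive G Ω) {Γ : Set Ω} (h : Jd G Γ) (h1 : 1 < Γ.ncard)
    (hn : 2 * Γ.ncard ≤ Nat.card Ω) : IsMultiplyPretransitive G Ω 3 := by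
  have := hG.toIsPretransitive
  have h2 := h.two_trans hG h1 (by omega)
  obtain ⟨α, hα⟩ : ∃ α, α ∉ Γ := by
    by_contra hc
    push Not at hc
    rw [Set.eq_univ_of_forall hc, Set.ncard_univ] at h1 hn
    omega
  rw [SubMulAction.ofStabilizer.isMultiplyPretransitive (a := α)]
  have ht : IsPretransitive (stabilizer G α) (SubMulAction.ofStabilizer G α) := by
    rw [← is_one_pretransitive_iff, ← SubMulAction.ofStabilizer.isMultiplyPretransitive]; exact h2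
  have hp : IsPreprimitive (stabilizer G α) (SubMulAction.ofStabilizer G α) := by
    refine H18.prim_of_rel fun r hr hi a b hab hrab x y => ?_
    obtain ⟨_, _, e⟩ := h.stab_rel h2 h1 hn (α := α) (fun x y => ∃ hx hy, r ⟨x, hx⟩ ⟨y, hy⟩) (fun x y e => e.2.1)
      (fun x hx => ⟨hx, hx, hr.refl _⟩) (fun x y ⟨hx, hy, e⟩ => ⟨hy, hx, hr.symm e⟩)
      (fun x y z ⟨hx, _, e⟩ ⟨_, hz, e'⟩ => ⟨hx, hz, hr.trans e e'⟩)
      (fun g hg x y ⟨hx, hy, e⟩ => ⟨_, _, hi ⟨g, hg⟩ _ _ e⟩) (a := a) (b := b) (fun e => hab (Subtype.ext e))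
      ⟨a.2, b.2, hrab⟩ x y x.2 y.2
    exact e
  have hc : (Subtype.val ⁻¹' Γ : Set (SubMulAction.ofStabilizer G α)).ncard = Γ.ncard :=
    Set.ncard_preimage_of_injective_subset_range Subtype.val_injective fun x hx => ⟨⟨x, fun e => hα (e ▸ hx)⟩, rfl⟩
  refine Jd.two_trans hp (Γ := Subtype.val ⁻¹' Γ) (fun x hx y hy => ?_) (by omega) ?_
  · obtain ⟨g, g1, g2⟩ := h x hx y hy
    exact ⟨⟨g, g1 α hα⟩, fun z hz => Subtype.ext (g1 z hz), Subtype.ext g2⟩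
  · have := SubMulAction.nat_card_ofStabilizer_add_one_eq G α
    omega

theorem Jd.move [Finite Ω] {Δ : Set Ω} (h' : Jd G Δ) (n : ℕ) : ∀ {Γ : Set Ω}, Jd G Γ → (Γ ∪ Δ).ncard = n →
    Γ.ncard = Δ.ncard → (Γ ∩ Δ).Nonempty → ∃ k : G, (∀ z ∉ Γ ∪ Δ, k • z = z) ∧ H05.tr k Γ = Δ := by
  induction n using Nat.strong_induction_on with
  | _ n ih =>
  intro Γ h hn hc ⟨a, ha, ha'⟩
  by_cases e : Γ = Δ
  · exact ⟨1, fun z _ => one_smul _ _, by rw [tr_one, e]⟩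
  obtain ⟨c, hc1, hc2⟩ : ∃ c ∈ Γ, c ∉ Δ := Set.not_subset.1 fun hs => e (Set.eq_of_subset_of_ncard_le hs hc.ge)
  obtain ⟨d, hd1, hd2⟩ : ∃ d ∈ Δ, d ∉ Γ := Set.not_subset.1 fun hs => e (Set.eq_of_subset_of_ncard_le hs hc.le).symm
  obtain ⟨k, k1, k2⟩ := h.union h' ha ha' c (Or.inl hc1) d (Or.inr hd1)
  have hs : H05.tr k Γ ∪ Δ ⊆ Γ ∪ Δ := Set.union_subset (fun x hx => (smul_mem_of_fix k1).1 (Or.inl hx)) Set.subset_union_right
  have hlt : (H05.tr k Γ ∪ Δ).ncard < n := by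
    rw [← hn]
    refine Set.ncard_lt_ncard ⟨hs, fun hh => ?_⟩
    rcases hh (Or.inl hc1) with e | e
    · rw [mem_tr, k2] at e; exact hd2 e
    · exact hc2 e
  obtain ⟨l, l1, l2⟩ := ih _ hlt (h.tr k) rfl (by rw [ncard_tr, hc]) (by
    have h1 := Set.ncard_union_add_ncard_inter (H05.tr k Γ) Δ
    have h2 := Set.ncard_union_add_ncard_inter Γ Δ
    rw [ncard_tr] at h1
    exact Set.nonempty_of_ncard_ne_zero (by omega))
  exact ⟨k * l, fun z hz => by rw [mul_smul, l1 z fun e => hz (hs e), k1 z hz], by rw [← tr_tr, l2]⟩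

/-- setwise stabiliser -/
def stb (G : Type*) {Ω : Type*} [Group G] [MulAction G Ω] (Γ : Set Ω) : Subgroup G where
  carrier := {g | tr g Γ = Γ}
  one_mem' := tr_one Γ
  mul_mem' := fun {a b} ha hb => by
    change tr (a * b) Γ = Γ
    rw [← tr_tr, ha, hb]
  inv_mem' := fun {a} ha => by
    change tr a⁻¹ Γ = Γ
    conv_lhs => rw [← ha, tr_tr, mul_inv_cancel, tr_one]

theorem mem_stb {Γ : Set Ω} {g : G} : g ∈ stb G Γ ↔ tr g Γ = Γ := Iff.rfl

theorem stb_smul {Γ : Set Ω} {g : G} (h : g ∈ stb G Γ) {x : Ω} : g • x ∈ Γ ↔ x ∈ Γ := by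
  rw [← mem_tr, mem_stb.1 h]

/-- the complement of `Γ` as a `stb G Γ`-set -/
def cpl (G : Type*) {Ω : Type*} [Group G] [MulAction G Ω] (Γ : Set Ω) : SubMulAction (stb G Γ) Ω where
  carrier := Γᶜ
  smul_mem' := fun g _ hx e => hx ((stb_smul g.2).1 e)

theorem Jd.cpl_two [Finite Ω] (h3 : IsMultiplyPretransitive G Ω 3) {Γ : Set Ω} (h : Jd G Γ) (h1 : Γ.Nonempty) :
    IsMultiplyPretransitive (stb G Γ) (cpl G Γ) 2 := by
  obtain ⟨u, hu⟩ := h1
  refine H18.mt_two_iff.2 fun a b c d hab hcd => ?_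
  have ne : ∀ x : cpl G Γ, (x : Ω) ≠ u := fun x e => x.2 (e ▸ hu)
  obtain ⟨g, g1, g2, g3⟩ := H18.mt_three_iff.1 h3 a b u c d u (fun e => hab (Subtype.ext e)) (ne a) (ne b)
    (fun e => hcd (Subtype.ext e)) (ne c) (ne d)
  obtain ⟨k, k1, k2⟩ := h.move _ (h.tr g) rfl (ncard_tr _ _) ⟨u, by rw [mem_tr, g3]; exact hu, hu⟩
  rw [tr_tr] at k2
  refine ⟨⟨g * k, k2⟩, Subtype.ext ?_, Subtype.ext ?_⟩
  · change (g * k) • (a : Ω) = c
    rw [mul_smul, k1, g1]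
    rintro (e | e)
    · rw [mem_tr, g1] at e; exact c.2 e
    · exact a.2 e
  · change (g * k) • (b : Ω) = d
    rw [mul_smul, k1, g2]
    rintro (e | e)
    · rw [mem_tr, g2] at e; exact d.2 e
    · exact b.2 e

theorem card_mul_le_of_disj {ι : Type*} [Finite Ω] (I : Finset ι) (f : ι → Set Ω) (A : Set Ω) (c : ℕ)
    (h1 : ∀ i ∈ I, (f i).ncard = c) (h2 : ∀ i ∈ I, f i ⊆ A) (h3 : ∀ i ∈ I, ∀ j ∈ I, i ≠ j → Disjoint (f i) (f j)) :
    I.card * c ≤ A.ncard := by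
  classical
  induction I using Finset.induction_on generalizing A with
  | empty => simp
  | insert a s ha ih =>
    have := ih (A \ f a) (fun i hi => h1 i (Finset.mem_insert_of_mem hi)) (fun i hi => Set.subset_sdiff.2
      ⟨h2 i (Finset.mem_insert_of_mem hi), h3 i (Finset.mem_insert_of_mem hi) a (Finset.mem_insert_self _ _)
        fun e => ha (e ▸ hi)⟩) (fun i hi j hj => h3 i (Finset.mem_insert_of_mem hi) j (Finset.mem_insert_of_mem hj))
    have h4 := Set.ncard_sdiff_add_ncard_of_subset (h2 a (Finset.mem_insert_self _ _))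
    rw [h1 a (Finset.mem_insert_self _ _)] at h4
    rw [Finset.card_insert_of_notMem ha, add_mul]
    omega

theorem homog_of_swap [Finite Ω] {Γ : Set Ω} (h : ∀ y ∈ Γ, ∀ x ∉ Γ, ∃ g : G, tr g Γ = insert x (Γ \ {y}))
    (S : Set Ω) (hS : S.ncard = Γ.ncard) : ∃ g : G, tr g Γ = S := by
  suffices ∀ (n : ℕ) (g : G), (S \ tr g Γ).ncard = n → ∃ g : G, tr g Γ = S from this _ 1 rfl
  intro n
  induction n using Nat.strong_induction_on with
  | _ n ih =>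
  intro g hn
  by_cases e : tr g Γ = S
  · exact ⟨g, e⟩
  have hc : (tr g Γ).ncard = S.ncard := by rw [ncard_tr, hS]
  obtain ⟨c, hc1, hc2⟩ : ∃ c ∈ tr g Γ, c ∉ S := Set.not_subset.1 fun hs => e (Set.eq_of_subset_of_ncard_le hs hc.ge)
  obtain ⟨d, hd1, hd2⟩ : ∃ d ∈ S, d ∉ tr g Γ := Set.not_subset.1 fun hs => e (Set.eq_of_subset_of_ncard_le hs hc.le).symm
  obtain ⟨k, hk⟩ := h _ hc1 _ hd2
  refine ih _ ?_ (k * g) rfl
  rw [← hn, ← tr_tr, hk]
  refine Set.ncard_lt_ncard ⟨fun x hx => ⟨hx.1, fun e => hx.2 (Or.inr ⟨e, fun e' => hc2 ?_⟩)⟩, fun hh => ?_⟩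
  · rw [← smul_left_cancel g e']; exact hx.1
  · exact (hh ⟨hd1, hd2⟩).2 (Or.inl rfl)

theorem Jd.homog_aux (n : ℕ) : ∀ (G : Type u) (Ω : Type v) [Group G] [MulAction G Ω] [Finite G] [Finite Ω],
    Nat.card Ω = n → IsPreprimitive G Ω → ∀ Γ : Set Ω, Jd G Γ → 1 < Γ.ncard → 2 * Γ.ncard < Nat.card Ω →
    ∀ S : Set Ω, S.ncard = Γ.ncard → ∃ g : G, H05.tr g Γ = S := by
  induction n using Nat.strong_induction_on with
  | _ n ih =>
  intro G Ω _ _ _ _ hn hG Γ h h1 h2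
  classical
  have h3 := h.three_trans hG h1 h2.le
  have h2t := h.two_trans hG h1 (by omega)
  have hcc := Set.ncard_add_ncard_compl Γ
  obtain ⟨u, hu, u', hu', huu⟩ := (Set.one_lt_ncard (Set.toFinite Γ)).1 h1
  obtain ⟨w, hw⟩ : Γᶜ.Nonempty := Set.nonempty_of_ncard_ne_zero (by omega)
  obtain ⟨g₁, g11, g12⟩ := H18.mt_two_iff.1 h2t u w u u' (fun e => hw (e ▸ hu)) huu
  have hg₁ : H05.tr g₁ Γ ≠ Γ := fun e => hw (by rw [← e, mem_tr, g12]; exact hu')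
  obtain ⟨g₀, hg₀, hmax⟩ := Set.exists_max_image {g : G | H05.tr g Γ ≠ Γ} (fun g => (Γ ∩ H05.tr g Γ).ncard) (Set.toFinite _) ⟨g₁, hg₁⟩
  set Γ' := H05.tr g₀ Γ with hΓ'
  set k := (Γ ∩ Γ').ncard with hk
  have hc' : Γ'.ncard = Γ.ncard := ncard_tr _ _
  have k1 : 0 < k := lt_of_lt_of_le ((Set.ncard_pos (s := Γ ∩ H05.tr g₁ Γ) (Set.toFinite _)).2 ⟨u, hu, by rw [mem_tr, g11]; exact hu⟩) (hmax g₁ hg₁)
  obtain ⟨z, hz, hz'⟩ : (Γ ∩ Γ').Nonempty := Set.nonempty_of_ncard_ne_zero k1.ne'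
  have hmax' : ∀ a b : G, k < (H05.tr a Γ ∩ H05.tr b Γ).ncard → H05.tr a Γ = H05.tr b Γ := by
    intro a b hab
    by_contra hne
    have := hmax (b * a⁻¹) (fun e => hne (by have := congrArg (H05.tr a) e; rw [tr_tr, inv_mul_cancel_right] at this; exact this.symm))
    rw [← ncard_tr a] at this
    refine hab.not_ge (le_of_eq_of_le ?_ this)
    congr 1; ext; simp [mul_smul]
  set j := (Γ' \ Γ).ncard with hj
  have hjk : j + k = Γ.ncard := by
    rw [← hc', hj, hk, Set.inter_comm, add_comm]; exact Set.ncard_inter_add_ncard_sdiff_eq_ncard _ _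
  have hU : (Γ ∪ Γ').ncard = Γ.ncard + j := by
    have := Set.ncard_union_add_ncard_inter Γ Γ'
    omega
  have j1 : 0 < j := by
    by_contra hc
    exact hg₀ (Set.eq_of_subset_of_ncard_le (Set.sdiff_eq_empty.1 ((Set.ncard_eq_zero (s := Γ' \ Γ) (Set.toFinite _)).1 (by omega))) hc'.ge)
  have blk : ∀ (a b : G) (p : Ω), H05.tr a Γ ⊆ Γ ∪ Γ' → H05.tr b Γ ⊆ Γ ∪ Γ' → p ∈ Γ ∪ Γ' → p ∉ H05.tr a Γ → p ∉ H05.tr b Γ →
      H05.tr a Γ = H05.tr b Γ := by
    intro a b p ha hb hp pa pb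
    apply hmax'
    have e1 := Set.ncard_union_add_ncard_inter (H05.tr a Γ) (H05.tr b Γ)
    have e2 : (H05.tr a Γ ∪ H05.tr b Γ).ncard < (Γ ∪ Γ').ncard :=
      Set.ncard_lt_ncard ⟨Set.union_subset ha hb, fun e => (e hp).elim pa pb⟩
    rw [ncard_tr, ncard_tr] at e1
    omega
  have hJU : Jd G (Γ ∪ Γ') := h.union (h.tr g₀) hz hz'
  have sub : ∀ l : G, (∀ z ∉ Γ ∪ Γ', l • z = z) → H05.tr l Γ ⊆ Γ ∪ Γ' := fun l hl x hx => (smul_mem_of_fix hl).1 (Or.inl hx)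
  have sub1 : H05.tr (1 : G) Γ ⊆ Γ ∪ Γ' := by rw [tr_one]; exact Set.subset_union_left
  obtain ⟨x₀, hx₀⟩ : (Γ' \ Γ).Nonempty := Set.nonempty_of_ncard_ne_zero j1.ne'
  have jk : j ≤ k := by
    obtain ⟨l, l1, l2⟩ := hJU z (Or.inl hz) x₀ (Or.inr hx₀.1)
    have zl : z ∉ H05.tr l Γ := by rw [mem_tr, l2]; exact hx₀.2
    have e1 := Set.ncard_sdiff_add_ncard_of_subset (sub l l1)
    rw [ncard_tr] at e1
    have e2 : ((Γ ∪ Γ') \ H05.tr l Γ).ncard ≤ k := by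
      refine Set.ncard_le_ncard fun p hp => ⟨?_, ?_⟩
      · by_contra hc
        exact zl (by rw [blk l 1 p (sub l l1) sub1 hp.1 hp.2 (by rwa [tr_one]), tr_one]; exact hz)
      · by_contra hc
        exact zl (by rw [blk l g₀ p (sub l l1) Set.subset_union_right hp.1 hp.2 hc]; exact hz')
    omega
  have X2 := h.cpl_two h3 ⟨u, hu⟩
  have hcard : Nat.card (cpl G Γ) = Γᶜ.ncard := rfl
  have pre : ∀ W : Set Ω, W ⊆ Γᶜ → (Subtype.val ⁻¹' W : Set (cpl G Γ)).ncard = W.ncard := fun W hW =>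
    Set.ncard_preimage_of_injective_subset_range Subtype.val_injective fun x hx => ⟨⟨x, hW hx⟩, rfl⟩
  have X1 : IsPretransitive (stb G Γ) (cpl G Γ) := by
    rw [← is_one_pretransitive_iff]
    exact isMultiplyPretransitive_of_le (n := 2) one_le_two (by omega)
  have hom : ∀ W : Set Ω, W ⊆ Γᶜ → W.ncard = j → ∃ l : stb G Γ,
      H05.tr l (Subtype.val ⁻¹' (Γ' \ Γ) : Set (cpl G Γ)) = Subtype.val ⁻¹' W := by
    intro W hW hWj
    have p0 := pre (Γ' \ Γ) (fun x hx => hx.2)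
    by_cases j2 : 1 < j
    · refine ih _ (by omega) (stb G Γ) (cpl G Γ) rfl (prim_of_two X2) _ (fun x hx y hy => ?_) (by omega) (by omega) _
        (by rw [pre W hW, p0, hWj])
      obtain ⟨l, l1, l2⟩ := hJU x (Or.inr hx.1) y (Or.inr hy.1)
      have := blk l 1 x (sub l l1) sub1 (Or.inr hx.1) (by rw [mem_tr, l2]; exact y.2) (by rw [tr_one]; exact x.2)
      rw [tr_one] at this
      exact ⟨⟨l, this⟩, fun t ht => Subtype.ext (l1 t fun e => e.elim t.2 fun e => ht ⟨e, t.2⟩), Subtype.ext l2⟩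
    · obtain ⟨a, ha⟩ := Set.ncard_eq_one.1 (show (Subtype.val ⁻¹' (Γ' \ Γ) : Set (cpl G Γ)).ncard = 1 by omega)
      obtain ⟨b, hb⟩ := Set.ncard_eq_one.1 (show (Subtype.val ⁻¹' W : Set (cpl G Γ)).ncard = 1 by rw [pre W hW]; omega)
      obtain ⟨l, rfl⟩ := X1.exists_smul_eq b a
      exact ⟨l, by rw [ha, hb]; ext; simp⟩
  have hom2 : ∀ W : Set Ω, W ⊆ Γᶜ → W.ncard = j → ∀ y ∈ Γ, ∃ l : G, H05.tr l Γ \ Γ = W ∧ y ∉ H05.tr l Γ := by
    intro W hW hWj y hy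
    obtain ⟨l, hl⟩ := hom W hW hWj
    have e1 : H05.tr (g₀ * l) Γ \ Γ = W := by
      ext x
      refine ⟨fun hx => ?_, fun hx => ⟨?_, hW hx⟩⟩
      · have : (⟨x, hx.2⟩ : cpl G Γ) ∈ H05.tr l (Subtype.val ⁻¹' (Γ' \ Γ) : Set (cpl G Γ)) :=
          ⟨by have := hx.1; rw [mem_tr, mul_smul] at this; exact this, fun e => hx.2 ((stb_smul l.2).1 e)⟩
        rwa [hl] at this
      · have : (⟨x, hW hx⟩ : cpl G Γ) ∈ (Subtype.val ⁻¹' W : Set (cpl G Γ)) := hx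
        rw [← hl] at this
        rw [mem_tr, mul_smul]; exact this.1
    obtain ⟨y₀, hy₀, hy₀'⟩ : ∃ y₀ ∈ Γ, y₀ ∉ H05.tr (g₀ * l) Γ := Set.not_subset.1 fun hs => by
      rw [← Set.eq_of_subset_of_ncard_le hs (ncard_tr _ _).le, Set.sdiff_self] at e1
      rw [← e1, Set.ncard_empty] at hWj; omega
    obtain ⟨m, m1, m2⟩ := h y hy y₀ hy₀
    refine ⟨g₀ * l * m, ?_, by rw [← tr_tr, mem_tr, m2]; exact hy₀'⟩
    rw [← e1, ← tr_tr (g₀ * l)]
    ext x
    exact and_congr_left fun hx => by rw [mem_tr, m1 x hx]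
  by_cases j2 : 1 < j
  swap
  · refine homog_of_swap fun y hy x hx => ?_
    obtain ⟨l, l1, l2⟩ := hom2 {x} (Set.singleton_subset_iff.2 hx) (by rw [Set.ncard_singleton]; omega) y hy
    refine ⟨l, Set.eq_of_subset_of_ncard_le (fun t ht => ?_) ?_⟩
    · by_cases e : t ∈ Γ
      · exact Or.inr ⟨e, fun e' => l2 (e' ▸ ht)⟩
      · exact Or.inl (l1.subset ⟨ht, e⟩)
    · rw [ncard_tr, Set.ncard_insert_of_notMem (fun e => hx e.1), Set.ncard_sdiff_singleton_add_one hy]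
  exfalso
  obtain ⟨Z, hZ, hZc⟩ := Set.exists_subset_card_eq (s := Γᶜ) (n := j - 1) (by omega)
  have key : ∀ x : Ω, ∃ l : G, x ∈ Γᶜ \ Z → H05.tr l Γ \ Γ = insert x Z ∧ u ∉ H05.tr l Γ := by
    intro x
    by_cases hx : x ∈ Γᶜ \ Z
    · obtain ⟨l, hl⟩ := hom2 (insert x Z) (Set.insert_subset hx.1 hZ) (by rw [Set.ncard_insert_of_notMem hx.2]; omega) u hu
      exact ⟨l, fun _ => hl⟩
    · exact ⟨1, fun e => absurd e hx⟩
  choose l hl using key
  have Yc : ∀ x ∈ Γᶜ \ Z, (Γ \ H05.tr (l x) Γ).ncard = j := by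
    intro x hx
    have e1 := Set.ncard_inter_add_ncard_sdiff_eq_ncard Γ (H05.tr (l x) Γ)
    have e2 := Set.ncard_inter_add_ncard_sdiff_eq_ncard (H05.tr (l x) Γ) Γ
    rw [(hl x hx).1, Set.ncard_insert_of_notMem hx.2, ncard_tr, Set.inter_comm] at e2
    omega
  have := card_mul_le_of_disj (Γᶜ \ Z).toFinite.toFinset (fun x => (Γ \ H05.tr (l x) Γ) \ {u}) (Γ \ {u}) (j - 1)
    (fun x hx => by
      rw [Set.Finite.mem_toFinset] at hx
      have := Set.ncard_sdiff_singleton_add_one (s := Γ \ H05.tr (l x) Γ) ⟨hu, (hl x hx).2⟩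
      rw [Yc x hx] at this; omega) (fun x _ t ht => ⟨ht.1.1, ht.2⟩) (fun x hx x' hx' hne => by
      rw [Set.Finite.mem_toFinset] at hx hx'
      rw [Set.disjoint_left]
      intro t ht ht'
      have e : H05.tr (l x) Γ = H05.tr (l x') Γ := by
        apply hmax'
        have e1 := Set.ncard_union_add_ncard_inter (Γ \ H05.tr (l x) Γ) (Γ \ H05.tr (l x') Γ)
        have e2 : 1 < ((Γ \ H05.tr (l x) Γ) ∩ (Γ \ H05.tr (l x') Γ)).ncard :=
          (Set.one_lt_ncard (Set.toFinite _)).2 ⟨t, ⟨ht.1, ht'.1⟩, u, ⟨⟨hu, (hl x hx).2⟩, hu, (hl x' hx').2⟩, ht.2⟩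
        have e3 := Set.ncard_sdiff_add_ncard_of_subset
          (show (Γ \ H05.tr (l x) Γ) ∪ (Γ \ H05.tr (l x') Γ) ⊆ Γ from Set.union_subset Set.sdiff_subset Set.sdiff_subset)
        have e4 := Set.ncard_union_eq (s := Z) (t := Γ \ ((Γ \ H05.tr (l x) Γ) ∪ (Γ \ H05.tr (l x') Γ)))
          (Set.disjoint_left.2 fun a ha ha' => hZ ha ha'.1)
        have e5 : (Z ∪ Γ \ ((Γ \ H05.tr (l x) Γ) ∪ (Γ \ H05.tr (l x') Γ))).ncard ≤ (H05.tr (l x) Γ ∩ H05.tr (l x') Γ).ncard := by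
          refine Set.ncard_le_ncard ?_
          rintro a (ha | ha)
          · exact ⟨((hl x hx).1.superset (Or.inr ha)).1, ((hl x' hx').1.superset (Or.inr ha)).1⟩
          · exact ⟨by_contra fun e => ha.2 (Or.inl ⟨ha.1, e⟩), by_contra fun e => ha.2 (Or.inr ⟨ha.1, e⟩)⟩
        rw [Yc x hx, Yc x' hx'] at e1
        omega
      have := (hl x hx).1.superset (Or.inl rfl)
      rw [e, (hl x' hx').1] at this
      exact this.elim hne hx.2)
  rw [← Set.ncard_eq_toFinset_card, Set.ncard_sdiff hZ, hZc] at this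
  have e1 := Set.ncard_sdiff_singleton_add_one hu
  obtain ⟨i, hi⟩ : ∃ i, j = i + 2 := ⟨j - 2, by omega⟩
  obtain ⟨d, hd⟩ : ∃ d, Γᶜ.ncard - (j - 1) = d + 2 := ⟨Γᶜ.ncard - (j - 1) - 2, by omega⟩
  rw [hd, hi] at this
  have : d + 2 + 2 * i ≤ (Γ \ {u}).ncard := le_trans (by simp; nlinarith) this
  omega

theorem Jd.homog [Finite G] [Finite Ω] (hG : IsPreprimitive G Ω) {Γ : Set Ω} (h : Jd G Γ) (h1 : 1 < Γ.ncard)
    (h2 : 2 * Γ.ncard < Nat.card Ω) (S : Set Ω) (hS : S.ncard = Γ.ncard) : ∃ g : G, H05.tr g Γ = S :=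
  Jd.homog_aux _ G Ω rfl hG Γ h h1 h2 S hS

theorem Jd.exists_meet [Finite G] [Finite Ω] (hG : IsPreprimitive G Ω) {Γ : Set Ω} (h : Jd G Γ) (h1 : 1 < Γ.ncard)
    (h2 : 2 * Γ.ncard < Nat.card Ω) {a : Ω} (ha : a ∈ Γ) : ∃ g : G, Γ ∩ H05.tr g Γ = {a} := by
  have hcc := Set.ncard_add_ncard_compl Γ
  obtain ⟨Z, hZ, hZc⟩ := Set.exists_subset_card_eq (s := Γᶜ) (n := Γ.ncard - 1) (by omega)
  obtain ⟨g, hg⟩ := h.homog hG h1 h2 (insert a Z) (by rw [Set.ncard_insert_of_notMem (fun e => hZ e ha)]; omega)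
  refine ⟨g, ?_⟩
  rw [hg]
  ext x
  exact ⟨fun hx => hx.2.resolve_right fun e => hZ e hx.1, fun hx => by rw [hx]; exact ⟨ha, Or.inl rfl⟩⟩

theorem Jd.exists_move [Finite Ω] {Γ : Set Ω} (h : Jd G Γ) (h1 : 1 < Γ.ncard) {a : Ω} (ha : a ∈ Γ) :
    ∃ g : G, (∀ z ∉ Γ, g • z = z) ∧ g • a ≠ a := by
  obtain ⟨b, hb, hba⟩ := Set.exists_ne_of_one_lt_ncard h1 a
  obtain ⟨g, g1, g2⟩ := h a ha b hb
  exact ⟨g, g1, g2 ▸ hba⟩

theorem Jd.alt_le [Finite G] [Fintype Ω] [DecidableEq Ω] (hG : IsPreprimitive G Ω) {Γ : Set Ω} (h : Jd G Γ)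
    (h1 : 1 < Γ.ncard) (h2 : 2 * Γ.ncard < Nat.card Ω) : alternatingGroup Ω ≤ (toPermHom G Ω).range := by
  obtain ⟨a, ha⟩ : Γ.Nonempty := Set.nonempty_of_ncard_ne_zero (by omega)
  obtain ⟨g, hg⟩ := h.exists_meet hG h1 h2 ha
  obtain ⟨k, k1, k2⟩ := h.exists_move h1 ha
  obtain ⟨l, l1, l2⟩ := (h.tr g).exists_move (by rwa [ncard_tr]) (hg.superset rfl).2
  refine alt_le_of_meet hG k2 l2 fun x hx => ?_
  by_cases e : x ∈ Γ
  · exact Or.inr (l1 x fun e' => hx (hg.subset ⟨e, e'⟩))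
  · exact Or.inl (k1 x e)

theorem ncard_preimage_of_fib {Q : Type*} [Finite Ω] [Finite Q] (f : Ω → Q) {b : ℕ} (hb : ∀ q, (f ⁻¹' {q}).ncard = b)
    (S : Set Q) : (f ⁻¹' S).ncard = S.ncard * b := by
  induction S, S.toFinite using Set.Finite.induction_on with
  | empty => simp
  | @insert a s ha _ ih =>
    rw [Set.ncard_insert_of_notMem ha, Set.insert_eq, Set.preimage_union,
      Set.ncard_union_eq ((Set.disjoint_singleton_left.2 ha).preimage f), hb, ih]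
    ring

theorem Jd.quasi [Finite Ω] (hqp : ∀ N : Subgroup G, N.Normal → N ≠ ⊥ → IsPretransitive N Ω) {Γ : Set Ω} (h : Jd G Γ)
    (h1 : 1 < Γ.ncard) (r : Ω → Ω → Prop) (hr : Equivalence r) (hi : ∀ (g : G) x y, r x y → r (g • x) (g • y))
    {x y : Ω} (hxy : ¬ r x y) : (∀ g : G, (∀ x, r x (g • x)) → g = 1) ∧ (∀ u ∈ Γ, ∀ w, r u w → w ∈ Γ) ∧
      ∃ u ∈ Γ, ∃ w ∈ Γ, ¬ r u w := by
  let K : Subgroup G :=
    { carrier := {g | ∀ x, r x (g • x)}
      one_mem' := fun x => by rw [one_smul]; exact hr.refl x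
      mul_mem' := fun {a b} ha hb x => by rw [mul_smul]; exact hr.trans (hb x) (ha _)
      inv_mem' := fun {a} ha x => by have := ha (a⁻¹ • x); rw [smul_inv_smul] at this; exact hr.symm this }
  have hK : K = ⊥ := by
    by_contra hc
    obtain ⟨g, rfl⟩ := (hqp K ⟨fun n hn g x => by
      have := hi g _ _ (hn (g⁻¹ • x))
      rwa [smul_inv_smul, ← mul_smul, ← mul_smul] at this⟩ hc).exists_smul_eq x y
    exact hxy (g.2 x)
  have k1 : ∀ g : G, (∀ x, r x (g • x)) → g = 1 := fun g hg => by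
    have : g ∈ K := hg
    rwa [hK] at this
  have k3 : ∃ u ∈ Γ, ∃ w ∈ Γ, ¬ r u w := by
    by_contra hc
    push Not at hc
    obtain ⟨a, ha⟩ : Γ.Nonempty := Set.nonempty_of_ncard_ne_zero (by omega)
    obtain ⟨g, g1, g2⟩ := h.exists_move h1 ha
    refine g2 (by
      rw [k1 g fun t => ?_, one_smul]
      by_cases e : t ∈ Γ
      · exact hc t e _ ((smul_mem_of_fix g1).2 e)
      · rw [g1 t e]; exact hr.refl t)
  refine ⟨k1, fun u hu w huw => by_contra fun hw => ?_, k3⟩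
  obtain ⟨a, ha, b, hb, hab⟩ := k3
  have : ∀ t ∈ Γ, r t w := fun t ht => by
    obtain ⟨g, g1, rfl⟩ := h u hu t ht
    have := hi g _ _ huw
    rwa [g1 w hw] at this
  exact hab (hr.trans (this a ha) (hr.symm (this b hb)))

theorem Jd.trans_of_quasi [Finite Ω] (hqp : ∀ N : Subgroup G, N.Normal → N ≠ ⊥ → IsPretransitive N Ω) {Γ : Set Ω}
    (h : Jd G Γ) (h1 : 1 < Γ.ncard) : IsPretransitive G Ω := by
  obtain ⟨a, ha⟩ : Γ.Nonempty := Set.nonempty_of_ncard_ne_zero (by omega)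
  obtain ⟨g, -, g2⟩ := h.exists_move h1 ha
  have := hqp ⊤ inferInstance fun e => g2 (by rw [(Subgroup.eq_bot_iff_forall _).1 e g trivial, one_smul])
  exact ⟨fun x y => by obtain ⟨k, e⟩ := this.exists_smul_eq x y; exact ⟨k, e⟩⟩

theorem Jd.prim_of_quasi [Finite Ω] (hqp : ∀ N : Subgroup G, N.Normal → N ≠ ⊥ → IsPretransitive N Ω) {Γ : Set Ω}
    (h : Jd G Γ) (h1 : 1 < Γ.ncard)
    (hp : IsPreprimitive (fixingSubgroup G Γᶜ) (SubMulAction.ofFixingSubgroup G Γᶜ)) : IsPreprimitive G Ω := by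
  have := h.trans_of_quasi hqp h1
  refine H18.prim_of_rel fun r hr hi a b hab hrab x y => by_contra fun hxy => ?_
  obtain ⟨-, k2, u, hu, w, hw, huw⟩ := h.quasi hqp h1 r hr hi hxy
  obtain ⟨g, rfl⟩ := exists_smul_eq G a u
  have hb := k2 _ hu _ (hi g _ _ hrab)
  exact huw (H18.prim_rel hp (fun s t => r s t) ⟨fun s => hr.refl _, hr.symm, hr.trans⟩ (fun k s t e => hi k _ _ e)
    (a := ⟨_, not_not.2 hu⟩) (b := ⟨_, not_not.2 hb⟩) (fun e => hab (smul_left_cancel g (congrArg Subtype.val e)))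
    (hi g _ _ hrab) ⟨_, not_not.2 hu⟩ ⟨_, not_not.2 hw⟩)

theorem Jd.prim_of_quasi_aux {G : Type u} [Group G] [Finite G] (n : ℕ) : ∀ (Ω : Type v) [MulAction G Ω] [Finite Ω],
    Nat.card Ω = n → (∀ N : Subgroup G, N.Normal → N ≠ ⊥ → IsPretransitive N Ω) → ∀ Γ : Set Ω, Jd G Γ → 1 < Γ.ncard →
    2 * Γ.ncard < Nat.card Ω → IsPreprimitive G Ω := by
  induction n using Nat.strong_induction_on with
  | _ n ih =>
  intro Ω _ _ hn hqp Γ h h1 h2
  have := h.trans_of_quasi hqp h1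
  refine H18.prim_of_rel fun r hr hi a b hab hrab x y => by_contra fun hxy => ?_
  obtain ⟨k1, k2, u, hu, w, hw, huw⟩ := h.quasi hqp h1 r hr hi hxy
  let st : Setoid Ω := ⟨r, hr⟩
  let π : Ω → Quotient st := Quotient.mk st
  have hπ : ∀ x y, π x = π y ↔ r x y := fun x y => Quotient.eq
  letI : MulAction G (Quotient st) :=
    { smul := fun g => Quotient.map (fun x => g • x) (hi g)
      one_smul := fun q => by induction q using Quotient.ind; exact congrArg π (one_smul _ _)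
      mul_smul := fun g k q => by induction q using Quotient.ind; exact congrArg π (mul_smul _ _ _) }
  have hs : ∀ (g : G) x, g • π x = π (g • x) := fun _ _ => rfl
  have hsurj : Function.Surjective π := Quotient.mk_surjective
  have hmem : ∀ t, π t ∈ π '' Γ ↔ t ∈ Γ := fun t =>
    ⟨fun ⟨s, hs, e⟩ => k2 s hs t ((hπ _ _).1 e), fun ht => ⟨t, ht, rfl⟩⟩
  have hfib : ∀ q, (π ⁻¹' {q}).ncard = (π ⁻¹' {π a}).ncard := by
    intro q
    obtain ⟨t, rfl⟩ := hsurj q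
    obtain ⟨g, rfl⟩ := exists_smul_eq G a t
    rw [← ncard_tr g]
    congr 1
    ext s
    simp only [mem_tr, Set.mem_preimage, Set.mem_singleton_iff, ← hs, smul_left_cancel_iff]
  have e1 := ncard_preimage_of_fib π hfib (π '' Γ)
  have e2 := ncard_preimage_of_fib π hfib Set.univ
  have e3 : 1 < (π ⁻¹' {π a}).ncard := (Set.one_lt_ncard (Set.toFinite _)).2 ⟨a, rfl, b, ((hπ _ _).2 hrab).symm, hab⟩
  rw [show π ⁻¹' (π '' Γ) = Γ from Set.ext hmem] at e1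
  rw [Set.preimage_univ, Set.ncard_univ, Set.ncard_univ] at e2
  have hJ : Jd G (π '' Γ) := by
    rintro _ ⟨s, hs', rfl⟩ _ ⟨t, ht, rfl⟩
    obtain ⟨g, g1, rfl⟩ := h s hs' t ht
    refine ⟨g, fun q hq => ?_, rfl⟩
    obtain ⟨z, rfl⟩ := hsurj q
    rw [hs, g1 z fun e => hq ⟨z, e, rfl⟩]
  have c1 : 1 < (π '' Γ).ncard :=
    (Set.one_lt_ncard (Set.toFinite _)).2 ⟨_, ⟨u, hu, rfl⟩, _, ⟨w, hw, rfl⟩, fun e => huw ((hπ _ _).1 e)⟩
  have c2 : 2 * (π '' Γ).ncard < Nat.card (Quotient st) := by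
    rw [e1, e2, ← mul_assoc] at h2
    exact lt_of_mul_lt_mul_right h2 (Nat.zero_le _)
  have hp := ih (Nat.card (Quotient st)) (by rw [← hn, e2]; nlinarith) (Quotient st) rfl (fun N hN hN' => ⟨fun p q => by
    obtain ⟨s, rfl⟩ := hsurj p
    obtain ⟨t, rfl⟩ := hsurj q
    obtain ⟨g, rfl⟩ := (hqp N hN hN').exists_smul_eq s t
    exact ⟨g, rfl⟩⟩) _ hJ c1 c2
  obtain ⟨c, rfl⟩ := exists_smul_eq G a u
  obtain ⟨g, hg⟩ := hJ.exists_meet hp c1 c2 (a := π (c • a)) ⟨_, hu, rfl⟩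
  have hmem' : ∀ t, π t ∈ H05.tr g (π '' Γ) ↔ t ∈ H05.tr g Γ := fun t => by rw [mem_tr, hs, hmem, mem_tr]
  obtain ⟨p, p1, p2⟩ := h _ hu _ (k2 _ hu _ (hi c _ _ hrab))
  have hu' := (hmem' _).1 (hg.superset rfl).2
  obtain ⟨q', hq', hq''⟩ := Set.exists_ne_of_one_lt_ncard (s := H05.tr g (π '' Γ)) (by rwa [ncard_tr]) (π (c • a))
  obtain ⟨t, rfl⟩ := hsurj q'
  obtain ⟨q, q1, q2⟩ := h.tr g _ hu' t ((hmem' _).1 hq')
  have p3 : ∀ s, s ∈ H05.tr g Γ → p • π s = π s := by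
    intro s hs'
    by_cases e : s ∈ Γ
    · rw [hg.subset ⟨(hmem _).2 e, (hmem' _).2 hs'⟩, hs, p2]; exact ((hπ _ _).2 (hi c _ _ hrab)).symm
    · rw [hs, p1 s e]
  have comm : ∀ s, p • q • π s = q • p • π s := by
    intro s
    by_cases e : s ∈ H05.tr g Γ
    · rw [p3 s e, hs, p3 _ ((smul_mem_of_fix q1).2 e)]
    · have : p • s ∉ H05.tr g Γ := fun e' => e (by
        have := p3 _ e'
        rw [hs, ← hs, ← hs, smul_left_cancel_iff, hs] at this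
        rw [← hmem', ← this, hmem']; exact e')
      rw [hs q, q1 s e, hs, hs, q1 _ this]
  have := k1 ((q * p)⁻¹ * (p * q)) fun s => by
    rw [← hπ, ← hs, mul_smul, mul_smul, comm, ← mul_smul q, inv_smul_smul]
  have e4 : p • q • c • a = q • p • c • a := by rw [← mul_smul, ← mul_smul q, inv_mul_eq_one.1 this]
  rw [q2, p1 t (fun e => hq'' (hg.subset ⟨(hmem _).2 e, hq'⟩)), ← q2, smul_left_cancel_iff, p2, smul_left_cancel_iff] at e4
  exact hab e4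

theorem Jd.prim_of_quasi' [Finite G] [Finite Ω] (hqp : ∀ N : Subgroup G, N.Normal → N ≠ ⊥ → IsPretransitive N Ω)
    {Γ : Set Ω} (h : Jd G Γ) (h1 : 1 < Γ.ncard) (h2 : 2 * Γ.ncard < Nat.card Ω) : IsPreprimitive G Ω :=
  Jd.prim_of_quasi_aux _ Ω rfl hqp Γ h h1 h2

end H05
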