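import Mathlib

/-! Part I of S5567: a central involution splits off an extension of `A₆`. -/

set_option autoImplicit false

open Subgroup

namespace H05.KI

universe u

theorem ext {G : Type u} [Group G] [Finite G] (N : Subgroup G) (t : G) (t2 : t * t = 1) (n : ∀ x ∈ N, t * x * t ∈ N) (h : t ∉ N) :
    ∃ E : Subgroup G, (∀ g, g ∈ E ↔ g ∈ N ∨ g * t ∈ N) ∧ Nat.card E = 2 * Nat.card N := by
  have ti : t⁻¹ = t := inv_eq_of_mul_eq_one_right t2
  have tt : ∀ g, t * (t * g) = g := fun g => by rw [← mul_assoc, t2, one_mul]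
  let E : Subgroup G :=
    { carrier := {g | g ∈ N ∨ g * t ∈ N}
      one_mem' := Or.inl (one_mem _)
      mul_mem' := by
        rintro a b (ha | ha) (hb | hb)
        · exact Or.inl (mul_mem ha hb)
        · exact Or.inr (by simpa [mul_assoc] using mul_mem ha hb)
        · exact Or.inr (by simpa [mul_assoc, tt] using mul_mem ha (n b hb))
        · exact Or.inl (by simpa [mul_assoc, tt, t2] using mul_mem ha (n _ hb))
      inv_mem' := by
        rintro a (ha | ha)
        · exact Or.inl (inv_mem ha)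
        · exact Or.inr (by simpa [mul_assoc, tt, ti] using n _ (inv_mem ha)) }
  refine ⟨E, fun g => Iff.rfl, ?_⟩
  have le : N ≤ E := fun g hg => Or.inl hg
  have : (N.subgroupOf E).index = 2 := index_eq_two_iff.2 ⟨⟨t, Or.inr (t2 ▸ one_mem N)⟩, fun b => by
    rcases b.2 with hb | hb
    · exact Or.inr ⟨hb, fun h1 => h ((mul_mem_cancel_left hb).1 h1)⟩
    · exact Or.inl ⟨hb, fun h1 => h ((mul_mem_cancel_left (show (b : G) ∈ N from h1)).1 hb)⟩⟩
  rw [← (N.subgroupOf E).card_mul_index, this, Nat.card_congr (subgroupOfEquivOfLe le).toEquiv, mul_comm]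

theorem ex : ∃ a r : alternatingGroup (Fin 6), a * a = 1 ∧ ∃ b, b * b = 1 ∧ a * b = r ∧ r ^ 4 = 1 ∧ r ^ 2 ≠ 1 ∧ a * r ≠ r * a :=
  ⟨⟨Equiv.swap 0 1 * Equiv.swap 2 3, by rw [Equiv.Perm.mem_alternatingGroup]; decide⟩, _, Subtype.ext (by decide),
    ⟨Equiv.swap 0 2 * Equiv.swap 4 5, by rw [Equiv.Perm.mem_alternatingGroup]; decide⟩, Subtype.ext (by decide), rfl,
    Subtype.ext (by decide), fun h => absurd (congrArg Subtype.val h) (by decide), fun h => absurd (congrArg Subtype.val h) (by decide)⟩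

theorem chi {X : Type u} [Group X] [Finite X] (z : X) (ψ : X →* alternatingGroup (Fin 6)) (cX : Nat.card X = 2160) (z1 : z ≠ 1)
    (z2 : z * z = 1) (zc : ∀ x, x * z = z * x) (su : Function.Surjective ψ) (ψz : ψ z = 1)
    (h6 : ∀ x, ψ x * ψ x = 1 → x ^ 6 = 1) : ∃ χ : X →* ℤˣ, χ z = -1 := by
  classical
  obtain ⟨a, r, a2, b, b2, ab, r4, r2, ar⟩ := ex
  have lift : ∀ a : alternatingGroup (Fin 6), a * a = 1 → ∃ x, ψ x = a ∧ x * x = 1 := fun a a2 => by
    obtain ⟨x, rfl⟩ := su a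
    exact ⟨x ^ 3, by rw [map_pow, pow_three', a2, one_mul], by rw [← pow_add]; exact h6 x a2⟩
  obtain ⟨x, hx, x2⟩ := lift a a2
  obtain ⟨y, hy, y2⟩ := lift b b2
  have xy : ψ (x * y) = r := by rw [map_mul, hx, hy, ab]
  have h12 : ((x * y) ^ 2) ^ 6 = 1 := h6 _ (by rw [map_pow, xy, ← pow_add]; exact r4)
  set c := (x * y) ^ 9 with hc
  have c4 : c ^ 4 = 1 := by rw [hc, ← pow_mul, show 9 * 4 = 2 * 6 * 3 from rfl, pow_mul, pow_mul, h12, one_pow]
  have cr : ψ c = r := by rw [hc, map_pow, xy, show 9 = 4 * 2 + 1 from rfl, pow_succ, pow_mul, r4]; simp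
  have xi : x⁻¹ = x := inv_eq_of_mul_eq_one_right x2
  have xc : x * c * x⁻¹ = c⁻¹ := by
    rw [hc, ← conj_pow, ← inv_pow, mul_inv_rev, xi, inv_eq_of_mul_eq_one_right y2, ← mul_assoc, x2, one_mul]
  have oc : orderOf c = 2 ^ 2 := orderOf_eq_prime_pow (n := 1) (fun h => r2 (by rw [← cr, ← map_pow]; exact (congrArg ψ h).trans (map_one ψ))) c4
  have or : orderOf r = 2 ^ 2 := orderOf_eq_prime_pow (n := 1) r2 r4
  have nc : ∀ w ∈ zpowers c, ψ w ≠ a := by
    rintro _ ⟨k, rfl⟩ h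
    exact ar (by rw [← h, map_zpow, cr]; exact (Commute.refl r).zpow_left k)
  obtain ⟨D, mD, cD⟩ := ext (zpowers c) x x2 (by
    rintro _ ⟨k, rfl⟩
    have : x * c ^ k * x⁻¹ = c⁻¹ ^ k := by rw [← conj_zpow, xc]
    rw [xi] at this
    exact this ▸ zpow_mem (inv_mem (mem_zpowers c)) k) fun h => nc x h hx
  have zD : z ∉ D := fun h => by
    rcases (mD z).1 h with ⟨k, hk⟩ | h
    · have h1 : r ^ k = 1 := by rw [← cr, ← map_zpow]; exact (congrArg ψ hk).trans ψz
      rw [← orderOf_dvd_iff_zpow_eq_one, or, ← oc, orderOf_dvd_iff_zpow_eq_one] at h1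
      exact z1 (hk.symm.trans h1)
    · exact nc _ h (by rw [map_mul, ψz, one_mul, hx])
  obtain ⟨S, mS, cS⟩ := ext D z z2 (fun w hw => by rwa [← zc, mul_assoc, z2, mul_one]) zD
  rw [cD, Nat.card_zpowers, oc] at cS
  have iS : S.index = 135 := by have := S.card_mul_index; rw [cS, cX] at this; omega
  have i2 : (D.subgroupOf S).index = 2 := by
    have := (D.subgroupOf S).card_mul_index
    rw [Nat.card_congr (subgroupOfEquivOfLe fun g hg => (mS g).2 (Or.inl hg)).toEquiv, cS, cD, Nat.card_zpowers, oc] at this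
    omega
  let χ0 : S →* ℤˣ := MonoidHom.mk' (fun s => if s ∈ D.subgroupOf S then 1 else -1) fun s t => by
    simp only [mul_mem_iff_of_index_two i2]
    by_cases h1 : s ∈ D.subgroupOf S <;> by_cases h2 : t ∈ D.subgroupOf S <;> simp [h1, h2]
  refine ⟨MonoidHom.transfer χ0, ?_⟩
  rw [MonoidHom.transfer_eq_pow χ0 z fun k g _ => by
    rw [mul_assoc, (show Commute g z from zc g).pow_right k |>.symm.eq, inv_mul_cancel_left]]
  refine if_neg fun h => zD ?_
  have h1 : z ^ S.index ∈ D := h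
  rwa [iS, show 135 = 2 * 67 + 1 from rfl, pow_succ, pow_mul, sq, z2, one_pow, one_mul] at h1

theorem i : ∀ {G : Type u} [Group G] [Finite G] (X L : Subgroup G) (z l : G) (zX : z ∈ X) (ψ : X →* alternatingGroup (Fin 6)), X ≤ L →
    Nat.card X = 2160 → Nat.card L = 4320 → l ∈ L → l ∉ X → l * l = 1 → z ≠ 1 → z * z = 1 → (∀ x ∈ L, x * z = z * x) →
    Function.Surjective ψ → ψ ⟨z, zX⟩ = 1 → (∀ x : X, ψ x * ψ x = 1 → x ^ 6 = 1) →
    ∃ L1 ≤ L, z ∉ L1 ∧ Nat.card L1 = 2160 := by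
  intro G _ _ X L z l zX ψ XL cX cL lL lX l2 z1 z2 zc su ψz h6
  set z' : X := ⟨z, zX⟩
  have z1' : z' ≠ 1 := fun h => z1 (congrArg Subtype.val h)
  have z2' : z' * z' = 1 := Subtype.ext z2
  have zc' : ∀ x : X, x * z' = z' * x := fun x => Subtype.ext (zc x (XL x.2))
  obtain ⟨χ, χz⟩ := chi z' ψ cX z1' z2' zc' su ψz h6
  have i2 : (X.subgroupOf L).index = 2 := by
    have := (X.subgroupOf L).card_mul_index
    rw [Nat.card_congr (subgroupOfEquivOfLe XL).toEquiv, cX, cL] at this; omega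
  have nX : ∀ x ∈ X, l * x * l ∈ X := fun x hx =>
    (mul_mem_iff_of_index_two i2 (a := ⟨l, lL⟩ * ⟨x, XL hx⟩) (b := ⟨l, lL⟩)).2
      (iff_of_false (fun h => lX ((mul_mem_cancel_right hx).1 h)) lX)
  let ι : X →* X := MonoidHom.mk' (fun x => ⟨l * x * l, nX _ x.2⟩) fun a b => Subtype.ext (by
    simp only [coe_mul, mul_assoc]; rw [← mul_assoc l l, l2, one_mul])
  have ιz : ι z' = z' := Subtype.ext (by change l * z * l = z; rw [zc l lL, mul_assoc, l2, mul_one])
  let η : X →* ℤˣ := χ * χ.comp ι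
  have ck : Nat.card ψ.ker = 6 := by
    have := ψ.ker.card_mul_index
    rw [index_ker, MonoidHom.range_eq_top.2 su, card_top, nat_card_alternatingGroup, cX] at this
    rw [show (Nat.card (Fin 6)).factorial / 2 = 360 by simp [Nat.factorial]] at this; omega
  have k1 : ψ.ker ≤ η.ker := fun k hk => by
    have h3 : k ^ 3 ∈ zpowers z' := by
      by_contra h
      obtain ⟨E, mE, cE⟩ := ext (zpowers z') (k ^ 3) (by rw [← pow_add]; exact h6 k (by rw [show ψ k = 1 from hk, one_mul])) (by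
        rintro _ ⟨j, rfl⟩
        have h2 : k ^ 3 * k ^ 3 = 1 := by rw [← pow_add]; exact h6 k (by rw [show ψ k = 1 from hk, one_mul])
        change k ^ 3 * z' ^ j * k ^ 3 ∈ _
        rw [((show Commute (k ^ 3) z' from zc' _).zpow_right j).eq, mul_assoc, h2, mul_one]
        exact zpow_mem (mem_zpowers _) j) h
      have zk : zpowers z' ≤ ψ.ker := zpowers_le_of_mem ψz
      have := card_dvd_of_le (show E ≤ ψ.ker from fun g hg => ((mE g).1 hg).elim (fun h => zk h) fun h =>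
        (mul_mem_cancel_right (pow_mem hk 3)).1 (zk h))
      rw [cE, ck, Nat.card_zpowers, orderOf_eq_prime (p := 2) (by rw [sq, z2']) z1'] at this
      omega
    have h4 : zpowers z' ≤ η.ker := zpowers_le_of_mem (by simp [η, ιz, χz])
    have h5 : η (k ^ 3) = 1 := h4 h3
    rwa [map_pow, pow_three', Int.units_mul_self, one_mul] at h5
  have η1 : ∀ x, η x = 1 := fun x => by
    have hs : IsSimpleGroup (alternatingGroup (Fin 6)) := alternatingGroup.isSimpleGroup (by simp)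
    rcases hs.eq_bot_or_eq_top_of_normal (η.ker.map ψ) (Normal.map inferInstance ψ su) with h | h
    · exfalso
      obtain ⟨a, r, -, b, -, -, -, r2, -⟩ := ex
      obtain ⟨w, rfl⟩ := su r
      exact r2 (mem_bot.1 (h ▸ ⟨w ^ 2, by simp [sq], map_pow ψ w 2⟩))
    · obtain ⟨w, hw, e⟩ : ψ x ∈ η.ker.map ψ := h ▸ mem_top _
      have : w⁻¹ * x ∈ η.ker := k1 (by simp [e])
      exact (mul_mem_cancel_left (inv_mem hw)).1 this
  obtain ⟨E, mE, cE⟩ := ext (χ.ker.map X.subtype) l l2 (by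
    rintro _ ⟨x, hx, rfl⟩
    refine ⟨ι x, ?_, rfl⟩
    have := η1 x
    simpa [η, show χ x = 1 from hx] using this) fun h => lX (map_subtype_le _ h)
  refine ⟨E, fun g hg => ((mE g).1 hg).elim (fun h => XL (map_subtype_le _ h)) fun h =>
    (mul_mem_cancel_right lL).1 (XL (map_subtype_le _ h)), fun h => ?_, ?_⟩
  · rcases (mE z).1 h with ⟨w, hw, e⟩ | h
    · obtain rfl : w = z' := Subtype.ext e
      exact absurd (χz.symm.trans hw) (by decide)
    · exact lX ((mul_mem_cancel_left zX).1 (map_subtype_le _ h))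
  · have j2 : χ.ker.index = 2 := index_eq_two_iff.2 ⟨z', fun b => by
      rcases Int.units_eq_one_or (χ b) with h | h <;> simp [h, χz, Xor]⟩
    have := χ.ker.card_mul_index
    rw [j2, cX] at this
    rw [cE, card_map_of_injective X.subtype_injective]; omega

end H05.KI
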