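import Mathlib

/-!
Linear algebra for products of two regular unipotent elements (S2522), part 1.
`H05.Lev.avoid4` (four proper subspaces do not cover, field with at least four elements),
`H05.Lev.exists_dual4`, `H05.Lev.cover`, `H05.Lev.pickE`.
-/

set_option autoImplicit false

open Module Submodule

namespace H05.Lev

variable {K : Type*} [Field K]

/-- the field has at least four elements -/
def Four (K : Type*) : Prop := ∀ a b c : K, ∃ t, t ≠ a ∧ t ≠ b ∧ t ≠ c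

theorem four_of_card (hK : 4 ≤ Cardinal.mk K) : Four K := by
  intro a b c
  by_contra h
  push Not at h
  have h1 : (Set.univ : Set K) ⊆ {a, b, c} := by
    intro t _
    by_cases h1 : t = a
    · simp [h1]
    by_cases h2 : t = b
    · simp [h2]
    simp [h t h1 h2]
  have h2 := Cardinal.mk_le_mk_of_subset h1
  rw [Cardinal.mk_univ] at h2
  have h3 : Cardinal.mk ({a, b, c} : Set K) ≤ 3 := by
    refine Cardinal.mk_insert_le.trans ?_
    have : Cardinal.mk ({b, c} : Set K) ≤ 2 := by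
      refine Cardinal.mk_insert_le.trans ?_
      rw [Cardinal.mk_singleton]; norm_num
    calc _ ≤ (2 : Cardinal) + 1 := by gcongr
      _ = 3 := by norm_num
  have := hK.trans (h2.trans h3)
  norm_num at this

section
variable {M : Type*} [AddCommGroup M] [Module K M]

theorem bad_one (A : Submodule K M) {x : M} (hx : x ∉ A) (y : M) :
    ∃ s : K, ∀ t : K, y + t • x ∈ A → t = s := by
  by_cases h : ∃ s : K, y + s • x ∈ A
  · obtain ⟨s, hs⟩ := h
    refine ⟨s, fun t ht => ?_⟩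
    by_contra hts
    apply hx
    have h1 : (t - s) • x ∈ A := by
      have := A.sub_mem ht hs
      rwa [add_sub_add_left_eq_sub, ← sub_smul] at this
    exact (A.smul_mem_iff (sub_ne_zero.2 hts)).1 h1
  · exact ⟨0, fun t ht => absurd ⟨t, ht⟩ h⟩

theorem avoid_step (hK : Four K) (Ψ A B C U : Submodule K M)
    (h : ∃ x ∈ Ψ, x ∉ A ∧ x ∉ B ∧ x ∉ C) (hU : ¬ Ψ ≤ U) :
    ∃ x ∈ Ψ, x ∉ A ∧ x ∉ B ∧ x ∉ C ∧ x ∉ U := by
  obtain ⟨x, hx, hA, hB, hC⟩ := h
  by_cases hxU : x ∈ U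
  swap
  · exact ⟨x, hx, hA, hB, hC, hxU⟩
  obtain ⟨y, hy, hyU⟩ := SetLike.not_le_iff_exists.1 hU
  obtain ⟨a, ha⟩ := bad_one A hA y
  obtain ⟨b, hb⟩ := bad_one B hB y
  obtain ⟨c, hc⟩ := bad_one C hC y
  obtain ⟨t, hta, htb, htc⟩ := hK a b c
  refine ⟨y + t • x, Ψ.add_mem hy (Ψ.smul_mem t hx), fun h => hta (ha t h), fun h => htb (hb t h),
    fun h => htc (hc t h), fun h => hyU ?_⟩
  exact (U.add_mem_iff_left (U.smul_mem t hxU)).1 h

theorem avoid4 (hK : Four K) (Ψ A B C D : Submodule K M)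
    (hA : ¬ Ψ ≤ A) (hB : ¬ Ψ ≤ B) (hC : ¬ Ψ ≤ C) (hD : ¬ Ψ ≤ D) :
    ∃ x ∈ Ψ, x ∉ A ∧ x ∉ B ∧ x ∉ C ∧ x ∉ D := by
  obtain ⟨x, hx, hxA⟩ := SetLike.not_le_iff_exists.1 hA
  obtain ⟨y, hy, h1, -, -, h2⟩ := avoid_step hK Ψ A A A B ⟨x, hx, hxA, hxA, hxA⟩ hB
  obtain ⟨z, hz, h3, -, h4, h5⟩ := avoid_step hK Ψ A A B C ⟨y, hy, h1, h1, h2⟩ hC
  exact avoid_step hK Ψ A B C D ⟨z, hz, h3, h4, h5⟩ hD

theorem exists_dual4 (hK : Four K) (c w₀ w₁ w₂ w₃ : M) (h₀ : w₀ ∉ K ∙ c) (h₁ : w₁ ∉ K ∙ c)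
    (h₂ : w₂ ∉ K ∙ c) (h₃ : w₃ ∉ K ∙ c) :
    ∃ φ : Dual K M, φ c = 0 ∧ φ w₀ = 1 ∧ φ w₁ ≠ 0 ∧ φ w₂ ≠ 0 ∧ φ w₃ ≠ 0 := by
  have key : ∀ w, w ∉ K ∙ c →
      ¬ LinearMap.ker (Dual.eval K M c) ≤ LinearMap.ker (Dual.eval K M w) := by
    intro w hw hle
    obtain ⟨f, hf, hf'⟩ := exists_dual_map_eq_bot_of_notMem hw inferInstance
    apply hf
    have : f c = 0 := by
      have h1 : f c ∈ (K ∙ c).map f := mem_map_of_mem (mem_span_singleton_self c)
      rwa [hf', mem_bot] at h1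
    exact hle (x := f) this
  obtain ⟨φ, hφ, a0, a1, a2, a3⟩ := avoid4 hK _ _ _ _ _ (key w₀ h₀) (key w₁ h₁) (key w₂ h₂)
    (key w₃ h₃)
  simp only [LinearMap.mem_ker, Dual.eval_apply] at hφ a0 a1 a2 a3
  refine ⟨(φ w₀)⁻¹ • φ, by simp [hφ], by simp [a0], ?_, ?_, ?_⟩ <;> simp [a0, a1, a2, a3]

/-- the range lies in a plane -/
def Rk2 (f : End K M) : Prop := ∃ x y : M, ∀ v, f v ∈ span K ({x, y} : Set M)

/-- the range does not lie in a line -/
def R2 (f : End K M) : Prop := ∀ x : M, ∃ v, f v ∉ K ∙ x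

/-- not a scalar -/
def NS (g : End K M) : Prop := ∀ a : K, g ≠ a • (1 : End K M)

theorem sub_smul_apply (g : End K M) (m : K) (v : M) : (g - m • (1 : End K M)) v = g v - m • v := by
  simp

theorem eig_mem_range {g : End K M} {v : M} {l m : K} (h : g v = l • v) (hlm : l ≠ m) :
    v ∈ LinearMap.range (g - m • (1 : End K M)) := by
  refine ⟨(l - m)⁻¹ • v, ?_⟩
  rw [map_smul, sub_smul_apply, h, ← sub_smul, smul_smul, inv_mul_cancel₀ (sub_ne_zero.2 hlm),
    one_smul]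

theorem finrank_range_le_of_Rk2 [FiniteDimensional K M] {f : End K M} (h : Rk2 f) :
    finrank K (LinearMap.range f) ≤ 2 := by
  classical
  obtain ⟨x, y, h⟩ := h
  have h1 : LinearMap.range f ≤ span K (({x, y} : Finset M) : Set M) := by
    rintro _ ⟨v, rfl⟩
    simpa using h v
  refine (Submodule.finrank_mono h1).trans ((finrank_span_finset_le_card _).trans ?_)
  exact Finset.card_le_two

theorem cover [FiniteDimensional K M] [Nontrivial M] {g : End K M} (hg : NS g) (a b : K) :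
    ∃ U₁ U₂ : Submodule K M, ¬ ⊤ ≤ U₁ ∧ ¬ ⊤ ≤ U₂ ∧ (∀ v (l : K), g v = l • v → v ∈ U₁ ∨ v ∈ U₂) ∧
      ∀ μ, (μ = a ∨ μ = b) → ¬ ⊤ ≤ LinearMap.range (g - μ • (1 : End K M)) →
        LinearMap.range (g - μ • (1 : End K M)) ≤ U₁ ∨
          LinearMap.range (g - μ • (1 : End K M)) ≤ U₂ := by
  have c1 : ∀ m : K, ¬ ⊤ ≤ LinearMap.range (g - m • (1 : End K M)) →
      (∀ μ, (μ = a ∨ μ = b) → ¬ ⊤ ≤ LinearMap.range (g - μ • (1 : End K M)) → μ = m) →
      ∃ U₁ U₂ : Submodule K M, ¬ ⊤ ≤ U₁ ∧ ¬ ⊤ ≤ U₂ ∧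
        (∀ v (l : K), g v = l • v → v ∈ U₁ ∨ v ∈ U₂) ∧
        ∀ μ, (μ = a ∨ μ = b) → ¬ ⊤ ≤ LinearMap.range (g - μ • (1 : End K M)) →
          LinearMap.range (g - μ • (1 : End K M)) ≤ U₁ ∨
            LinearMap.range (g - μ • (1 : End K M)) ≤ U₂ := by
    intro m hm h
    refine ⟨LinearMap.ker (g - m • (1 : End K M)), LinearMap.range (g - m • (1 : End K M)), ?_, hm,
      fun v l hv => ?_, fun μ h1 h2 => Or.inr (by rw [h μ h1 h2])⟩
    · intro hle
      apply hg m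
      rw [← sub_eq_zero, ← LinearMap.ker_eq_top, eq_top_iff]
      exact hle
    · by_cases hl : l = m
      · left; rw [LinearMap.mem_ker, sub_smul_apply, hv, hl, sub_self]
      · right; exact eig_mem_range hv hl
  by_cases ha : ⊤ ≤ LinearMap.range (g - a • (1 : End K M))
  · by_cases hb : ⊤ ≤ LinearMap.range (g - b • (1 : End K M))
    · by_cases h : ∃ m : K, ¬ ⊤ ≤ LinearMap.range (g - m • (1 : End K M))
      · obtain ⟨m, hm⟩ := h
        exact c1 m hm fun μ h1 h2 => by rcases h1 with rfl | rfl <;> contradiction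
      · push Not at h
        refine ⟨⊥, ⊥, by simp, by simp, fun v l hv => Or.inl ?_, fun μ _ h2 => absurd (h μ) h2⟩
        have h1 : Function.Injective (g - l • (1 : End K M)) :=
          LinearMap.injective_iff_surjective.2 (LinearMap.range_eq_top.1 (eq_top_iff.2 (h l)))
        apply h1
        rw [sub_smul_apply, hv, sub_self, map_zero]
    · exact c1 b hb fun μ h1 h2 => by
        rcases h1 with rfl | rfl
        · contradiction
        · rfl
  · by_cases hb : ¬ ⊤ ≤ LinearMap.range (g - b • (1 : End K M)) ∧ a ≠ b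
    · refine ⟨_, _, ha, hb.1, fun v l hv => ?_, fun μ h1 _ => ?_⟩
      · by_cases hl : l = a
        · right; exact eig_mem_range hv (hl ▸ hb.2)
        · left; exact eig_mem_range hv hl
      · rcases h1 with rfl | rfl
        · exact Or.inl le_rfl
        · exact Or.inr le_rfl
    · exact c1 a ha fun μ h1 h2 => by
        rcases h1 with rfl | rfl
        · rfl
        · by_contra h3
          exact hb ⟨h2, fun h => h3 h.symm⟩

theorem two_cover [FiniteDimensional K M] (g : End K M) {n : ℕ} (hn : finrank K M = n + 2) :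
    ∃ a b : K, n ≠ 0 → ∀ μ : K, μ ^ (n + 1) = 1 → Rk2 (g - μ • (1 : End K M)) → μ = a ∨ μ = b := by
  by_cases h1 : n ≤ 1
  · refine ⟨1, -1, fun h0 μ hμ _ => ?_⟩
    have : n = 1 := by omega
    subst this
    exact mul_self_eq_one_iff.1 (by rw [← hμ]; ring)
  by_contra hc
  push Not at hc
  obtain ⟨-, a, -, ha, -, -⟩ := hc 0 0
  obtain ⟨-, b, -, hb, hba, -⟩ := hc a a
  obtain ⟨-, c, -, hc', hca, hcb⟩ := hc a b
  have k1 := finrank_range_le_of_Rk2 ha
  have k2 := finrank_range_le_of_Rk2 hb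
  have k3 := finrank_range_le_of_Rk2 hc'
  have e1 := LinearMap.finrank_range_add_finrank_ker (g - a • (1 : End K M))
  have e2 := LinearMap.finrank_range_add_finrank_ker (g - b • (1 : End K M))
  have e3 := Submodule.finrank_sup_add_finrank_inf_eq (LinearMap.ker (g - a • (1 : End K M)))
    (LinearMap.ker (g - b • (1 : End K M)))
  have e4 : LinearMap.ker (g - a • (1 : End K M)) ⊓ LinearMap.ker (g - b • (1 : End K M)) = ⊥ := by
    rw [eq_bot_iff]
    rintro v ⟨h1, h2⟩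
    simp only [SetLike.mem_coe, LinearMap.mem_ker, sub_smul_apply, sub_eq_zero] at h1 h2
    have : (b - a) • v = 0 := by rw [sub_smul, ← h1, ← h2, sub_self]
    exact (smul_eq_zero.1 this).resolve_left (sub_ne_zero.2 hba)
  have e5 : LinearMap.ker (g - a • (1 : End K M)) ⊔ LinearMap.ker (g - b • (1 : End K M)) ≤
      LinearMap.range (g - c • (1 : End K M)) := by
    refine sup_le (fun v hv => ?_) (fun v hv => ?_)
    · rw [LinearMap.mem_ker, sub_smul_apply, sub_eq_zero] at hv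
      exact eig_mem_range hv hca.symm
    · rw [LinearMap.mem_ker, sub_smul_apply, sub_eq_zero] at hv
      exact eig_mem_range hv hcb.symm
  have e6 := Submodule.finrank_mono e5
  rw [e4, finrank_bot] at e3
  omega

theorem pickE (hK : Four K) [FiniteDimensional K M] {g : End K M} {n : ℕ}
    (hn : finrank K M = n + 2) (hg : NS g) (hR : R2 (g - 1)) (c₀ : M) {r₀ : Dual K M}
    (hr : r₀ ≠ 0) :
    ∃ e : M, r₀ e ≠ 0 ∧ (g - 1) e ∉ K ∙ c₀ ∧ (∀ a : K, g e ≠ a • e) ∧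
      (n ≠ 0 → ∀ μ : K, μ ^ (n + 1) = 1 → Rk2 (g - μ • (1 : End K M)) →
        e ∉ LinearMap.range (g - μ • (1 : End K M))) := by
  haveI : Nontrivial M := Module.nontrivial_of_finrank_pos (R := K) (by omega)
  obtain ⟨a, b, hab⟩ := two_cover g hn
  obtain ⟨U₁, U₂, h1, h2, h3, h4⟩ := cover hg a b
  obtain ⟨e, -, e1, e2, e3, e4⟩ := avoid4 hK ⊤ U₁ U₂ (LinearMap.ker r₀)
    ((K ∙ c₀).comap (g - 1)) h1 h2 (by
      intro h; exact hr (LinearMap.ker_eq_top.1 (eq_top_iff.2 h))) (by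
      intro h
      obtain ⟨v, hv⟩ := hR c₀
      exact hv (h (mem_top (x := v))))
  refine ⟨e, e3, e4, fun l hl => ?_, fun h0 μ hμ hk he => ?_⟩
  · rcases h3 e l hl with h | h <;> contradiction
  · have : ¬ ⊤ ≤ LinearMap.range (g - μ • (1 : End K M)) := by
      intro h
      have k1 := finrank_range_le_of_Rk2 hk
      rw [top_le_iff.1 h, finrank_top] at k1
      omega
    rcases h4 μ (hab h0 μ hμ hk) this with h | h
    · exact e1 (h he)
    · exact e2 (h he)

end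

end H05.Lev
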