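import Mathlib
import Cfsg.Agent.H05.Lev1

/-!
Products of two regular unipotent elements (S2522), part 2: the inductive factorisation.
`H05.Lev.Q` : `g` of determinant one, non-scalar with `g - 1` of rank at least two, is `L * U` with
`L`, `U` regular unipotent (with prescribed non-vanishing conditions).
-/

set_option autoImplicit false

open Module Submodule

namespace H05.Lev

universe v

variable {K : Type*} [Field K]

section
variable {V : Type*} [AddCommGroup V] [Module K V] (φ : Dual K V) (e : V) (he : φ e = 1)

/-- projection onto `ker φ` along `e` -/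
noncomputable def prj : V →ₗ[K] LinearMap.ker φ :=
  LinearMap.codRestrict (LinearMap.ker φ) (LinearMap.id - φ.smulRight e) (by
    intro v; simp [he])

theorem prj_coe (v : V) : (prj φ e he v : V) = v - φ v • e := rfl

theorem prj_sub (h : LinearMap.ker φ) : prj φ e he h = h := by
  ext; rw [prj_coe]; have : φ h = 0 := h.2; simp [this]

theorem prj_e : prj φ e he e = 0 := by
  ext; rw [prj_coe]; simp [he]

/-- the splitting -/
noncomputable def spl : V ≃ₗ[K] K × LinearMap.ker φ where
  toFun v := (φ v, prj φ e he v)
  map_add' x y := by simp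
  map_smul' c x := by simp
  invFun p := p.1 • e + p.2
  left_inv v := by simp [prj_coe]
  right_inv p := by
    have : φ p.2 = 0 := p.2.2
    simp [he, this, prj_e, prj_sub]

/-- extension of an endomorphism of `ker φ` fixing `e` -/
noncomputable def ext (f : End K (LinearMap.ker φ)) : End K V :=
  (spl φ e he).symm.toLinearMap ∘ₗ (LinearMap.prodMap LinearMap.id f) ∘ₗ (spl φ e he).toLinearMap

theorem ext_apply (f : End K (LinearMap.ker φ)) (v : V) :
    ext φ e he f v = φ v • e + (f (prj φ e he v) : V) := rfl

theorem ext_mul (f f' : End K (LinearMap.ker φ)) :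
    ext φ e he (f * f') = ext φ e he f * ext φ e he f' := by
  ext v
  have h1 : φ (f' (prj φ e he v)) = 0 := (f' (prj φ e he v)).2
  simp only [End.mul_apply, ext_apply, map_add, map_smul, he, h1, prj_e, prj_sub]
  simp

theorem det_ext [FiniteDimensional K V] (f : End K (LinearMap.ker φ)) :
    LinearMap.det (ext φ e he f) = LinearMap.det f := by
  have := LinearMap.det_conj (LinearMap.prodMap (LinearMap.id : K →ₗ[K] K) f) (spl φ e he).symm
  rw [LinearEquiv.symm_symm, LinearMap.det_prodMap, LinearMap.det_id, one_mul] at this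
  exact this

include he in
theorem finrank_ker_dual [FiniteDimensional K V] :
    finrank K V = finrank K (LinearMap.ker φ) + 1 := by
  rw [(spl φ e he).finrank_eq, finrank_prod, finrank_self, add_comm]

/-- the reduced map -/
noncomputable def red (g : End K V) (hg : φ (g e) = 1) : End K (LinearMap.ker φ) :=
  prj φ (g e) hg ∘ₗ g ∘ₗ (LinearMap.ker φ).subtype

theorem red_coe (g : End K V) (hg : φ (g e) = 1) (h : LinearMap.ker φ) :
    (red φ e g hg h : V) = g h - φ (g h) • g e := by
  simp [red, prj_coe]

theorem fact (g : End K V) (hg : φ (g e) = 1) :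
    g = LinearMap.transvection φ (g e - e) * ext φ e he (red φ e g hg) *
      LinearMap.transvection (φ ∘ₗ g - φ) e := by
  ext v
  have h1 : ∀ h : LinearMap.ker φ, φ (red φ e g hg h) = 0 := fun h => (red φ e g hg h).2
  simp only [End.mul_apply, LinearMap.transvection.apply, ext_apply, map_add, map_smul, he, h1,
    prj_e, red_coe, prj_coe, LinearMap.sub_apply, LinearMap.comp_apply, map_sub, hg, smul_eq_mul,
    map_zero, smul_zero, Submodule.coe_add, add_zero, ZeroMemClass.coe_zero]
  module

include he in
theorem det_red [FiniteDimensional K V] (g : End K V) (hg : φ (g e) = 1) :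
    LinearMap.det (red φ e g hg) = LinearMap.det g := by
  conv_rhs => rw [fact φ e he g hg]
  rw [map_mul, map_mul, LinearMap.transvection.det, LinearMap.transvection.det, det_ext]
  simp [he, hg]

theorem powL (c : LinearMap.ker φ) (L : End K (LinearMap.ker φ)) (k : ℕ) (v : V) :
    ((LinearMap.transvection φ (c : V) * ext φ e he L - 1) ^ (k + 1)) v =
      (((L - 1) ^ k) (φ v • c + (L - 1) (prj φ e he v)) : V) := by
  have hc : φ c = 0 := c.2
  have base : ∀ v, (LinearMap.transvection φ (c : V) * ext φ e he L - 1) v =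
      (φ v • c + (L - 1) (prj φ e he v) : LinearMap.ker φ) := by
    intro v
    have h1 : φ (L (prj φ e he v)) = 0 := (L (prj φ e he v)).2
    simp only [End.mul_apply, LinearMap.transvection.apply, ext_apply, map_add, map_smul, he, h1,
      LinearMap.sub_apply, End.one_apply, Submodule.coe_add, Submodule.coe_sub, prj_coe,
      Submodule.coe_smul, smul_eq_mul]
    module
  induction k with
  | zero => simpa using base v
  | succ k ih =>
    rw [pow_succ', End.mul_apply, ih, base, prj_sub, pow_succ' (L - 1), End.mul_apply]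
    have : φ (((L - 1) ^ k) (φ v • c + (L - 1) (prj φ e he v))) = 0 :=
      (((L - 1) ^ k) (φ v • c + (L - 1) (prj φ e he v))).2
    rw [this, zero_smul, zero_add]

theorem powU (r : Dual K V) (hr : r e = 0) (U : End K (LinearMap.ker φ)) (k : ℕ) (v : V) :
    ((ext φ e he U * LinearMap.transvection r e - 1) ^ (k + 1)) v =
      r (((U - 1) ^ k) (prj φ e he v)) • e + (((U - 1) ^ (k + 1)) (prj φ e he v) : V) := by
  have base : ∀ v, (ext φ e he U * LinearMap.transvection r e - 1) v =
      r (prj φ e he v) • e + ((U - 1) (prj φ e he v) : V) := by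
    intro v
    simp only [End.mul_apply, LinearMap.transvection.apply, ext_apply, map_add, map_smul, he,
      LinearMap.sub_apply, End.one_apply, Submodule.coe_sub, prj_coe, prj_e, smul_zero, add_zero,
      map_sub, hr, smul_eq_mul, mul_zero, sub_zero, mul_one, map_zero, ZeroMemClass.coe_zero]
    module
  induction k with
  | zero => simpa using base v
  | succ k ih =>
    rw [pow_succ', End.mul_apply, ih, base, map_add, map_smul, prj_e, smul_zero, zero_add, prj_sub,
      pow_succ' (U - 1) (k + 1), End.mul_apply]

end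

theorem exists_transvection {V : Type*} [AddCommGroup V] [Module K V] {g : End K V} {u : V}
    (h : ∀ v, (g - 1) v ∈ K ∙ u) : ∃ ψ : Dual K V, g = LinearMap.transvection ψ u := by
  by_cases hu : u = 0
  · refine ⟨0, ?_⟩
    ext v
    have := h v
    rw [hu, span_zero_singleton, mem_bot, LinearMap.sub_apply, sub_eq_zero] at this
    simpa using this
  · refine ⟨(LinearEquiv.toSpanNonzeroSingleton K V u hu).symm.toLinearMap ∘ₗ
      LinearMap.codRestrict _ (g - 1) h, ?_⟩
    ext v
    rw [LinearMap.transvection.apply]
    have := congrArg Subtype.val ((LinearEquiv.toSpanNonzeroSingleton K V u hu).apply_symm_apply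
      (LinearMap.codRestrict _ (g - 1) h v))
    rw [LinearEquiv.toSpanNonzeroSingleton_apply] at this
    simp only [LinearMap.codRestrict_apply, LinearMap.sub_apply, End.one_apply] at this
    simp only [LinearMap.comp_apply, LinearEquiv.coe_coe]
    rw [this]; abel

theorem Q (hK : Four K) (n : ℕ) : ∀ (V : Type v) [AddCommGroup V] [Module K V]
    [FiniteDimensional K V], finrank K V = n + 1 → ∀ g : End K V, LinearMap.det g = 1 →
    (n ≠ 0 → NS g ∧ R2 (g - 1)) → ∀ c₀ : V, c₀ ≠ 0 → ∀ r₀ : Dual K V, r₀ ≠ 0 →
    ∃ L U : End K V, g = L * U ∧ (L - 1) ^ (n + 1) = 0 ∧ ((L - 1) ^ n) c₀ ≠ 0 ∧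
      (U - 1) ^ (n + 1) = 0 ∧ ∃ v, r₀ (((U - 1) ^ n) v) ≠ 0 := by
  induction n with
  | zero =>
    intro V _ _ _ hn g hg _ c₀ hc r₀ hr
    obtain ⟨a, ha, -⟩ := LinearMap.existsUnique_eq_smul_id_of_finrank_eq_one hn g
    have h1 : a = 1 := by
      rw [ha, LinearMap.det_smul, hn] at hg
      simpa using hg
    refine ⟨1, 1, by rw [ha, h1, one_smul]; rfl, by simp, by simpa using hc, by simp, ?_⟩
    by_contra h
    push Not at h
    exact hr (LinearMap.ext fun v => by simpa using h v)
  | succ n ih =>
    intro V _ _ _ hn g hg hG c₀ hc r₀ hr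
    obtain ⟨hns, hR⟩ := hG (Nat.succ_ne_zero n)
    obtain ⟨e, e1, e2, e3, e4⟩ := pickE hK hn hns hR c₀ hr
    have hce : (g - 1) e = g e - e := rfl
    have w0 : e ∉ K ∙ (g e - e) := by
      intro h
      obtain ⟨t, ht⟩ := mem_span_singleton.1 h
      have ht0 : t ≠ 0 := by
        rintro rfl
        apply e3 0
        rw [zero_smul] at ht
        rw [← ht]; simp
      apply e3 (1 + t⁻¹)
      have : g e - e = t⁻¹ • e := by
        conv_rhs => rw [← ht]
        rw [smul_smul, inv_mul_cancel₀ ht0, one_smul]
      rw [add_smul, ← this]; simp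
    have w1 : c₀ ∉ K ∙ (g e - e) := by
      intro h
      obtain ⟨t, ht⟩ := mem_span_singleton.1 h
      have ht0 : t ≠ 0 := by
        rintro rfl
        exact hc (by rw [← ht, zero_smul])
      apply e2
      rw [hce, mem_span_singleton]
      exact ⟨t⁻¹, by rw [← ht, smul_smul, inv_mul_cancel₀ ht0, one_smul]⟩
    obtain ⟨v₂, w2⟩ := hR (g e - e)
    obtain ⟨w₃, w3, hw3⟩ : ∃ w₃ : V, w₃ ∉ K ∙ (g e - e) ∧
        ((g - 1) w₃ ∈ K ∙ g e ∨ ∀ w, (g - 1) w ∈ K ∙ g e → w ∈ K ∙ (g e - e)) := by
      by_cases h : ∀ w, (g - 1) w ∈ K ∙ g e → w ∈ K ∙ (g e - e)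
      · exact ⟨e, w0, Or.inr h⟩
      · push Not at h
        obtain ⟨w, h1, h2⟩ := h
        exact ⟨w, h2, Or.inl h1⟩
    obtain ⟨φ, p0, he, p1, p2, p3⟩ := exists_dual4 hK (g e - e) e c₀ ((g - 1) v₂) w₃ w0 w1 w2 w3
    have hge : φ (g e) = 1 := by rw [map_sub, he, sub_eq_zero] at p0; exact p0
    have hdim : finrank K (LinearMap.ker φ) = n + 1 := by
      have := finrank_ker_dual φ e he
      omega
    have hdet : LinearMap.det (red φ e g hge) = 1 := by rw [det_red φ e he, hg]
    have hdec : ∀ v, v = φ v • e + (prj φ e he v : V) := fun v => by rw [prj_coe]; abel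
    have hr' : ∃ h : LinearMap.ker φ, φ (g h) ≠ 0 := by
      refine ⟨prj φ e he v₂, fun h => p2 ?_⟩
      rw [prj_coe, map_sub, map_sub, map_smul, map_smul, hge, smul_eq_mul, mul_one] at h
      rw [LinearMap.sub_apply, map_sub]
      exact h
    have hnot : n ≠ 0 → ∀ μ : K, μ ^ (n + 1) = 1 → Rk2 (g - μ • (1 : End K V)) →
        ∀ (t : K) (w : V), (g - μ • (1 : End K V)) w = t • g e → t = 0 := by
      intro h0 μ hμ hk t w hw
      by_contra ht
      apply e4 h0 μ hμ hk
      have hμ0 : μ ≠ 0 := by rintro rfl; simp at hμ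
      have h1 : g e ∈ LinearMap.range (g - μ • (1 : End K V)) :=
        (Submodule.smul_mem_iff _ ht).1 ⟨w, hw⟩
      have h2 : g e - μ • e ∈ LinearMap.range (g - μ • (1 : End K V)) := ⟨e, sub_smul_apply _ _ _⟩
      have h3 := Submodule.sub_mem _ h1 h2
      rw [sub_sub_cancel] at h3
      exact (Submodule.smul_mem_iff _ hμ0).1 h3
    have hG' : n ≠ 0 → NS (red φ e g hge) ∧ R2 (red φ e g hge - 1) := by
      intro h0
      constructor
      · intro μ hμ
        have hμ1 : μ ^ (n + 1) = 1 := by
          rw [hμ, LinearMap.det_smul, hdim] at hdet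
          simpa using hdet
        have h1 : ∀ h : LinearMap.ker φ, (g - μ • (1 : End K V)) h = φ (g h) • g e := by
          intro h
          have := red_coe φ e g hge h
          rw [hμ] at this
          simp only [LinearMap.smul_apply, End.one_apply, Submodule.coe_smul] at this
          rw [sub_smul_apply, this]; abel
        have hk : Rk2 (g - μ • (1 : End K V)) := by
          refine ⟨e, g e, fun v => ?_⟩
          rw [hdec v, map_add, map_smul, h1, sub_smul_apply]
          have m1 : e ∈ span K ({e, g e} : Set V) := subset_span (by simp)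
          have m2 : g e ∈ span K ({e, g e} : Set V) := subset_span (by simp)
          exact add_mem (smul_mem _ _ (sub_mem m2 (smul_mem _ _ m1))) (smul_mem _ _ m2)
        obtain ⟨h, hh⟩ := hr'
        exact hh (hnot h0 μ hμ1 hk _ _ (h1 h))
      · intro u
        by_contra hu
        push Not at hu
        obtain ⟨ψ, hψ⟩ := exists_transvection hu
        have hψu : ψ u = 0 := by
          rw [hψ, LinearMap.transvection.det] at hdet
          simpa using hdet
        have h1 : ∀ h : LinearMap.ker φ, (g - 1) h = ψ h • (u : V) + φ (g h) • g e := by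
          intro h
          have := red_coe φ e g hge h
          rw [hψ, LinearMap.transvection.apply] at this
          simp only [Submodule.coe_add, Submodule.coe_smul] at this
          rw [LinearMap.sub_apply, End.one_apply]
          linear_combination (norm := module) -this
        have hn1 : Rk2 (g - 1) → ∀ (t : K) (w : V), (g - 1) w = t • g e → t = 0 := by
          have := hnot h0 1 (one_pow _)
          rwa [one_smul] at this
        rcases hw3 with hw3 | hw3
        · obtain ⟨t, ht⟩ := mem_span_singleton.1 hw3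
          have hd : ∀ v, ∃ (a : K) (h : LinearMap.ker φ), v = a • w₃ + h := by
            intro v
            refine ⟨φ v / φ w₃, ⟨v - (φ v / φ w₃) • w₃, ?_⟩, by simp⟩
            rw [LinearMap.mem_ker, map_sub, map_smul, smul_eq_mul, div_mul_cancel₀ _ p3, sub_self]
          have hk : Rk2 (g - 1) := by
            refine ⟨u, g e, fun v => ?_⟩
            obtain ⟨a, h, rfl⟩ := hd v
            have m1 : (u : V) ∈ span K ({(u : V), g e} : Set V) := subset_span (by simp)
            have m2 : g e ∈ span K ({(u : V), g e} : Set V) := subset_span (by simp)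
            rw [map_add, map_smul, h1, ← ht]
            exact add_mem (smul_mem _ _ (smul_mem _ _ m2))
              (add_mem (smul_mem _ _ m1) (smul_mem _ _ m2))
          have ht0 := hn1 hk t w₃ ht.symm
          obtain ⟨h₀, hh₀⟩ : ∃ h₀ : LinearMap.ker φ, ∀ h, ψ (h - ψ h • h₀) = 0 := by
            by_cases hz : ∃ h, ψ h ≠ 0
            · obtain ⟨h, hh⟩ := hz
              exact ⟨(ψ h)⁻¹ • h, fun k => by simp [hh]⟩
            · push Not at hz
              exact ⟨0, fun k => hz _⟩
          obtain ⟨v, hv⟩ := hR ((g - 1) h₀)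
          apply hv
          obtain ⟨a, h, rfl⟩ := hd v
          have h2 := h1 (h - ψ h • h₀)
          rw [hh₀, zero_smul, zero_add] at h2
          have h3 := hn1 hk _ _ h2
          rw [h3, zero_smul, Submodule.coe_sub, Submodule.coe_smul, map_sub, map_smul,
            sub_eq_zero] at h2
          rw [map_add, map_smul, ← ht, ht0, zero_smul, smul_zero, zero_add, h2]
          exact smul_mem _ _ (mem_span_singleton_self _)
        · have h2 := h1 u
          rw [hψu, zero_smul, zero_add] at h2
          obtain ⟨s, hs⟩ := mem_span_singleton.1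
            (hw3 u (by rw [h2]; exact smul_mem _ _ (mem_span_singleton_self _)))
          have hk : Rk2 (g - 1) := by
            refine ⟨e, g e, fun v => ?_⟩
            have m1 : e ∈ span K ({e, g e} : Set V) := subset_span (by simp)
            have m2 : g e ∈ span K ({e, g e} : Set V) := subset_span (by simp)
            rw [hdec v, map_add, map_smul, h1, hce, ← hs]
            exact add_mem (smul_mem _ _ (sub_mem m2 m1))
              (add_mem (smul_mem _ _ (smul_mem _ _ (sub_mem m2 m1))) (smul_mem _ _ m2))
          obtain ⟨h, hh⟩ := hr'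
          apply hh
          apply hn1 hk _ ((h : V) - (ψ h * s) • e)
          rw [map_sub, map_smul, h1, hce, ← hs, smul_smul]; abel
    have hc' : (⟨g e - e, p0⟩ : LinearMap.ker φ) ≠ 0 := by
      intro h
      apply e3 1
      have : g e - e = 0 := congrArg Subtype.val h
      rw [one_smul, ← sub_eq_zero, this]
    have hr'' : (φ ∘ₗ g - φ) ∘ₗ (LinearMap.ker φ).subtype ≠ 0 := by
      intro h
      obtain ⟨k, hk⟩ := hr'
      have h1 := LinearMap.congr_fun h k
      have h2 : φ k = 0 := k.2
      simp only [LinearMap.comp_apply, LinearMap.sub_apply, Submodule.subtype_apply, h2, sub_zero,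
        LinearMap.zero_apply] at h1
      exact hk h1
    obtain ⟨L, U, hLU, l1, l2, u1, v, u2⟩ := ih (LinearMap.ker φ) hdim (red φ e g hge) hdet hG'
      ⟨g e - e, p0⟩ hc' _ hr''
    have hre : (φ ∘ₗ g - φ) e = 0 := by simp [he, hge]
    refine ⟨LinearMap.transvection φ (g e - e) * ext φ e he L,
      ext φ e he U * LinearMap.transvection (φ ∘ₗ g - φ) e, ?_, ?_, ?_, ?_, v, ?_⟩
    · conv_lhs => rw [fact φ e he g hge, hLU, ext_mul]
      simp only [mul_assoc]
    · ext x
      rw [powL φ e he ⟨g e - e, p0⟩, l1]; simp
    · rw [powL φ e he ⟨g e - e, p0⟩, map_add, map_smul, ← End.mul_apply, ← pow_succ, l1]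
      simp only [LinearMap.zero_apply, add_zero, Submodule.coe_smul, ne_eq, smul_eq_zero, p1,
        ZeroMemClass.coe_eq_zero, l2, or_self, not_false_eq_true]
    · ext x
      rw [powU φ e he _ hre, pow_succ (U - 1) (n + 1), u1]; simp
    · rw [powU φ e he _ hre, u1, prj_sub]
      simp only [LinearMap.zero_apply, ZeroMemClass.coe_zero, add_zero, map_smul, smul_eq_mul]
      exact mul_ne_zero u2 e1

end H05.Lev
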