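import Mathlib
import Cfsg.Agent.H05.Lev2

/-!
Products of two regular unipotent elements (S2522), part 3.
`H05.Lev.main` (factorisation in dimension at least three), `H05.Lev.conjJ` (a regular unipotent
matrix is conjugate to the Jordan block).
-/

set_option autoImplicit false

open Module Submodule

namespace H05.Lev

universe v

variable {K : Type*} [Field K]

theorem nil (m : ℕ) : ∀ (V : Type v) [AddCommGroup V] [Module K V] [FiniteDimensional K V],
    finrank K V = m + 1 → ∀ u : V, u ≠ 0 →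
    ∃ (L : End K V) (c : V), (L - 1) ^ (m + 1) = 0 ∧ ((L - 1) ^ m) c = u := by
  induction m with
  | zero =>
    intro V _ _ _ _ u _
    exact ⟨1, u, by simp, by simp⟩
  | succ m ih =>
    intro V _ _ _ hn u hu
    obtain ⟨φ, he⟩ := Projective.exists_dual_eq_one K hu
    have hdim : finrank K (LinearMap.ker φ) = m + 1 := by
      have := finrank_ker_dual φ u he
      omega
    haveI : Nontrivial (LinearMap.ker φ) := Module.nontrivial_of_finrank_pos (R := K) (by omega)
    obtain ⟨u', hu'⟩ := exists_ne (0 : LinearMap.ker φ)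
    obtain ⟨L, c, h1, h2⟩ := ih (LinearMap.ker φ) hdim u' hu'
    obtain ⟨ρ, hρ⟩ := Projective.exists_dual_eq_one K hu'
    have hr : (ρ ∘ₗ prj φ u he) u = 0 := by simp [prj_e]
    refine ⟨ext φ u he L * LinearMap.transvection (ρ ∘ₗ prj φ u he) u, c, ?_, ?_⟩
    · ext x
      rw [powU φ u he _ hr, pow_succ (L - 1) (m + 1), h1]; simp
    · rw [powU φ u he _ hr, h1, prj_sub, h2]
      simp [prj_sub, hρ]

theorem main (hK : Four K) {V : Type*} [AddCommGroup V] [Module K V] [FiniteDimensional K V]
    {m : ℕ} (hn : finrank K V = m + 2 + 1) (g : End K V) (hg : LinearMap.det g = 1) (hns : NS g) :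
    ∃ L U : End K V, g = L * U ∧ (L - 1) ^ (m + 2 + 1) = 0 ∧ (∃ v, ((L - 1) ^ (m + 2)) v ≠ 0) ∧
      (U - 1) ^ (m + 2 + 1) = 0 ∧ ∃ v, ((U - 1) ^ (m + 2)) v ≠ 0 := by
  haveI : Nontrivial V := Module.nontrivial_of_finrank_pos (R := K) (by omega)
  by_cases hR : R2 (g - 1)
  · obtain ⟨c, hc⟩ := exists_ne (0 : V)
    obtain ⟨r, hr⟩ := Projective.exists_dual_eq_one K hc
    obtain ⟨L, U, h1, h2, h3, h4, v, h5⟩ := Q hK (m + 2) V hn g hg (fun _ => ⟨hns, hR⟩) c hc r
      (by rintro rfl; simp at hr)
    exact ⟨L, U, h1, h2, ⟨c, h3⟩, h4, v, fun h => h5 (by rw [h, map_zero])⟩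
  · obtain ⟨u, hu⟩ : ∃ u, ∀ v, (g - 1) v ∈ K ∙ u := by
      by_contra h
      push Not at h
      exact hR h
    obtain ⟨ψ, hψ⟩ := exists_transvection hu
    have hψu : ψ u = 0 := by
      rw [hψ, LinearMap.transvection.det] at hg
      simpa using hg
    have hu0 : u ≠ 0 := by
      rintro rfl
      apply hns 1
      rw [hψ]; simp; rfl
    obtain ⟨e, he⟩ : ∃ e, ψ e = 1 := by
      by_cases h : ∃ x, ψ x ≠ 0
      · obtain ⟨x, hx⟩ := h
        exact ⟨(ψ x)⁻¹ • x, by simp [hx]⟩
      · push Not at h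
        exfalso
        apply hns 1
        rw [hψ]; ext x; simp [LinearMap.transvection.apply, h]
    have hdim : finrank K (LinearMap.ker ψ) = m + 1 + 1 := by
      have := finrank_ker_dual ψ e he
      omega
    obtain ⟨L', c, h1, h2⟩ := nil (m + 1) (LinearMap.ker ψ) hdim ⟨u, hψu⟩
      (fun h => hu0 (congrArg Subtype.val h))
    obtain ⟨N, hN⟩ : ∃ N, N = LinearMap.transvection ψ (c : V) * ext ψ e he L' - 1 := ⟨_, rfl⟩
    have k1 : ∀ v, (N ^ (m + 2)) v = ψ v • u := by
      intro v
      rw [hN, powL ψ e he, map_add, map_smul, ← End.mul_apply, ← pow_succ, h1, h2]; simp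
    have k2 : N ^ (m + 2 + 1) = 0 := by
      ext x
      rw [hN, powL ψ e he, h1]; simp
    have k3 : g = 1 + N ^ (m + 2) := by
      ext x; rw [hψ, LinearMap.transvection.apply, LinearMap.add_apply, k1]; rfl
    have k4 : (N ^ (m + 2)) e ≠ 0 := by rw [k1, he, one_smul]; exact hu0
    have hnil : IsNilpotent N := ⟨_, k2⟩
    obtain ⟨a, ha⟩ := hnil.isUnit_one_add
    have hnil2 : IsNilpotent (N ^ (m + 1)) := hnil.pow_succ m
    obtain ⟨b, hb⟩ := hnil2.isUnit_sub_one
    have c1 : Commute N (↑a⁻¹ : End K V) := by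
      apply Commute.units_inv_right
      rw [ha]; exact (Commute.one_right N).add_right (Commute.refl N)
    have c2 : Commute N (b : End K V) := by
      rw [hb]; exact ((Commute.refl N).pow_right _).sub_right (Commute.one_right N)
    have k5 : (↑a⁻¹ : End K V) * g - 1 = N * ↑(a⁻¹ * b) := by
      rw [Units.val_mul, ← mul_assoc, c1.eq, mul_assoc, hb, mul_sub, ← pow_succ', mul_one, k3]
      have : (↑a⁻¹ : End K V) * (1 + N) = 1 := by rw [← ha, Units.inv_mul]
      calc _ = (↑a⁻¹ : End K V) * (1 + N ^ (m + 2)) - ↑a⁻¹ * (1 + N) := by rw [this]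
        _ = _ := by rw [← mul_sub]; congr 1; abel
    have c3 : Commute N (↑(a⁻¹ * b) : End K V) := by
      rw [Units.val_mul]; exact c1.mul_right c2
    refine ⟨1 + N, ↑a⁻¹ * g, by rw [← ha, Units.mul_inv_cancel_left], by simpa using k2,
      ⟨e, by simpa using k4⟩, by rw [k5, c3.mul_pow, k2, zero_mul], ?_⟩
    refine ⟨(↑((a⁻¹ * b) ^ (m + 2))⁻¹ : End K V) e, ?_⟩
    rw [k5, c3.mul_pow, ← End.mul_apply, ← Units.val_pow_eq_pow_val, Units.mul_inv_cancel_right]
    exact k4

theorem li_pow {V : Type*} [AddCommGroup V] [Module K V] {N : End K V} {m : ℕ} {v : V}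
    (h1 : N ^ (m + 1) = 0) (h2 : (N ^ m) v ≠ 0) :
    LinearIndependent K (fun j : Fin (m + 1) => (N ^ (m - (j : ℕ))) v) := by
  rw [Fintype.linearIndependent_iff]
  intro a ha
  have key : ∀ k : ℕ, ∀ j : Fin (m + 1), m - j = k → a j = 0 := by
    intro k
    induction k using Nat.strong_induction_on with
    | _ k ih =>
      intro j hj
      have h3 := congrArg (N ^ (j : ℕ)) ha
      rw [map_sum, map_zero, Finset.sum_eq_single j] at h3
      · rw [map_smul, ← End.mul_apply, ← pow_add, Nat.add_sub_cancel' (Nat.lt_succ_iff.1 j.2)] at h3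
        exact (smul_eq_zero.1 h3).resolve_right h2
      · intro i _ hij
        have hi := i.2
        have hj' := j.2
        have hne : (i : ℕ) ≠ j := fun h => hij (Fin.ext h)
        by_cases hlt : (i : ℕ) < j
        · rw [map_smul, ← End.mul_apply, ← pow_add,
            show (j : ℕ) + (m - i) = (j + (m - i) - (m + 1)) + (m + 1) by omega, pow_add, h1]
          simp
        · rw [ih (m - i) (by omega) i rfl]; simp
      · simp
  exact fun j => key _ j rfl

theorem conjJ {m : ℕ} (J : Matrix (Fin (m + 1)) (Fin (m + 1)) K)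
    (hJ : ∀ i j, J i j = if i = j then 1 else if j.val = i.val + 1 then 1 else 0)
    (L : End K (Fin (m + 1) → K)) (h1 : (L - 1) ^ (m + 1) = 0) (h2 : ∃ v, ((L - 1) ^ m) v ≠ 0) :
    ∃ x : GL (Fin (m + 1)) K, LinearMap.toMatrix' L = x.val * J * (x⁻¹).val := by
  obtain ⟨v, h2⟩ := h2
  let b := basisOfLinearIndependentOfCardEqFinrank (li_pow h1 h2) (by simp)
  have hb : ∀ j, b j = ((L - 1) ^ (m - (j : ℕ))) v := fun j => by
    simp [b, coe_basisOfLinearIndependentOfCardEqFinrank]
  have hL : LinearMap.toMatrix b b L = J := by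
    ext i j
    rw [LinearMap.toMatrix_apply, hJ]
    have e1 : L (b j) = b j + (L - 1) (b j) := by simp
    by_cases hj : (j : ℕ) = 0
    · have : (L - 1) (b j) = 0 := by
        rw [hb, ← End.mul_apply, ← pow_succ', hj, Nat.sub_zero, h1]; rfl
      rw [e1, this, add_zero, b.repr_self, Finsupp.single_apply]
      by_cases hij : i = j
      · simp [hij]
      · rw [if_neg (Ne.symm hij), if_neg hij, if_neg (by omega)]
    · have hj' := j.2
      have : (L - 1) (b j) = b ⟨j - 1, by omega⟩ := by
        rw [hb, hb, ← End.mul_apply, ← pow_succ']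
        congr 2
        simp only; omega
      rw [e1, this, map_add, b.repr_self, b.repr_self, Finsupp.add_apply, Finsupp.single_apply,
        Finsupp.single_apply]
      by_cases hij : i = j
      · subst hij
        rw [if_pos rfl, if_neg (fun h => by have := congrArg Fin.val h; simp only at this; omega),
          add_zero, if_pos rfl]
      · rw [if_neg (Ne.symm hij), if_neg hij, zero_add]
        by_cases h : (j : ℕ) = i + 1
        · rw [if_pos h, if_pos (Fin.ext (by simp only; omega))]
        · rw [if_neg h, if_neg (fun h' => by have := congrArg Fin.val h'; simp only at this; omega)]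
  refine ⟨⟨(Pi.basisFun K _).toMatrix b, b.toMatrix (Pi.basisFun K _),
    Basis.toMatrix_mul_toMatrix_flip _ _, Basis.toMatrix_mul_toMatrix_flip _ _⟩, ?_⟩
  rw [← hL, ← LinearMap.toMatrix_eq_toMatrix']
  exact (basis_toMatrix_mul_linearMap_toMatrix_mul_basis_toMatrix _ _ _ _ _).symm

end H05.Lev
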