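import Cfsg.Agent.H28.Lp0

/-! Part C of the `²E₆(2)` local cluster: centralizers of torus elements (`H05.LpC.c`). -/

set_option autoImplicit false

open H11 Cfsg Cfsg.Lie StSys H28.Tw H28.Lp Subgroup

namespace H05.LpC

universe u

theorem ex_xi (Ω : Type u) [Field Ω] [Uncountable Ω] [CharP Ω 2] : ∃ ξ : Ωˣ, Function.Injective fun n : ℤ => ξ ^ n := by
  let _ : Algebra (ZMod 2) Ω := ZMod.algebra Ω 2
  have h := Algebraic.countable (ZMod 2) Ω
  obtain ⟨x, hx⟩ : ∃ x : Ω, ¬ IsAlgebraic (ZMod 2) x := by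
    by_contra! H
    rw [show {x : Ω | IsAlgebraic (ZMod 2) x} = Set.univ from Set.eq_univ_of_forall H] at h
    exact Set.not_countable_univ h
  have x0 : x ≠ 0 := by rintro rfl; exact hx isAlgebraic_zero
  refine ⟨Units.mk0 x x0, injective_zpow_iff_not_isOfFinOrder.2 fun H => hx ?_⟩
  obtain ⟨n, hn, e⟩ := isOfFinOrder_iff_pow_eq_one.1 H
  have e' : x ^ n = 1 := by simpa using congrArg Units.val e
  exact IsAlgebraic.of_pow hn (e' ▸ isAlgebraic_one)

variable {Ω : Type u} [Field Ω]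

theorem cen_iff (c : Node chevE6 → Ωˣ) : tor Ω c ∈ center (GG Ω) ↔ ∀ r, chiOf c r = 1 := by
  rw [center_eq_map hMul_sg (sgSys_grp _ _), ← mem_ker_cartan]
  exact ⟨fun ⟨d, hd, e⟩ => torS_sgE6 e ▸ hd, fun h => ⟨c, h, rfl⟩⟩

theorem comm_US {T : Set (Root chevE6)} {t : Node chevE6 → Ωˣ} (h : ∀ r ∈ T, chiOf t r = 1) :
    (SS Ω).US T ≤ centralizer {tor Ω t} := US_le.2 fun r hr a => by
  rintro _ rfl
  simpa [h r hr, mul_inv_eq_iff_eq_mul] using torS_conj hMul_sg t r a

theorem pres {C : Set (Node chevE6 → Ωˣ)} {m : (SS Ω).N} (hm : m.1 ∈ centralizer (tor Ω '' C)) :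
    ∀ c ∈ C, ∀ r, chiOf c (((SS Ω).π m).1 r) = chiOf c r := fun c hc r =>
  chiOf_π hMul_sg (congrArg (SS Ω).θ (mul_inv_eq_of_eq_mul (hm _ ⟨c, hc, rfl⟩).symm)) r

theorem c : H28.Lp.CStmt.{u} := by
  intro Ω _ _ _ _
  obtain ⟨ξ, hξ⟩ := ex_xi Ω
  refine ⟨fun C t h1 h2 g hg => ?_, fun s hs => ?_, fun C h1 h2 e he e2 => ?_, fun c r h => ?_, cen_iff, fun c Ψ h => ?_, ξ, hξ⟩
  · obtain ⟨u, hu, m, hm, v, hv, rfl⟩ := cent_bruhat hMul_sg (sgSys_grp _ _) hg
    have u1 := comm_US (t := t) (fun r hr => h1 r hr.2) hu _ rfl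
    have v1 := comm_US (t := t) (fun r hr => h1 r hr.2) hv _ rfl
    have p := pres hm
    have p' := h2 ((SS Ω).π m)⁻¹ fun c hc r => by rw [← p c hc]; simp
    have e := conj_torS hMul_sg (Weyl.aut _) (acts_π m) t
    have z : tor Ω (mact (corM ((SS Ω).π m).1) t * t⁻¹) ∈ center (GG Ω) := by
      rw [cen_iff]
      have := (isChar_chiOf (mact (corM ((SS Ω).π m).1) t)).ext (isChar_chiOf t) fun i => by
        rw [← p' i, ← chiOf_mact (Weyl.aut ((SS Ω).π m)) t]; simp
      intro r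
      rw [chiOf_mul, this, ← chiOf_mul, mul_inv_cancel]; simp [chiOf]
    rw [map_mul, map_inv, ← e] at z
    have z' := mem_center_iff.1 z u
    change tor Ω t * u = u * tor Ω t at u1
    change tor Ω t * v = v * tor Ω t at v1
    change u * (m.1 * tor Ω t * m.1⁻¹ * (tor Ω t)⁻¹) = m.1 * tor Ω t * m.1⁻¹ * (tor Ω t)⁻¹ * u at z'
    change m.1 * tor Ω t * m.1⁻¹ * (tor Ω t)⁻¹ ∈ _ at z
    generalize tor Ω t = T at *
    generalize m.1 = M at *
    have : u * M * v * T * (u * M * v)⁻¹ * T⁻¹ = M * T * M⁻¹ * T⁻¹ := by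
      calc _ = u * M * (v * T) * v⁻¹ * M⁻¹ * u⁻¹ * T⁻¹ := by group
        _ = u * (M * T * M⁻¹ * T⁻¹) * (T * u⁻¹ * T⁻¹) := by rw [← v1]; group
        _ = M * T * M⁻¹ * T⁻¹ * (u * T) * u⁻¹ * T⁻¹ := by rw [z']; group
        _ = _ := by rw [← u1]; group
    rwa [this]
  · have hz := hs _ (torS_mem hMul_sg fun i => ξ ^ phiV chevE6 i)
    have z3 : ∀ z ∈ center (GG Ω), z ^ 3 = 1 := fun z hz => by
      rw [center_eq_map hMul_sg (sgSys_grp _ _)] at hz
      obtain ⟨d, hd, rfl⟩ := hz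
      rw [← map_pow, cart3 hd, map_one]
    have h3 := z3 _ hz
    have e : (torS hMul_sg fun i => (ξ ^ (3 : ℤ)) ^ phiV chevE6 i : GG Ω) = (torS hMul_sg fun i => ξ ^ phiV chevE6 i) ^ 3 := by
      rw [← map_pow]; congr 1; ext1 i
      rw [Pi.pow_apply, ← zpow_mul, mul_comm, zpow_mul]; rfl
    rw [← cent_eq_H hMul_sg (sgSys_grp _ _) (c := fun i => (ξ ^ (3 : ℤ)) ^ phiV chevE6 i) fun w hw => ?_]
    · rintro _ rfl
      rw [e]
      have hc := mem_center_iff.1 hz
      generalize (torS hMul_sg fun i => ξ ^ phiV chevE6 i : GG Ω) = h at *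
      have a : h * s = (h * s * h⁻¹ * s⁻¹) * (s * h) := by group
      generalize h * s * h⁻¹ * s⁻¹ = z at *
      calc h ^ 3 * s = h * h * (h * s) := by simp [pow_succ, mul_assoc]
        _ = h * (h * z) * s * h := by rw [a]; group
        _ = h * (z * h) * s * h := by rw [hc h]
        _ = h * z * (h * s) * h := by group
        _ = (h * z) * z * s * h * h := by rw [a]; group
        _ = (z * h) * z * s * h * h := by rw [hc h]
        _ = z * (h * z) * s * h * h := by group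
        _ = z * (z * h) * s * h * h := by rw [hc h]
        _ = z * z * (h * s) * h * h := by group
        _ = z ^ 3 * (s * h ^ 3) := by rw [a]; simp [pow_succ, mul_assoc]
        _ = _ := by rw [h3, one_mul]
    · refine Subtype.ext (Equiv.ext fun r => phi_strictMono.injective ?_)
      have := hw r
      rw [chiOf_zpow, chiOf_zpow, ← zpow_mul, ← zpow_mul] at this
      have := hξ this
      change fv (phiV chevE6) (w.1 r) = fv (phiV chevE6) r
      omega
  · obtain ⟨u, hu, m, hm, v, hv, rfl⟩ := cent_bruhat hMul_sg (sgSys_grp _ _) he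
    have k : ∀ {T : Set (Root chevE6)} {u}, (∀ r ∈ T, ∀ c ∈ C, chiOf c r = 1) → u ∈ (SS Ω).US T → u = 1 := fun {T u} a b => by
      rw [show T = ∅ from Set.eq_empty_of_forall_notMem fun r hr => by
        obtain ⟨c, c1, c2⟩ := h1 r; exact c2 (a r hr c c1), US_empty] at b
      exact b
    rw [k (fun r hr => hr.2) hu, k (fun r hr => hr.2) hv, one_mul, mul_one] at e2 ⊢
    obtain ⟨d, hd⟩ := (torS_range hMul_sg).ge (π_eq_one_iff.1 (h2 _ (pres hm)))
    rw [← hd, ← map_pow, ← map_one (torS hMul_sg)] at e2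
    have := torS_sgE6 e2
    rw [← hd, show d = 1 from funext fun i => Units.ext ?_, map_one]
    have a : (d i : Ω) ^ 2 = 1 := by simpa using congrArg Units.val (congrFun this i)
    have b : ((d i : Ω) - 1) ^ 2 = 0 := by rw [sub_pow_char, a]; simp
    simpa [sub_eq_zero] using b
  · rw [mul_assoc, mul_assoc, ← mul_assoc (tor Ω c), x_inv, torS_conj, (SS Ω).add, center_eq_ker (sgSys_grp _ _)] at h
    have := x_eq_one h
    exact Units.ext (by rw [Units.val_one]; linear_combination -this)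
  · refine sup_le (fun y hy => ?_) (comm_US h)
    obtain ⟨d, rfl⟩ := (torS_range hMul_sg).ge hy
    rintro _ rfl; rw [← map_mul, ← map_mul, mul_comm]

end H05.LpC
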