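import Mathlib
import Cfsg.Agent.H05.Ito

/-! Finite projective planes with a collineation group (`H05.Pl`): central collineations, elation
groups, fixed subplanes (`Pl.sub`), Baer's theorem on involutions. -/

set_option autoImplicit false
open Subgroup MulAction H05.Ito

namespace H05

theorem dvd_of_fibers' {α β : Type*} [Finite α] (s : Set α) (f : α → β) (m : ℕ)
    (hm : ∀ a ∈ s, m ∣ {b | b ∈ s ∧ f b = f a}.ncard) : m ∣ s.ncard := by
  classical
  have hs := s.toFinite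
  rw [Set.ncard_eq_toFinset_card s hs, Finset.card_eq_sum_card_image f]
  refine Finset.dvd_sum fun y hy => ?_
  obtain ⟨a, ha, rfl⟩ := Finset.mem_image.1 hy
  have := hm a (by simpa using ha)
  rwa [← Set.ncard_coe_finset, show ((hs.toFinset.filter fun x => f x = f a : Finset α) : Set α) =
    {b | b ∈ s ∧ f b = f a} by ext; simp]

variable {G P L : Type*} [Group G] [MulAction G P] [MulAction G L]

theorem dvd_of_orbits [Finite P] (U : Subgroup G) (s : Set P) (m : ℕ)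
    (hs : ∀ u ∈ U, ∀ x ∈ s, u • x ∈ s) (hm : ∀ x ∈ s, m ∣ (orbit U x).ncard) : m ∣ s.ncard := by
  refine dvd_of_fibers' s (orbit U) m fun a ha => ?_
  convert hm a ha using 2
  ext b
  refine ⟨fun hb => orbit_eq_iff.1 hb.2, fun hb => ⟨?_, orbit_eq_iff.2 hb⟩⟩
  obtain ⟨u, rfl⟩ := hb
  exact hs u u.2 a ha

/-- configuration of three points and three lines in general position -/
def Cfg (I : P → L → Prop) (S : Set P) (T : Set L) : Prop :=
  ∃ p₁ ∈ S, ∃ p₂ ∈ S, ∃ p₃ ∈ S, ∃ l₁ ∈ T, ∃ l₂ ∈ T, ∃ l₃ ∈ T, ¬ I p₁ l₂ ∧ ¬ I p₁ l₃ ∧ ¬ I p₂ l₁ ∧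
    I p₂ l₂ ∧ I p₂ l₃ ∧ ¬ I p₃ l₁ ∧ I p₃ l₂ ∧ ¬ I p₃ l₃

theorem Cfg.dual {I : P → L → Prop} {S : Set P} {T : Set L} (h : Cfg I S T) : Cfg (flip I) T S := by
  obtain ⟨p₁, a1, p₂, a2, p₃, a3, l₁, b1, l₂, b2, l₃, b3, h1, h2, h3, h4, h5, h6, h7, h8⟩ := h
  exact ⟨l₁, b1, l₂, b2, l₃, b3, p₁, a1, p₂, a2, p₃, a3, h3, h6, h1, h4, h7, h2, h5, h8⟩

theorem Cfg.mono {I : P → L → Prop} {S S' : Set P} {T T' : Set L} (h : Cfg I S T) (hS : S ⊆ S')
    (hT : T ⊆ T') : Cfg I S' T' := by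
  obtain ⟨p₁, a1, p₂, a2, p₃, a3, l₁, b1, l₂, b2, l₃, b3, H⟩ := h
  exact ⟨p₁, hS a1, p₂, hS a2, p₃, hS a3, l₁, hT b1, l₂, hT b2, l₃, hT b3, H⟩

theorem exists_order [Finite P] [Finite L] (I : P → L → Prop)
    (join : ∀ x y, x ≠ y → ∃ l, I x l ∧ I y l) (meet : ∀ l k, l ≠ k → ∃ x, I x l ∧ I x k)
    (uniq : ∀ {x y l k}, I x l → I y l → I x k → I y k → x = y ∨ l = k)
    (cfg : Cfg I Set.univ Set.univ) : ∃ n, 2 ≤ n ∧ (∀ l, {x | I x l}.ncard = n + 1) ∧
      (∀ x, {l | I x l}.ncard = n + 1) ∧ Nat.card P = n ^ 2 + n + 1 ∧ Nat.card L = n ^ 2 + n + 1 := by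
  obtain ⟨p₁, -, p₂, -, p₃, -, l₁, -, l₂, -, l₃, -, h1, h2, h3, h4, h5, h6, h7, h8⟩ := cfg
  letI : Membership P L := ⟨fun l x => I x l⟩
  haveI := Fintype.ofFinite P
  haveI := Fintype.ofFinite L
  letI : Configuration.ProjectivePlane P L :=
    { exists_point := fun l => by
        by_contra! H
        rcases uniq h4 h7 (H p₂) (H p₃) with e | e
        · exact h8 (e ▸ h5)
        · exact h1 (e ▸ H p₁)
      exists_line := fun p => by
        by_contra! H
        rcases uniq h4 (H l₂) h5 (H l₃) with e | e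
        · exact h3 (e ▸ H l₁)
        · exact h8 (e ▸ h7)
      eq_or_eq := uniq
      mkPoint := fun {l k} h => (meet l k h).choose
      mkPoint_ax := fun {l k} h => (meet l k h).choose_spec
      mkLine := fun {x y} h => (join x y h).choose
      mkLine_ax := fun {x y} h => (join x y h).choose_spec
      exists_config := ⟨p₁, p₂, p₃, l₁, l₂, l₃, h1, h2, h3, h4, h5, h6, h7, h8⟩ }
  refine ⟨Configuration.ProjectivePlane.order P L, Configuration.ProjectivePlane.one_lt_order P L,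
    fun l => Configuration.ProjectivePlane.pointCount_eq P l,
    fun x => Configuration.ProjectivePlane.lineCount_eq L x, ?_, ?_⟩
  · rw [Nat.card_eq_fintype_card, Configuration.ProjectivePlane.card_points P L]
  · rw [Nat.card_eq_fintype_card, Configuration.ProjectivePlane.card_lines P L]

/-- a projective plane of order `n` with a faithful collineation group -/
structure Pl (G : Type*) {P L : Type*} [Group G] [MulAction G P] [MulAction G L]
    (I : P → L → Prop) (n : ℕ) : Prop where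
  join' : ∀ x y, x ≠ y → ∃ l, I x l ∧ I y l
  meet' : ∀ l k, l ≠ k → ∃ x, I x l ∧ I x k
  uniq : ∀ {x y l k}, I x l → I y l → I x k → I y k → x = y ∨ l = k
  two : 2 ≤ n
  pts : ∀ l, {x | I x l}.ncard = n + 1
  lns : ∀ x, {l | I x l}.ncard = n + 1
  cardP : Nat.card P = n ^ 2 + n + 1
  cardL : Nat.card L = n ^ 2 + n + 1
  inv : ∀ (g : G) x l, I x l → I (g • x) (g • l)
  faith : ∀ g : G, (∀ x : P, g • x = x) → g = 1
  faith' : ∀ g : G, (∀ l : L, g • l = l) → g = 1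

/-- fixed points of `U` with the action of the normaliser -/
def fx (α : Type*) [MulAction G α] (U : Subgroup G) : SubMulAction (normalizer (U : Set G)) α where
  carrier := {x | ∀ u ∈ U, u • x = x}
  smul_mem' := fun g x hx y hy => inv_smul_eq_iff.1 (show (g : G)⁻¹ • y • (g : G) • x = x by
    rw [← mul_smul, ← mul_smul]; exact hx _ ((mem_normalizer_iff''.1 g.2 y).1 hy))

theorem mem_fx {U : Subgroup G} {x : P} : x ∈ fx P U ↔ ∀ u ∈ U, u • x = x := Iff.rfl

theorem smul_fx {U : Subgroup G} {x : P} {g : G} (hg : g ∈ normalizer (U : Set G)) (hx : x ∈ fx P U) :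
    g • x ∈ fx P U := (fx P U).smul_mem' ⟨g, hg⟩ hx

variable (P L) in
/-- the group induced on the fixed structure of `U` -/
def Gm (U : Subgroup G) : Type _ :=
  ((toPermHom (normalizer (U : Set G)) (fx P U)).prod (toPermHom _ (fx L U))).range

instance (U : Subgroup G) : Group (Gm P L U) := inferInstanceAs (Group (MonoidHom.range _))

instance (U : Subgroup G) : MulAction (Gm P L U) (fx P U) :=
  MulAction.compHom _ ((MonoidHom.fst _ _).comp (Subgroup.subtype _))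

instance (U : Subgroup G) : MulAction (Gm P L U) (fx L U) :=
  MulAction.compHom _ ((MonoidHom.snd _ _).comp (Subgroup.subtype _))

instance [Finite P] [Finite L] (U : Subgroup G) : Finite (Gm P L U) :=
  inferInstanceAs (Finite (MonoidHom.range _))

variable (P L) in
/-- restriction to the fixed structure -/
def res (U : Subgroup G) : normalizer (U : Set G) →* Gm P L U := MonoidHom.rangeRestrict _

theorem res_surj (U : Subgroup G) : Function.Surjective (res P L U) :=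
  MonoidHom.rangeRestrict_surjective _

theorem res_pt {U : Subgroup G} (g : normalizer (U : Set G)) (x : fx P U) :
    ((res P L U g • x : fx P U) : P) = (g : G) • (x : P) := rfl

theorem res_ln {U : Subgroup G} (g : normalizer (U : Set G)) (x : fx L U) :
    ((res P L U g • x : fx L U) : L) = (g : G) • (x : L) := rfl

theorem gm_ext {U : Subgroup G} {γ : Gm P L U} (h1 : ∀ x : fx P U, γ • x = x)
    (h2 : ∀ x : fx L U, γ • x = x) : γ = 1 :=
  Subtype.ext (Prod.ext (Equiv.ext h1) (Equiv.ext h2))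

/-- incidence in the fixed structure -/
abbrev Ir (I : P → L → Prop) (U : Subgroup G) : fx P U → fx L U → Prop := fun x l => I x l

theorem ncard_sub {S : Set P} (p : P → Prop) : {x : S | p x}.ncard = {x | x ∈ S ∧ p x}.ncard := by
  rw [← Set.ncard_image_of_injective _ Subtype.val_injective]
  congr 1; ext; simp [and_comm]

namespace Pl
variable {I : P → L → Prop} {n : ℕ} (h : Pl G I n)
include h

theorem dual : Pl G (flip I) n :=
  ⟨h.meet', h.join', fun a b c d => (h.uniq a c b d).symm, h.two, h.lns, h.pts, h.cardL, h.cardP,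
    fun g l x e => h.inv g x l e, h.faith', h.faith⟩

theorem finP : Finite P := Nat.finite_of_card_ne_zero (by rw [h.cardP]; omega)
theorem finL : Finite L := h.dual.finP

theorem inv_iff (g : G) (x : P) (l : L) : I (g • x) (g • l) ↔ I x l :=
  ⟨fun e => by simpa using h.inv g⁻¹ _ _ e, h.inv g x l⟩

theorem inv_pt {g : G} {x : P} {l : L} (hl : g • l = l) (hx : I x l) : I (g • x) l := by
  simpa [hl] using h.inv g x l hx

theorem inv_ln {g : G} {x : P} {l : L} (hl : g • x = x) (hx : I x l) : I x (g • l) := h.dual.inv_pt hl hx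

theorem ln_eq {x y : P} {l k : L} (hxy : x ≠ y) (a : I x l) (b : I y l) (c : I x k) (d : I y k) :
    l = k := (h.uniq a b c d).resolve_left hxy

theorem pt_eq {x y : P} {l k : L} (hlk : l ≠ k) (a : I x l) (b : I x k) (c : I y l) (d : I y k) :
    x = y := (h.uniq a c b d).resolve_right hlk

theorem exists_pt (l : L) (x y : P) : ∃ z, I z l ∧ z ≠ x ∧ z ≠ y := by
  by_contra! H
  have : {z | I z l} ⊆ {x, y} := fun z hz => by
    by_cases e : z = x
    · simp [e]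
    · simp [H z hz e]
  have h1 := Set.ncard_le_ncard this
  have h2 := Set.ncard_insert_le x {y}
  rw [Set.ncard_singleton] at h2
  have := h.two
  rw [h.pts] at h1; omega

theorem exists_ln (x : P) (l k : L) : ∃ j, I x j ∧ j ≠ l ∧ j ≠ k := h.dual.exists_pt x l k

theorem neP : Nonempty P := (Nat.card_pos_iff.1 (by rw [h.cardP]; omega)).1
theorem neL : Nonempty L := h.dual.neP

theorem join (x y : P) : ∃ l, I x l ∧ I y l := by
  by_cases e : x = y
  · obtain ⟨k⟩ := h.neL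
    obtain ⟨l, hl, -⟩ := h.exists_ln x k k
    exact ⟨l, hl, e ▸ hl⟩
  · exact h.join' x y e

theorem meet (l k : L) : ∃ x, I x l ∧ I x k := h.dual.join l k

theorem exists_off (l k : L) : ∃ x, ¬ I x l ∧ ¬ I x k := by
  obtain ⟨c, h1, h2⟩ := h.meet l k
  obtain ⟨j, h3, h4, h5⟩ := h.exists_ln c l k
  obtain ⟨x, h6, h7, -⟩ := h.exists_pt j c c
  exact ⟨x, fun e => h4 (h.ln_eq h7 h6 h3 e h1), fun e => h5 (h.ln_eq h7 h6 h3 e h2)⟩

theorem exists_off' (x y : P) : ∃ l, ¬ I x l ∧ ¬ I y l := h.dual.exists_off x y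

theorem fix_ln {g : G} {x y : P} {l : L} (hxy : x ≠ y) (a : I x l) (b : I y l) (gx : g • x = x)
    (gy : g • y = y) : g • l = l := h.ln_eq hxy (h.inv_ln gx a) (h.inv_ln gy b) a b

theorem fix_pt {g : G} {x : P} {l k : L} (hlk : l ≠ k) (a : I x l) (b : I x k) (gl : g • l = l)
    (gk : g • k = k) : g • x = x := h.dual.fix_ln hlk a b gl gk

theorem card_off (l : L) : {x | ¬ I x l}.ncard = n ^ 2 := by
  haveI := h.finP
  have := Set.ncard_add_ncard_compl {x | I x l}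
  rw [h.pts, h.cardP] at this
  change _ + {x | ¬ I x l}.ncard = _ at this
  omega

theorem card_ln_diff {x : P} {l : L} (hx : I x l) : {y | I y l ∧ y ≠ x}.ncard = n := by
  have := Set.ncard_sdiff_singleton_of_mem (show x ∈ {y | I y l} from hx)
  rw [h.pts] at this
  exact this

theorem cconj {g a : G} {x : P} (ha : a ∈ Kc G I x) : g * a * g⁻¹ ∈ Kc G I (g • x) := fun b hb => by
  rw [mul_smul, mul_smul, ha, smul_inv_smul]
  simpa using h.inv g⁻¹ _ _ hb

theorem aconj {g a : G} {l : L} (ha : a ∈ Kc G (flip I) l) : g * a * g⁻¹ ∈ Kc G (flip I) (g • l) :=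
  h.dual.cconj ha

theorem cfix {g : G} {c : P} (hg : g ∈ Kc G I c) : g • c = c := by
  obtain ⟨k⟩ := h.neL
  obtain ⟨l, h1, -⟩ := h.exists_ln c k k
  obtain ⟨j, h2, h3, -⟩ := h.exists_ln c l l
  exact h.fix_pt h3 h2 h1 (hg j h2) (hg l h1)

theorem afix {g : G} {a : L} (hg : g ∈ Kc G (flip I) a) : g • a = a := h.dual.cfix hg

theorem two_c {g : G} {c d : P} (hcd : c ≠ d) (hc : g ∈ Kc G I c) (hd : g ∈ Kc G I d) : g = 1 := by
  obtain ⟨l, h1, h2⟩ := h.join c d
  have k1 : ∀ x, ¬ I x l → g • x = x := fun x hx => by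
    obtain ⟨j, h3, h4⟩ := h.join x c
    obtain ⟨k, h5, h6⟩ := h.join x d
    refine h.fix_pt (fun e => hx ?_) h3 h5 (hc j h4) (hd k h6)
    subst e
    exact h.ln_eq hcd h4 h6 h1 h2 ▸ h3
  have k2 : ∀ j, j ≠ l → g • j = j := fun j hj => by
    obtain ⟨x, h3, h4⟩ := h.meet j l
    obtain ⟨y, h5, h6, -⟩ := h.exists_pt j x x
    obtain ⟨z, h7, h8, h9⟩ := h.exists_pt j x y
    exact h.fix_ln h9 h7 h5 (k1 z fun e => h8 (h.pt_eq hj h7 e h3 h4))
      (k1 y fun e => h6 (h.pt_eq hj h5 e h3 h4))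
  refine h.faith' g fun j => ?_
  by_cases e : j = l
  · exact e ▸ hc l h1
  · exact k2 j e

theorem two_a {g : G} {a b : L} (hab : a ≠ b) (ha : g ∈ Kc G (flip I) a) (hb : g ∈ Kc G (flip I) b) :
    g = 1 := h.dual.two_c hab ha hb

theorem axis_of_fix {g : G} {c : P} {a : L} (hg : g ∈ Kc G I c) (hc : ¬ I c a) (ha : g • a = a) :
    g ∈ Kc G (flip I) a := fun x hx => by
  obtain ⟨j, h1, h2⟩ := h.join x c
  exact h.fix_pt (fun (e : j = a) => hc (e ▸ h2)) h1 hx (hg j h2) ha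

theorem centre_of_fix {g : G} {c : P} {a : L} (hg : g ∈ Kc G (flip I) a) (hc : ¬ I c a)
    (ha : g • c = c) : g ∈ Kc G I c := h.dual.axis_of_fix hg hc ha

theorem exists_axis {g : G} {c : P} (hg : g ∈ Kc G I c) : ∃ a, g ∈ Kc G (flip I) a := by
  by_contra! H
  have k0 : ∀ a, ¬ I c a → g • a ≠ a := fun a ha e => H a (h.axis_of_fix hg ha e)
  have k1 : ∀ k, ¬ I c k → ∃ x, I x k ∧ g • x = x := fun k hk => by
    obtain ⟨x, h1, h2⟩ := h.meet k (g⁻¹ • k)
    obtain ⟨j, h3, h4⟩ := h.join x c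
    exact ⟨x, h1, h.pt_eq (fun (e : j = k) => hk (e ▸ h4)) (h.inv_pt (hg j h4) h3)
      (by simpa using h.inv g _ _ h2) h3 h1⟩
  obtain ⟨k, hk, -⟩ := h.exists_off' c c
  obtain ⟨x, h1, gx⟩ := k1 k hk
  obtain ⟨a, h2, h3⟩ := h.join x c
  refine H a fun y hy => ?_
  by_cases e : y = c
  · exact e ▸ h.cfix hg
  obtain ⟨j, h4, h5, -⟩ := h.exists_ln y a a
  have hj : ¬ I c j := fun e' => h5 (h.ln_eq e h4 e' hy h3)
  obtain ⟨z, h6, gz⟩ := k1 j hj
  by_cases e' : z = y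
  · exact e' ▸ gz
  have hz : ¬ I z a := fun e'' => h5 (h.ln_eq e' h6 h4 e'' hy)
  obtain ⟨i, h7, h8⟩ := h.join x z
  have hxc : x ≠ c := fun e => hk (e ▸ h1)
  exact (k0 i (fun e => hz (h.ln_eq hxc h7 e h2 h3 ▸ h8))
    (h.fix_ln (fun (e : x = z) => hz (e ▸ h2)) h7 h8 gx gz)).elim

theorem exists_centre {g : G} {a : L} (hg : g ∈ Kc G (flip I) a) : ∃ c, g ∈ Kc G I c :=
  h.dual.exists_axis hg

theorem fixed_pt {g : G} {c x : P} {a : L} (h1 : g ≠ 1) (hc : g ∈ Kc G I c) (ha : g ∈ Kc G (flip I) a)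
    (hx : g • x = x) (hxc : x ≠ c) : I x a := by
  by_contra e
  exact h1 (h.two_c hxc (h.centre_of_fix ha e hx) hc)

theorem fixed_ln {g : G} {c : P} {a l : L} (h1 : g ≠ 1) (hc : g ∈ Kc G I c) (ha : g ∈ Kc G (flip I) a)
    (hl : g • l = l) (hla : l ≠ a) : I c l := h.dual.fixed_pt h1 ha hc hl hla

/-- elations with centre `c` -/
def E (c : P) : Subgroup G where
  carrier := {g | g ∈ Kc G I c ∧ ∃ a, I c a ∧ g ∈ Kc G (flip I) a}
  one_mem' := ⟨one_mem _, (h.join c c).imp fun _ e => ⟨e.1, one_mem _⟩⟩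
  inv_mem' := fun ⟨h1, a, h2, h3⟩ => ⟨inv_mem h1, a, h2, inv_mem h3⟩
  mul_mem' := by
    rintro g g' ⟨h1, a, h2, h3⟩ ⟨h4, a', h5, h6⟩
    refine ⟨mul_mem h1 h4, ?_⟩
    by_cases e : a = a'
    · exact ⟨a, h2, mul_mem h3 (e ▸ h6)⟩
    by_cases e1 : g' = 1
    · exact ⟨a, h2, by simpa [e1] using h3⟩
    obtain ⟨b, hb⟩ := h.exists_axis (mul_mem h1 h4)
    refine ⟨b, ?_, hb⟩
    obtain ⟨x, h7, h8⟩ := h.meet b a
    have : g' • x = x := smul_left_cancel g (by rw [← mul_smul, hb x h7, h3 x h8])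
    by_cases e2 : x = c
    · exact e2 ▸ h7
    · exact (e (h.ln_eq e2 h8 h2 (h.fixed_pt e1 h4 h6 this e2) h5)).elim

theorem mem_E {c : P} {g : G} : g ∈ h.E c ↔ g ∈ Kc G I c ∧ ∃ a, I c a ∧ g ∈ Kc G (flip I) a := Iff.rfl

theorem E_conj {c : P} {g a : G} (ha : a ∈ h.E c) : g * a * g⁻¹ ∈ h.E (g • c) :=
  ⟨h.cconj ha.1, ha.2.elim fun l hl => ⟨g • l, h.inv g _ _ hl.1, h.aconj hl.2⟩⟩

theorem E_fix_ln {c : P} {g : G} {l : L} (hg : g ∈ h.E c) (hl : ¬ I c l) (e : g • l = l) : g = 1 := by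
  obtain ⟨h1, a, h2, h3⟩ := hg
  by_contra h4
  exact hl (h.fixed_ln h4 h1 h3 e fun e' => hl (e' ▸ h2))

theorem E_fix_pt {c x : P} {g : G} {l : L} (hg : g ∈ h.E c) (hxc : x ≠ c) (hc : I c l) (hx : I x l)
    (e : g • x = x) : g ∈ Kc G (flip I) l := by
  obtain ⟨h1, a, h2, h3⟩ := hg
  by_cases h4 : g = 1
  · exact h4 ▸ one_mem _
  exact h.ln_eq hxc (h.fixed_pt h4 h1 h3 e hxc) h2 hx hc ▸ h3

/-- orbits of a group of elations on a line through the centre -/
theorem orbit_card [Finite G] {c x : P} {l : L} {U : Subgroup G} (hU : U ≤ h.E c) (hxc : x ≠ c)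
    (hc : I c l) (hx : I x l) : (orbit U x).ncard = (Kc G (flip I) l).relIndex U := by
  rw [← index_stabilizer, relIndex]
  congr 1; ext u
  exact ⟨fun e => h.E_fix_pt (hU u.2) hxc hc hx e, fun e => e x hx⟩

theorem relIndex_dvd [Finite G] {c : P} {l : L} {U : Subgroup G} (hU : U ≤ h.E c) (hc : I c l) :
    (Kc G (flip I) l).relIndex U ∣ n := by
  haveI := h.finP
  rw [← h.card_ln_diff hc]
  refine dvd_of_orbits U _ _ (fun u hu x hx => ⟨h.inv_pt ((hU hu).1 l hc) hx.1, fun e => hx.2 ?_⟩)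
    fun x hx => by rw [h.orbit_card hU hx.2 hc hx.1]
  rw [← h.cfix (hU hu).1] at e
  exact smul_left_cancel u e

theorem card_dvd [Finite G] {c : P} {a : L} {U : Subgroup G} (hU : U ≤ Kc G I c)
    (hU' : U ≤ Kc G (flip I) a) (hc : I c a) : Nat.card U ∣ n := by
  obtain ⟨l, h1, h2, -⟩ := h.exists_ln c a a
  have := h.relIndex_dvd (U := U) (fun u hu => ⟨hU hu, a, hc, hU' hu⟩) h1
  rwa [← inf_relIndex_right, (eq_bot_iff_forall (Kc G (flip I) l ⊓ U)).2
    fun u hu => h.two_a h2 hu.1 (hU' hu.2),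
    relIndex_bot_left] at this

theorem orderOf_dvd [Finite G] {c : P} {g : G} (hg : g ∈ h.E c) : orderOf g ∣ n := by
  obtain ⟨h1, a, h2, h3⟩ := hg
  rw [← Nat.card_zpowers]
  exact h.card_dvd (zpowers_le.2 h1) (zpowers_le.2 h3) h2

theorem sub {U : Subgroup G} (hU : Cfg I (fx P U) (fx L U)) : ∃ m, Pl (Gm P L U) (Ir I U) m := by
  haveI := h.finP
  haveI := h.finL
  have j : ∀ x y : fx P U, x ≠ y → ∃ l, Ir I U x l ∧ Ir I U y l := fun x y hxy => by
    obtain ⟨l, h1, h2⟩ := h.join x y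
    exact ⟨⟨l, fun u hu => h.fix_ln (Subtype.val_injective.ne hxy) h1 h2 (x.2 u hu) (y.2 u hu)⟩, h1, h2⟩
  have m : ∀ x y : fx L U, x ≠ y → ∃ l, Ir I U l x ∧ Ir I U l y := fun x y hxy => by
    obtain ⟨l, h1, h2⟩ := h.meet x y
    exact ⟨⟨l, fun u hu => h.fix_pt (Subtype.val_injective.ne hxy) h1 h2 (x.2 u hu) (y.2 u hu)⟩, h1, h2⟩
  have u : ∀ {x y l k}, Ir I U x l → Ir I U y l → Ir I U x k → Ir I U y k → x = y ∨ l = k :=
    fun a b c d => (h.uniq a b c d).imp Subtype.ext Subtype.ext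
  obtain ⟨m', h1, h2, h3, h4, h5⟩ := exists_order (Ir I U) j m u (by
    obtain ⟨p₁, a1, p₂, a2, p₃, a3, l₁, b1, l₂, b2, l₃, b3, H⟩ := hU
    exact ⟨⟨p₁, a1⟩, trivial, ⟨p₂, a2⟩, trivial, ⟨p₃, a3⟩, trivial, ⟨l₁, b1⟩, trivial, ⟨l₂, b2⟩, trivial,
      ⟨l₃, b3⟩, trivial, H⟩)
  have inv : ∀ (g : Gm P L U) x l, Ir I U x l → Ir I U (g • x) (g • l) := fun g x l e => by
    obtain ⟨g, rfl⟩ := res_surj U g
    exact h.inv g _ _ e
  refine ⟨m', j, m, u, h1, h2, h3, h4, h5, inv, fun g hg => gm_ext hg fun l => ?_,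
    fun g hg => gm_ext (fun x => ?_) hg⟩
  · obtain ⟨x, hx, y, hy, hxy⟩ := (Set.one_lt_ncard (Set.toFinite _)).1
      (show 1 < {x | Ir I U x l}.ncard by rw [h2]; omega)
    exact (u (hg x ▸ inv g x l hx) (hg y ▸ inv g y l hy) hx hy).resolve_left hxy
  · obtain ⟨l, hl, k, hk, hlk⟩ := (Set.one_lt_ncard (Set.toFinite _)).1
      (show 1 < {l | Ir I U x l}.ncard by rw [h3]; omega)
    exact (u (hg l ▸ inv g x l hl) hl (hg k ▸ inv g x k hk) hk).resolve_right hlk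

omit h in
theorem sub_pts {U : Subgroup G} {m : ℕ} (h : Pl (Gm P L U) (Ir I U) m) {l : L} (hl : l ∈ fx L U) :
    {x | x ∈ fx P U ∧ I x l}.ncard = m + 1 :=
  (ncard_sub (S := fx P U) (I · l)).symm.trans (h.pts ⟨l, hl⟩)

theorem baer_step {U U' : Subgroup G} {m m' : ℕ} (h1 : Pl (Gm P L U) (Ir I U) m)
    (h2 : Pl (Gm P L U') (Ir I U') m') (hle : U' ≤ U) {g : G} (hg : g ∈ U) (hg2 : g * g ∈ U')
    (hn : g ∈ normalizer (U' : Set G)) (hU : ∀ u ∈ U, u ∈ U' ∨ g⁻¹ * u ∈ U') : m' = m ∨ m' = m ^ 2 := by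
  haveI := h.finP
  haveI := h.finL
  have hs : (fx P U : Set P) ⊆ fx P U' := fun x hx u hu => hx u (hle hu)
  have key := dcount ((fx P U' : Set P) \ fx P U) (fx L U : Set L) I 1 (m' - m) (fun x hx => ?_)
    (fun l hl => ?_)
  · have e1 : (fx P U : Set P).ncard = _ := h1.cardP
    have e2 : (fx P U' : Set P).ncard = _ := h2.cardP
    have e3 : (fx L U : Set L).ncard = _ := h1.cardL
    have e4 := Set.ncard_le_ncard hs
    rw [Set.ncard_sdiff hs, e1, e2, e3] at key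
    rw [e1, e2] at e4
    obtain ⟨d, rfl⟩ := Nat.exists_eq_add_of_le (show m ≤ m' by nlinarith)
    rw [Nat.add_sub_cancel_left, mul_one, Nat.sub_eq_iff_eq_add e4] at key
    rcases Nat.eq_zero_or_pos d with e | e
    · left; omega
    · right
      have : d * (m + d) = d * m ^ 2 := by nlinarith
      exact Nat.eq_of_mul_eq_mul_left e this
  · have fu : ∀ {α : Type _} [MulAction G α] (y : α), y ∈ fx α U' → g • y = y → y ∈ fx α U :=
      fun y hy gy u hu => (hU u hu).elim (hy u) fun e => by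
        have := hy _ e
        rwa [mul_smul, inv_smul_eq_iff, gy] at this
    have gx : g • x ≠ x := fun e => hx.2 (fu x hx.1 e)
    obtain ⟨l, a, b⟩ := h.join x (g • x)
    have hl : l ∈ fx L U := by
      refine fun u hu => (hU u hu).elim (fun e => h.fix_ln gx b a (smul_fx hn hx.1 u e) (hx.1 u e))
        fun e => ?_
      have gl : g • l = l := h.ln_eq gx (h.inv g _ _ a)
        (by simpa [← mul_smul, hx.1 _ hg2] using h.inv g _ _ b) b a
      have := h.fix_ln gx b a (smul_fx hn hx.1 _ e) (hx.1 _ e)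
      rwa [mul_smul, inv_smul_eq_iff, gl] at this
    refine Set.ncard_eq_one.2 ⟨l, Set.eq_singleton_iff_unique_mem.2 ⟨⟨hl, a⟩, fun k hk => ?_⟩⟩
    by_contra e
    exact hx.2 fun u hu => h.fix_pt e hk.2 a (hk.1 u hu) (hl u hu)
  · have e1 := sub_pts h1 hl
    have e2 := sub_pts h2 (l := l) fun u hu => hl u (hle hu)
    rw [show m' - m = (m' + 1) - (m + 1) by omega, ← e1, ← e2,
      ← Set.ncard_sdiff (s := {x | x ∈ fx P U ∧ I x l}) (t := {x | x ∈ fx P U' ∧ I x l})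
        (fun x hx => ⟨hs hx.1, hx.2⟩)]
    congr 1; ext x
    simp only [Set.mem_ofPred_eq, Set.mem_sdiff, SetLike.mem_coe]; tauto

/-- Baer: the order of the plane is a power of the order of the fixed subplane of a 2-group -/
theorem baer [Finite G] (k : ℕ) : ∀ {U : Subgroup G} {m : ℕ}, Nat.card U = 2 ^ k →
    Cfg I (fx P U) (fx L U) → Pl (Gm P L U) (Ir I U) m → ∃ j, n = m ^ j := by
  induction k with
  | zero =>
    intro U m hU _ h1
    obtain rfl : U = ⊥ := by simpa using hU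
    obtain ⟨l⟩ := h.neL
    have := sub_pts h1 (l := l) (fun u hu => by simp [mem_bot.1 hu])
    simp only [mem_fx, mem_bot, forall_eq, one_smul, true_and, h.pts] at this
    exact ⟨1, by rw [pow_one]; omega⟩
  | succ k ih =>
    intro U m hU hc h1
    obtain ⟨V, hV⟩ := Sylow.exists_subgroup_card_pow_prime (G := U) 2 (n := k)
      (hU ▸ pow_dvd_pow 2 (Nat.le_succ k))
    have hi : V.index = 2 := by
      have := V.card_mul_index
      rw [hV, hU, pow_succ] at this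
      exact Nat.eq_of_mul_eq_mul_left (by positivity) this
    obtain ⟨g, hg⟩ : ∃ g, g ∉ V := by
      by_contra! H
      rw [(eq_top_iff' _).2 H] at hi; simp at hi
    have hc' : Cfg I (fx P (V.map U.subtype)) (fx L (V.map U.subtype)) :=
      hc.mono (fun x hx u hu => hx u (map_subtype_le _ hu)) (fun x hx u hu => hx u (map_subtype_le _ hu))
    obtain ⟨m', h2⟩ := h.sub hc'
    obtain ⟨j, hj⟩ := ih (by rw [card_subtype, hV]) hc' h2
    haveI := normal_of_index_eq_two hi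
    rcases h.baer_step h1 h2 (map_subtype_le _) g.2 (mem_map_of_mem _ (mul_self_mem_of_index_two hi g))
      ((normal_subgroupOf_iff_le_normalizer (map_subtype_le _)).1
        (by rwa [subgroupOf, comap_map_eq_self_of_injective (subtype_injective _)]) g.2)
      (fun u hu => by
        by_cases e : (⟨u, hu⟩ : U) ∈ V
        · exact Or.inl (mem_map_of_mem _ e)
        · exact Or.inr (mem_map_of_mem U.subtype ((mul_mem_iff_of_index_two hi (a := g⁻¹)
            (b := ⟨u, hu⟩)).2 (by simp [hg, e])))) with e | e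
    · exact ⟨j, e ▸ hj⟩
    · exact ⟨2 * j, by rw [hj, e, pow_mul]⟩

theorem cfg_of_quad {S : Set P} {T : Set L} (hT : ∀ x ∈ S, ∀ y ∈ S, x ≠ y → ∀ l, I x l → I y l → l ∈ T)
    {a b c d : P} (ha : a ∈ S) (hb : b ∈ S) (hc : c ∈ S) (hd : d ∈ S)
    (h1 : ∀ l, I a l → I b l → ¬ I c l) (h2 : ∀ l, I a l → I b l → ¬ I d l)
    (h3 : ∀ l, I a l → I c l → ¬ I d l) (h4 : ∀ l, I b l → I c l → ¬ I d l) : Cfg I S T := by
  obtain ⟨l₂, a1, a2⟩ := h.join a b
  obtain ⟨l₃, a3, a4⟩ := h.join a c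
  obtain ⟨l₁, a5, a6⟩ := h.join c d
  exact ⟨d, hd, a, ha, b, hb, l₁, hT c hc d hd (fun e => h3 _ a3 a4 (e ▸ a4)) _ a5 a6,
    l₂, hT a ha b hb (fun e => h1 _ a3 (e ▸ a3) a4) _ a1 a2,
    l₃, hT a ha c hc (fun e => h1 _ a1 a2 (e ▸ a1)) _ a3 a4, h2 _ a1 a2, h3 _ a3 a4,
    fun e => h3 _ e a5 a6, a1, a3, fun e => h4 _ e a5 a6, a2, fun e => h1 _ a3 e a4⟩

theorem cfg_of_three {S : Set P} {T : Set L}
    (hT : ∀ x ∈ S, ∀ y ∈ S, x ≠ y → ∀ l, I x l → I y l → l ∈ T) {x y z u v : P} {l : L}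
    (hx : x ∈ S) (hy : y ∈ S) (hz : z ∈ S) (hu : u ∈ S) (hv : v ∈ S) (xy : x ≠ y) (xz : x ≠ z)
    (yz : y ≠ z) (uv : u ≠ v) (xl : I x l) (yl : I y l) (zl : I z l) (ul : ¬ I u l) (vl : ¬ I v l) :
    Cfg I S T := by
  obtain ⟨k, uk, vk⟩ := h.join u v
  have key : ∀ {x y}, x ∈ S → y ∈ S → x ≠ y → I x l → I y l → ¬ I x k → ¬ I y k → Cfg I S T :=
    fun hx hy xy xl yl xk yk => h.cfg_of_quad hT hx hy hu hv
      (fun j a b c => ul (h.ln_eq xy a b xl yl ▸ c)) (fun j a b c => vl (h.ln_eq xy a b xl yl ▸ c))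
      (fun j a b c => xk (h.ln_eq uv b c uk vk ▸ a)) (fun j a b c => yk (h.ln_eq uv b c uk vk ▸ a))
  have hk : l ≠ k := fun e => ul (e ▸ uk)
  by_cases xk : I x k
  · exact key hy hz yz yl zl (fun e => xy (h.pt_eq hk xl xk yl e)) (fun e => xz (h.pt_eq hk xl xk zl e))
  by_cases yk : I y k
  · exact key hx hz xz xl zl xk (fun e => yz (h.pt_eq hk yl yk zl e))
  · exact key hx hy xy xl yl xk yk

theorem inv_fix_ln {g : G} (hg : g * g = 1) {x : P} {l : L} (hx : g • x ≠ x) (a : I x l)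
    (b : I (g • x) l) : g • l = l :=
  h.ln_eq hx (h.inv g _ _ a) (by simpa [← mul_smul, hg] using h.inv g _ _ b) b a

theorem inv_line {g : G} (hg : g * g = 1) (k : L) : ∃ x, I x k ∧ g • x = x := by
  by_cases e : g • k = k
  · by_cases H : ∀ x, ¬ I x k → g • x = x
    · obtain ⟨x, hx, -⟩ := h.exists_off k k
      obtain ⟨j, h1, -⟩ := h.exists_ln x k k
      obtain ⟨y, h2, h3⟩ := h.meet j k
      obtain ⟨z, h4, h5, h6⟩ := h.exists_pt j x y
      have hj : j ≠ k := fun e => hx (e ▸ h1)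
      exact ⟨y, h3, h.fix_pt hj h2 h3 (h.fix_ln h5 h4 h1 (H z fun e => h6 (h.pt_eq hj h4 e h2 h3))
        (H x hx)) e⟩
    · push Not at H
      obtain ⟨x, hx, gx⟩ := H
      obtain ⟨j, h1, h2⟩ := h.join x (g • x)
      obtain ⟨y, h3, h4⟩ := h.meet j k
      exact ⟨y, h4, h.fix_pt (fun (e : j = k) => hx (e ▸ h1)) h3 h4 (h.inv_fix_ln hg gx h1 h2) e⟩
  · obtain ⟨x, h1, h2⟩ := h.meet k (g • k)
    exact ⟨x, h1, h.dual.inv_fix_ln hg e h1 h2⟩

/-- Baer: an involution is central or planar -/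
theorem central_or_cfg {g : G} (hg : g * g = 1) :
    (∃ c, g ∈ Kc G I c) ∨ Cfg I {x | g • x = x} {l | g • l = l} := by
  by_cases H : ∃ a, g ∈ Kc G (flip I) a
  · exact Or.inl (H.elim fun a ha => h.exists_centre ha)
  right
  have key : ∀ a c, ∃ x, g • x = x ∧ ¬ I x a ∧ x ≠ c := fun a c => by
    by_contra! K
    refine H ⟨a, fun y hy => ?_⟩
    obtain ⟨j, h1, h2⟩ := h.join y c
    obtain ⟨k, h3, h4, h5⟩ := h.exists_ln y a j
    obtain ⟨z, h6, gz⟩ := h.inv_line hg k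
    by_cases e : z = y
    · exact e ▸ gz
    by_cases e' : I z a
    · exact (h4 (h.ln_eq e h6 h3 e' hy)).elim
    · exact (h5 (h.ln_eq e h6 h3 (K z gz e' ▸ h2) h1)).elim
  have hT : ∀ x ∈ {x : P | g • x = x}, ∀ y ∈ {x : P | g • x = x}, x ≠ y → ∀ l, I x l → I y l →
      l ∈ {l : L | g • l = l} := fun x hx y hy xy l a b => h.fix_ln xy a b hx hy
  obtain ⟨a⟩ := h.neL
  obtain ⟨c⟩ := h.neP
  obtain ⟨x, gx, -⟩ := key a c
  obtain ⟨y, gy, -, yx⟩ := key a x
  obtain ⟨l, xl, yl⟩ := h.join x y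
  obtain ⟨z, gz, zl, -⟩ := key l x
  obtain ⟨w, gw, wl, wz⟩ := key l z
  obtain ⟨j, xj, zj⟩ := h.join x z
  obtain ⟨k, yk, zk⟩ := h.join y z
  have xz : x ≠ z := fun e => zl (e ▸ xl)
  have yz : y ≠ z := fun e => zl (e ▸ yl)
  by_cases wj : I w j
  · obtain ⟨u, gu, uj, uy⟩ := key j y
    exact h.cfg_of_three hT gx gz gw gu gy xz (fun e => wl (e ▸ xl)) wz.symm uy xj zj wj uj
      (fun e => zl (h.ln_eq yx e xj yl xl ▸ zj))
  by_cases wk : I w k
  · obtain ⟨u, gu, uk, ux⟩ := key k x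
    exact h.cfg_of_three hT gy gz gw gu gx yz (fun e => wl (e ▸ yl)) wz.symm ux yk zk wk uk
      (fun e => zl (h.ln_eq yx yk e yl xl ▸ zk))
  exact h.cfg_of_quad hT gx gy gz gw (fun i a b c => zl (h.ln_eq yx b a yl xl ▸ c))
    (fun i a b c => wl (h.ln_eq yx b a yl xl ▸ c)) (fun i a b c => wj (h.ln_eq xz a b xj zj ▸ c))
    (fun i a b c => wk (h.ln_eq yz a b yk zk ▸ c))

end Pl
end H05
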