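import Mathlib
import Cfsg.Agent.H05.Plane1

/-! Wagner's lemma: a plane of odd order with enough involutory homologies has prime power order and
a nontrivial elation (`H05.Wg.main`). -/

set_option autoImplicit false
open Subgroup MulAction H05.Ito

namespace H05

theorem dcount_le {α β : Type*} [Finite α] [Finite β] (s : Set α) (t : Set β) (r : α → β → Prop)
    (m n : ℕ) (hm : ∀ a ∈ s, m ≤ {b | b ∈ t ∧ r a b}.ncard)
    (hn : ∀ b ∈ t, {a | a ∈ s ∧ r a b}.ncard ≤ n) : s.ncard * m ≤ t.ncard * n := by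
  classical
  have hs := s.toFinite
  have ht := t.toFinite
  rw [Set.ncard_eq_toFinset_card s hs, Set.ncard_eq_toFinset_card t ht]
  refine Finset.card_mul_le_card_mul r (fun a ha => ?_) (fun b hb => ?_)
  · refine (hm a (by simpa using ha)).trans_eq ?_
    rw [← Set.ncard_coe_finset]; congr 1; ext; simp
  · refine le_of_eq_of_le ?_ (hn b (by simpa using hb))
    rw [← Set.ncard_coe_finset]; congr 1; ext; simp

theorem tourn {α : Type*} [Finite α] (S : Set α) (R : α → α → Prop) (t : ℕ)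
    (hR : ∀ x ∈ S, ∀ y ∈ S, x ≠ y → R x y ∨ R y x)
    (ht : ∀ x ∈ S, {y | y ∈ S ∧ y ≠ x ∧ R x y}.ncard ≤ t) : S.ncard - 1 ≤ 2 * t := by
  classical
  have hs := S.toFinite
  obtain ⟨s, rfl⟩ := hs.exists_finset_coe
  rw [Set.ncard_coe_finset]
  rcases s.eq_empty_or_nonempty with rfl | hne
  · simp
  let r : α → α → Prop := fun x y => y ≠ x ∧ R x y
  have h1 : ∀ x ∈ s, s.card - 1 ≤ (s.bipartiteAbove r x).card + (s.bipartiteBelow r x).card := by
    intro x hx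
    rw [← Finset.card_erase_of_mem hx]
    refine (Finset.card_le_card fun y hy => ?_).trans (Finset.card_union_le _ _)
    obtain ⟨h1, h2⟩ := Finset.mem_erase.1 hy
    rcases hR x hx y h2 h1.symm with e | e <;> simp [r, h1, h2, e, h1.symm]
  have h2 : ∀ x ∈ s, (s.bipartiteAbove r x).card ≤ t := fun x hx => by
    refine le_of_eq_of_le ?_ (ht x hx)
    rw [← Set.ncard_coe_finset]; congr 1; ext; simp [r]
  have h3 := Finset.sum_le_sum h1
  rw [Finset.sum_add_distrib, ← Finset.sum_card_bipartiteAbove_eq_sum_card_bipartiteBelow] at h3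
  have h4 := Finset.sum_le_sum h2
  simp only [Finset.sum_const, smul_eq_mul] at h3 h4
  have := hne.card_pos
  nlinarith

theorem card_eq_mul {G : Type*} [Group G] {E U V : Subgroup G} (hU : U ≤ E) (hV : V ≤ E)
    (hd : ∀ x ∈ U, x ∈ V → x = 1) (hs : ∀ e ∈ E, ∃ u ∈ U, ∃ v ∈ V, e = u * v) :
    Nat.card E = Nat.card U * Nat.card V := by
  rw [← Nat.card_prod]
  refine (Nat.card_congr (Equiv.ofBijective
    (fun p : U × V => (⟨p.1 * p.2, mul_mem (hU p.1.2) (hV p.2.2)⟩ : E)) ⟨?_, ?_⟩)).symm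
  · rintro ⟨a, b⟩ ⟨c, d⟩ e
    have e : (a : G) * b = c * d := congrArg Subtype.val e
    have e' : (c : G)⁻¹ * a = d * (b : G)⁻¹ := by
      rw [inv_mul_eq_iff_eq_mul, ← mul_assoc, ← e, mul_inv_cancel_right]
    have := hd _ (mul_mem (inv_mem c.2) a.2) (e' ▸ mul_mem d.2 (inv_mem b.2))
    obtain rfl : c = a := Subtype.ext (inv_mul_eq_one.1 this)
    rw [Subtype.ext (mul_left_cancel e)]
  · rintro ⟨e, he⟩
    obtain ⟨u, hu, v, hv, rfl⟩ := hs e he
    exact ⟨(⟨u, hu⟩, ⟨v, hv⟩), rfl⟩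

variable {G P L : Type*} [Group G] [MulAction G P] [MulAction G L]

/-- involutory homology -/
structure Ho (I : P → L → Prop) (g : G) (c : P) (a : L) : Prop where
  ne : g ≠ 1
  sq : g * g = 1
  cen : g ∈ Kc G I c
  ax : g ∈ Kc G (flip I) a
  off : ¬ I c a

theorem Ho.dual {I : P → L → Prop} {g : G} {c : P} {a : L} (h : Ho I g c a) : Ho (flip I) g a c :=
  ⟨h.ne, h.sq, h.ax, h.cen, h.off⟩

theorem Ho.inv {I : P → L → Prop} {g : G} {c : P} {a : L} (h : Ho I g c a) : g⁻¹ = g :=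
  inv_eq_of_mul_eq_one_right h.sq

namespace Pl
variable {I : P → L → Prop} {n : ℕ} (h : Pl G I n)
include h

theorem ho_conj {g : G} {c : P} {a : L} (H : Ho I g c a) (s : G) :
    Ho I (s * g * s⁻¹) (s • c) (s • a) :=
  ⟨by simpa using H.ne, by rw [conj_mul, H.sq]; simp, h.cconj H.cen, h.aconj H.ax,
    fun e => H.off ((h.inv_iff s _ _).1 e)⟩

theorem ho_of [Finite G] (ho : Odd n) {g : G} {c : P} (h1 : g ≠ 1) (h2 : g * g = 1)
    (hc : g ∈ Kc G I c) : ∃ a, Ho I g c a := by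
  obtain ⟨a, ha⟩ := h.exists_axis hc
  refine ⟨a, h1, h2, hc, ha, fun e => ?_⟩
  have := h.orderOf_dvd ⟨hc, a, e, ha⟩
  rw [orderOf_eq_prime (p := 2) (by rwa [sq]) h1] at this
  exact (Nat.not_even_iff_odd.2 ho) (even_iff_two_dvd.2 this)

theorem comm_ax {g d : G} {a : L} (h1 : g ≠ 1) (ha : g ∈ Kc G (flip I) a) (e : d * g = g * d) :
    d • a = a := by
  by_contra e'
  have := h.aconj (g := d) ha
  rw [e, mul_inv_cancel_right] at this
  exact h1 (h.two_a e' this ha)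

theorem comm_cen {g d : G} {a : P} (h1 : g ≠ 1) (ha : g ∈ Kc G I a) (e : d * g = g * d) :
    d • a = a := h.dual.comm_ax h1 ha e

theorem ho_inverts [Finite G] {α e : G} {c : P} {a : L} (H : Ho I α c a) (he : e ∈ h.E c) :
    α * e * α = e⁻¹ := by
  have cj : ∀ e ∈ h.E c, α * e * α ∈ h.E c := fun e he => by
    have := h.E_conj (g := α) he
    rwa [h.cfix H.cen, H.inv] at this
  let f : h.E c → h.E c := fun x => ⟨(x : G)⁻¹ * (α * x * α), mul_mem (inv_mem x.2) (cj _ x.2)⟩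
  have hf : Function.Injective f := fun x y e => by
    have e : (x : G)⁻¹ * (α * x * α) = (y : G)⁻¹ * (α * y * α) := congrArg Subtype.val e
    have : (y : G) * (x : G)⁻¹ * α = α * ((y : G) * (x : G)⁻¹) := by
      calc (y : G) * (x : G)⁻¹ * α = y * ((x : G)⁻¹ * (α * x * α)) * α⁻¹ * (x : G)⁻¹ := by group
        _ = _ := by rw [e]; group
    have := h.E_fix_ln (mul_mem y.2 (inv_mem x.2)) H.off (h.comm_ax H.ne H.ax this)
    exact Subtype.ext (mul_inv_eq_one.1 this).symm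
  obtain ⟨x, hx⟩ := Finite.surjective_of_injective hf ⟨e, he⟩
  obtain rfl : (x : G)⁻¹ * (α * x * α) = e := congrArg Subtype.val hx
  calc α * ((x : G)⁻¹ * (α * x * α)) * α = α * (x : G)⁻¹ * α * x * (α * α) := by group
    _ = α⁻¹ * (x : G)⁻¹ * α⁻¹ * x := by rw [H.sq, H.inv, mul_one]
    _ = _ := by group

theorem E_comm [Finite G] {α e f : G} {c : P} {a : L} (H : Ho I α c a) (he : e ∈ h.E c)
    (hf : f ∈ h.E c) : e * f = f * e := by
  have h1 := h.ho_inverts H (mul_mem (inv_mem he) (inv_mem hf))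
  rw [show α * (e⁻¹ * f⁻¹) * α = α * e⁻¹ * (α * α) * f⁻¹ * α by rw [H.sq]; group,
    show α * e⁻¹ * (α * α) * f⁻¹ * α = (α * e⁻¹ * α) * (α * f⁻¹ * α) by group,
    h.ho_inverts H (inv_mem he), h.ho_inverts H (inv_mem hf)] at h1
  simpa using h1

theorem prod_E {α β : G} {c : P} {a b : L} (H : Ho I α c a) (K : Ho I β c b) (hab : a ≠ b) :
    α * β ∈ h.E c ∧ α * β ≠ 1 := by
  have h1 : α * β ≠ 1 := fun e => by
    have : α = β := by rw [← K.inv]; exact eq_inv_of_mul_eq_one_left e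
    exact H.ne (h.two_a hab H.ax (this ▸ K.ax))
  obtain ⟨d, hd⟩ := h.exists_axis (mul_mem H.cen K.cen)
  refine ⟨⟨mul_mem H.cen K.cen, d, ?_, hd⟩, h1⟩
  by_contra e
  have key : ∀ {γ : G} {a : L}, Ho I γ c a → γ * (α * β) * γ⁻¹ = (α * β)⁻¹ → d = a := by
    intro γ a Hγ e1
    by_contra e2
    refine e (h.fixed_ln Hγ.ne Hγ.cen Hγ.ax ?_ e2)
    by_contra e3
    have := h.aconj (g := γ) hd
    rw [e1] at this
    exact h1 (h.two_a e3 (by simpa using inv_mem this) hd)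
  refine hab ((key H ?_).symm.trans (key K ?_))
  · rw [← mul_assoc, H.sq, mul_inv_rev, K.inv, one_mul]
  · rw [mul_inv_rev, H.inv, K.inv, mul_assoc, mul_assoc, K.sq, mul_one]

theorem E_sqrt [Finite G] (ho : Odd n) {e : G} {c : P} (he : e ∈ h.E c) : ∃ f ∈ h.E c, f * f = e := by
  obtain ⟨k, hk⟩ := ho
  refine ⟨e ^ (k + 1), pow_mem he _, ?_⟩
  rw [← pow_add, show k + 1 + (k + 1) = n + 1 by omega, pow_succ,
    orderOf_dvd_iff_pow_eq_one.1 (h.orderOf_dvd he), one_mul]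

theorem ax_orbit [Finite G] (ho : Odd n) {α β : G} {c : P} {a b : L} (H : Ho I α c a) (K : Ho I β c b) :
    ∃ f ∈ h.E c, f • a = b := by
  by_cases hab : a = b
  · exact ⟨1, one_mem _, by simp [hab]⟩
  obtain ⟨f, hf, e⟩ := h.E_sqrt ho (h.prod_E H K hab).1
  refine ⟨f⁻¹, inv_mem hf, ?_⟩
  by_contra e'
  have := h.aconj (g := f⁻¹) H.ax
  rw [← h.ho_inverts H hf, mul_assoc _ α α, H.sq, mul_one, h.ho_inverts H hf, inv_inv, mul_assoc, e,
    ← mul_assoc, H.sq, one_mul] at this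
  exact K.ne (h.two_a e' this K.ax)

theorem pgroup [Finite G] {α e₁ e₂ : G} {c : P} {a j₁ j₂ : L} (H : Ho I α c a) (h1 : e₁ ∈ h.E c)
    (h2 : e₂ ∈ h.E c) (n1 : e₁ ≠ 1) (n2 : e₂ ≠ 1) (a1 : e₁ ∈ Kc G (flip I) j₁)
    (a2 : e₂ ∈ Kc G (flip I) j₂) (hj : j₁ ≠ j₂) : ∃ p : ℕ, p.Prime ∧ IsPGroup p (h.E c) := by
  have key : ∀ {p : ℕ} {e f : G} {j : L}, e ∈ h.E c → f ∈ h.E c → e ≠ 1 → e ∈ Kc G (flip I) j → e ^ p = 1 →
      f ∉ Kc G (flip I) j → f ^ p = 1 := by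
    intro p e f j he hf e1 ej ep fj
    obtain ⟨-, i, -, fi⟩ := id hf
    obtain ⟨-, k, -, hk⟩ := mul_mem hf he
    have hik : i ≠ k := fun e' => by
      subst e'
      exact fj (by_contra fun e'' => e1 (h.two_a (fun e3 : i = j => e'' (e3 ▸ fi))
        (by simpa using mul_mem (inv_mem fi) hk) ej))
    have := pow_mem hk p
    rw [Commute.mul_pow (h.E_comm H hf he), ep, mul_one] at this
    exact h.two_a hik (pow_mem fi p) this
  obtain ⟨p, hp, hd⟩ := Nat.exists_prime_and_dvd (mt orderOf_eq_one_iff.1 n1)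
  have o1 := orderOf_pow_orderOf_div (orderOf_pos e₁).ne' hd
  have k1 : ∀ f ∈ h.E c, f ∉ Kc G (flip I) j₁ → f ^ p = 1 := fun f hf =>
    key (pow_mem h1 (orderOf e₁ / p)) hf (fun e => hp.ne_one (by rw [← o1, e, orderOf_one]))
      (pow_mem a1 _) (orderOf_dvd_iff_pow_eq_one.1 o1.dvd)
  refine ⟨p, hp, fun f => ⟨1, Subtype.ext ?_⟩⟩
  rw [pow_one, coe_pow, coe_one]
  by_cases e : (f : G) ∈ Kc G (flip I) j₁
  · by_cases e1 : (f : G) = 1
    · simp [e1]
    exact key h2 f.2 n2 a2 (k1 _ h2 fun e' => n2 (h.two_a hj e' a2)) fun e' => e1 (h.two_a hj e e')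
  · exact k1 _ f.2 e

end Pl

/-- hypotheses of Wagner's lemma -/
structure Wg (G : Type*) {P L : Type*} [Group G] [MulAction G P] [MulAction G L]
    (I : P → L → Prop) (m : ℕ) : Prop where
  pl : Pl G I m
  odd : Odd m
  pp : ∀ x y : P, x ≠ y → ∃ (g : G) (c : P) (a : L), Ho I g c a ∧ g • x = x ∧ g • y = y
  ll : ∀ x y : L, x ≠ y → ∃ (g : G) (c : P) (a : L), Ho I g c a ∧ g • x = x ∧ g • y = y
  inv : ∀ g : G, g ≠ 1 → g * g = 1 → ∃ c a, Ho I g c a

/-- a flag carrying a nontrivial elation -/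
def Fl (G : Type*) {P L : Type*} [Group G] [MulAction G P] [MulAction G L] (I : P → L → Prop)
    (c : P) (a : L) : Prop := I c a ∧ ∃ e : G, e ≠ 1 ∧ e ∈ Kc G I c ∧ e ∈ Kc G (flip I) a

theorem Fl.dual {I : P → L → Prop} {c : P} {a : L} (h : Fl G I c a) : Fl G (flip I) a c :=
  ⟨h.1, h.2.imp fun _ e => ⟨e.1, e.2.2, e.2.1⟩⟩

theorem Pl.fl_of {I : P → L → Prop} {n : ℕ} (h : Pl G I n) {c : P} {e : G} (he : e ∈ h.E c)
    (h1 : e ≠ 1) : ∃ a, Fl G I c a := he.2.imp fun _ ha => ⟨ha.1, e, h1, he.1, ha.2⟩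

theorem Pl.fl_smul {I : P → L → Prop} {n : ℕ} (h : Pl G I n) {c : P} {a : L} (H : Fl G I c a) (g : G) :
    Fl G I (g • c) (g • a) := by
  obtain ⟨h1, e, h2, h3, h4⟩ := H
  exact ⟨h.inv g _ _ h1, g * e * g⁻¹, by simpa using h2, h.cconj h3, h.aconj h4⟩

namespace Wg
variable [Finite G] {I : P → L → Prop} {m : ℕ} (w : Wg G I m)
include w

omit [Finite G] in
theorem dual : Wg G (flip I) m :=
  ⟨w.pl.dual, w.odd, fun x y e => let ⟨g, c, a, h1, h2⟩ := w.ll x y e; ⟨g, a, c, h1.dual, h2⟩,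
    fun x y e => let ⟨g, c, a, h1, h2⟩ := w.pp x y e; ⟨g, a, c, h1.dual, h2⟩,
    fun g h1 h2 => let ⟨c, a, h3⟩ := w.inv g h1 h2; ⟨a, c, h3.dual⟩⟩

theorem caseA {l : L} (hl : ∀ (g : G) c, ¬ Ho I g c l) : m = 3 ∧ ∃ c a, Fl G I c a := by
  have h := w.pl
  haveI := h.finP
  have h2 := h.two
  let R : P → P → Prop := fun x y => ∃ (g : G) (a : L), Ho I g x a ∧ I y a
  have hR : ∀ x y, I x l → I y l → x ≠ y → R x y ∨ R y x := fun x y hx hy hxy => by
    obtain ⟨g, c, a, H, gx, gy⟩ := w.pp x y hxy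
    by_cases e : x = c
    · exact Or.inl ⟨g, a, e ▸ H, h.fixed_pt H.ne H.cen H.ax gy (e ▸ hxy.symm)⟩
    by_cases e' : y = c
    · exact Or.inr ⟨g, a, e' ▸ H, h.fixed_pt H.ne H.cen H.ax gx e⟩
    exact (hl g c (h.ln_eq hxy (h.fixed_pt H.ne H.cen H.ax gx e) (h.fixed_pt H.ne H.cen H.ax gy e')
      hx hy ▸ H)).elim
  have full : ∀ x, I x l → m / 3 < {y | I y l ∧ y ≠ x ∧ R x y}.ncard → ∀ y, I y l → y ≠ x → R x y := by
    intro x hx hlt
    obtain ⟨y0, h3, h4, α, a, H, h5⟩ := Set.nonempty_of_ncard_ne_zero (Nat.ne_zero_of_lt hlt)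
    have ho : {y | I y l ∧ y ≠ x ∧ R x y} ⊆ orbit (h.E x) y0 := by
      rintro y ⟨h6, h7, β, b, K, h8⟩
      obtain ⟨f, hf, rfl⟩ := h.ax_orbit w.odd H K
      exact ⟨⟨f, hf⟩, h.pt_eq (fun e : l = f • a => hl β x (e ▸ K)) (h.inv_pt (hf.1 l hx) h3) (h.inv f _ _ h5) h6 h8⟩
    have h6 := Set.ncard_le_ncard ho
    obtain ⟨t, ht⟩ := h.relIndex_dvd (U := h.E x) le_rfl hx
    rw [← h.orbit_card le_rfl h4 hx h3] at ht
    have ht1 : t = 1 := by
      obtain ⟨s, rfl⟩ := (Nat.odd_mul.1 (ht ▸ w.odd)).2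
      by_contra e
      have : 3 * (orbit (h.E x) y0).ncard ≤ m := by nlinarith [show 1 ≤ s by omega]
      omega
    have h7 : orbit (h.E x) y0 = {y | I y l ∧ y ≠ x} := by
      refine Set.eq_of_subset_of_ncard_le ?_ (by rw [h.card_ln_diff hx]; rw [ht1, mul_one] at ht; exact ht.le)
      rintro _ ⟨f, rfl⟩
      exact ⟨h.inv_pt (f.2.1 l hx) h3, (ne_smul_of (h.cfix f.2.1) h4.symm).symm⟩
    intro y hy hyx
    obtain ⟨f, rfl⟩ := (Set.ext_iff.1 h7 y).2 ⟨hy, hyx⟩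
    exact ⟨_, _, h.cfix f.2.1 ▸ h.ho_conj H f, h.inv f _ _ h5⟩
  have nt : ∀ x, I x l → (∀ y, I y l → y ≠ x → R x y) → ∃ e ∈ h.E x, e ≠ 1 := fun x hx H => by
    obtain ⟨y, h3, h4, -⟩ := h.exists_pt l x x
    obtain ⟨z, h5, h6, h7⟩ := h.exists_pt l x y
    obtain ⟨α, a, K, h8⟩ := H y h3 h4
    obtain ⟨β, b, K', h9⟩ := H z h5 h6
    exact ⟨_, h.prod_E K K' fun e => hl α x (h.ln_eq h7 (e ▸ h9) h8 h5 h3 ▸ K)⟩
  obtain ⟨x, hx, fx⟩ : ∃ x, I x l ∧ ∀ y, I y l → y ≠ x → R x y := by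
    by_contra! H
    have := tourn {x | I x l} R (m / 3) (fun x hx y hy => hR x y hx hy) fun x hx => by
      by_contra e
      obtain ⟨y, h3, h4, h5⟩ := H x hx
      exact h5 (full x hx (not_le.1 e) y h3 h4)
    rw [h.pts] at this
    omega
  obtain ⟨e, he, e1⟩ := nt x hx fx
  refine ⟨?_, x, h.fl_of he e1⟩
  by_contra m3
  obtain ⟨y, hy, hyx, fy⟩ : ∃ y, I y l ∧ y ≠ x ∧ ∀ z, I z l → z ≠ y → R y z := by
    by_contra! H
    have := tourn {y | I y l ∧ y ≠ x} R (m / 3) (fun x hx y hy => hR x y hx.1 hy.1) fun y hy => by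
      by_contra e
      obtain ⟨z, h3, h4, h5⟩ := H y hy.1 hy.2
      exact h5 (full y hy.1 ((not_le.1 e).trans_le (Set.ncard_le_ncard fun u hu => ⟨hu.1.1, hu.2⟩))
        z h3 h4)
    rw [h.card_ln_diff hx] at this
    obtain ⟨s, hs⟩ := w.odd
    omega
  obtain ⟨f, hf, f1⟩ := nt y hy fy
  obtain ⟨α, a, H, ya⟩ := fx y hy hyx
  obtain ⟨β, b, K, xb⟩ := fy x hx hyx.symm
  have K' := h.ho_conj K α
  rw [H.ax y ya, H.cen b xb, H.inv] at K'
  have hc : β * (α * β * α) = 1 := by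
    by_contra e
    refine f1 (h.E_fix_ln hf K.off (h.comm_ax e (mul_mem K.ax K'.ax) ?_))
    have e1 := h.ho_inverts K (inv_mem hf)
    have e2 := h.ho_inverts K' hf
    have a1 : α * β * α * f = f⁻¹ * (α * β * α) := by rw [← e2, mul_assoc _ (α * β * α), K'.sq, mul_one]
    have a2 : β * f⁻¹ = f * β := by rw [inv_inv] at e1; rw [← e1, mul_assoc _ β β, K.sq, mul_one, e1]
    rw [mul_assoc β, a1, ← mul_assoc β f⁻¹, a2, mul_assoc f]
  obtain ⟨c, d, M⟩ := w.inv (β * α) (fun e => H.ne (h.two_c hyx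
    (by rw [eq_inv_of_mul_eq_one_right e]; exact inv_mem K.cen) H.cen)) (by rw [← hc]; group)
  · have gx : (β * α) • x = x := by rw [mul_smul, h.cfix H.cen, K.ax x xb]
    have gy : (β * α) • y = y := by rw [mul_smul, H.ax y ya, h.cfix K.cen]
    refine hl _ c (h.ln_eq hyx (h.fixed_pt M.ne M.cen M.ax gy fun e => ?_)
      (h.fixed_pt M.ne M.cen M.ax gx fun e => ?_) hy hx ▸ M)
    · exact H.ne (h.two_c hyx ((Subgroup.mul_mem_cancel_left _ K.cen).1 (e ▸ M.cen)) H.cen)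
    · exact K.ne (h.two_c hyx K.cen ((Subgroup.mul_mem_cancel_right _ H.cen).1 (e ▸ M.cen)))

theorem split {α : G} {c d : P} {j j' : L} (H : Ho I α c j) (hd : I d j) (h1 : I d j') (h2 : I c j')
    {β : G} {b : L} (K : Ho I β d b) : Nat.card (w.pl.E d) =
      Nat.card ↥(w.pl.E d ⊓ Kc G (flip I) j') * Nat.card ↥(w.pl.E d ⊓ Kc G (flip I) j) := by
  have h := w.pl
  refine card_eq_mul inf_le_left inf_le_left (fun x hx hx' => h.two_a (fun e : j' = j => H.off (e ▸ h2))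
    hx.2 hx'.2) fun e he => ?_
  obtain ⟨f, hf, rfl⟩ := h.E_sqrt w.odd he
  have hf' := h.E_conj (g := α) hf
  rw [H.ax d hd, H.inv] at hf'
  refine ⟨f * (α * f * α), ⟨mul_mem hf hf', h.E_fix_pt (mul_mem hf hf') (fun e : c = d => H.off (e ▸ hd))
    h1 h2 (h.comm_cen H.ne H.cen ?_)⟩, (α * f * α)⁻¹ * f,
    mem_inf.2 ⟨mul_mem (inv_mem hf') hf, fun x hx => ?_⟩,
    by group⟩
  · rw [mul_assoc f, mul_assoc _ α α, H.sq, mul_one, h.E_comm K hf hf',
      show α * (α * f * α * f) = α * α * (f * (α * f)) by group, H.sq, one_mul]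
  · rw [mul_smul, inv_smul_eq_iff, mul_smul, mul_smul, H.ax x hx, H.ax _ (h.inv_pt (hf.1 j hd) hx)]

theorem single (hax : ∀ l, ∃ (g : G) (c : P), Ho I g c l) (hce : ∀ c, ∃ (g : G) (a : L), Ho I g c a)
    (d : P) : (∃ p k : ℕ, p.Prime ∧ m = p ^ k) ∨ ∀ j j', Fl G I d j → Fl G I d j' → j = j' := by
  have h := w.pl
  haveI := h.finL
  obtain ⟨β, b, K⟩ := hce d
  let e : L → ℕ := fun j => Nat.card ↥(h.E d ⊓ Kc G (flip I) j)
  have sp : ∀ j, I d j → ∃ j', I d j' ∧ j' ≠ j ∧ Nat.card (h.E d) = e j' * e j := fun j hj => by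
    obtain ⟨α, c, H⟩ := hax j
    obtain ⟨j', h1, h2⟩ := h.join d c
    exact ⟨j', h1, fun e => H.off (e ▸ h2), w.split H hj h1 h2 K⟩
  obtain ⟨j0, h0, hmax⟩ := Set.exists_max_image {j | I d j} e (Set.toFinite _)
    ((h.join d d).imp fun _ e => e.1)
  obtain ⟨j1, h1, h01, hE⟩ := sp j0 h0
  have pos : ∀ j, 0 < e j := fun j => Nat.card_pos
  by_cases hμ : e j1 = 1
  · right
    have : h.E d ⊓ Kc G (flip I) j0 = h.E d :=
      eq_of_le_of_card_ge inf_le_left (by rw [hE, hμ, one_mul])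
    have key : ∀ j, Fl G I d j → j = j0 := fun j ⟨h2, x, h3, h4, h5⟩ => by
      by_contra e'
      exact h3 (h.two_a e' h5 (this.ge ⟨h4, j, h2, h5⟩).2)
    exact fun j j' a b => (key j a).trans (key j' b).symm
  left
  have cnt := dcount_le {j | I d j ∧ j ≠ j0} ((h.E d : Set G) \ (h.E d ⊓ Kc G (flip I) j0 : Subgroup G))
    (fun j x => x ∈ Kc G (flip I) j) (e j1 - 1) 1 (fun j hj => ?_) (fun x hx => ?_)
  · rw [show {j | I d j ∧ j ≠ j0}.ncard = m from h.dual.card_ln_diff h0, Set.ncard_sdiff (fun x hx => hx.1), mul_one] at cnt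
    change _ ≤ Nat.card (h.E d) - e j0 at cnt
    have hd : e j0 ∣ m := h.card_dvd (fun x hx => hx.1.1) inf_le_right h0
    have hM : e j0 = m := by
      refine le_antisymm (Nat.le_of_dvd (by have := h.two; omega) hd) ?_
      obtain ⟨s, hs⟩ : ∃ s, e j1 = s + 2 := ⟨e j1 - 2, by have := pos j1; omega⟩
      rw [hE, hs, show (s + 2) * e j0 - e j0 = e j0 * (s + 1) by
        rw [Nat.sub_eq_iff_eq_add (by nlinarith)]; ring] at cnt
      exact Nat.le_of_mul_le_mul_right cnt (by omega)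
    obtain ⟨⟨x, hx⟩, x1⟩ := (nontrivial_iff_exists_ne 1).1 (Finite.one_lt_card_iff_nontrivial.1
      (show 1 < e j0 by have := h.two; omega))
    obtain ⟨⟨y, hy⟩, y1⟩ := (nontrivial_iff_exists_ne 1).1 (Finite.one_lt_card_iff_nontrivial.1
      (show 1 < e j1 by have := pos j1; omega))
    obtain ⟨p, hp, hP⟩ := h.pgroup K hx.1 hy.1 (fun e => x1 (Subtype.ext e)) (fun e => y1 (Subtype.ext e))
      hx.2 hy.2 h01.symm
    haveI := Fact.mk hp
    obtain ⟨k, hk⟩ := (hP.to_inf_left (K := Kc G (flip I) j0)).exists_card_eq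
    exact ⟨p, k, hp, hM ▸ hk⟩
  · obtain ⟨j', h2, -, h3⟩ := sp j hj.1
    have : e j1 ≤ e j := by
      have := hmax j' h2
      exact Nat.le_of_mul_le_mul_right (a := e j1) (c := e j0) (by rw [← hE, h3]; nlinarith) (pos _)
    refine (Nat.sub_le_sub_right this 1).trans ?_
    rw [show e j = ((h.E d ⊓ Kc G (flip I) j : Subgroup G) : Set G).ncard from rfl,
      ← Set.ncard_sdiff_singleton_of_mem (one_mem (h.E d ⊓ Kc G (flip I) j))]
    exact Set.ncard_le_ncard fun x hx => ⟨⟨hx.1.1, fun e' => hx.2 (h.two_a hj.2 hx.1.2 e'.2)⟩, hx.1.2⟩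
  · refine (Set.ncard_le_one (Set.toFinite _)).2 fun j hj j' hj' => ?_
    by_contra e'
    exact hx.2 (h.two_a e' hj.2 hj'.2 ▸ one_mem _)

omit [Finite G] in
theorem exists_fl (hax : ∀ l, ∃ (g : G) (c : P), Ho I g c l)
    (hce : ∀ c, ∃ (g : G) (a : L), Ho I g c a) : ∃ c a, Fl G I c a := by
  classical
  have h := w.pl
  haveI := h.finP
  haveI := Fintype.ofFinite P
  by_contra! H
  choose α π hπ using hce
  have u1 : ∀ {g : G} {c a}, Ho I g c a → a = π c := fun K => by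
    by_contra e
    obtain ⟨a, ha⟩ := h.fl_of (h.prod_E K (hπ _) e).1 (h.prod_E K (hπ _) e).2
    exact H _ _ ha
  have inj : Function.Injective π := fun x y e => by
    by_contra e'
    have := h.dual.prod_E (hπ x).dual (e ▸ (hπ y).dual) e'
    obtain ⟨a, ha⟩ := h.dual.fl_of this.1 this.2
    exact H _ _ ha.dual
  have sur : Function.Surjective π := fun l => by
    obtain ⟨g, c, K⟩ := hax l
    exact ⟨c, (u1 K).symm⟩
  have sym : ∀ x y, I x (π y) → I y (π x) := fun x y e => by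
    have K := h.ho_conj (hπ x) (α y)
    rw [(hπ y).ax x e] at K
    exact h.fixed_ln (hπ y).ne (hπ y).cen (hπ y).ax (u1 K) fun e' => (hπ y).off (inj e' ▸ e)
  obtain ⟨r, hr, hd⟩ := Nat.exists_prime_and_dvd (show m ≠ 1 by have := h.two; omega)
  haveI := Fact.mk hr
  have m0 : (m : ZMod r) = 0 := (ZMod.natCast_eq_zero_iff _ _).2 hd
  let A : Matrix P P (ZMod r) := Matrix.of fun x y => if I x (π y) then 1 else 0
  let J : Matrix P P (ZMod r) := Matrix.of fun _ _ => 1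
  have cnt : ∀ (p : P → Prop) [DecidablePred p],
      (∑ z, if p z then (1 : ZMod r) else 0) = {z | p z}.ncard := fun p _ => by
    rw [Set.ncard_eq_toFinset_card']; simp
  have A2 : A * A = J := by
    ext x y
    simp only [A, J, Matrix.mul_apply, Matrix.of_apply, mul_ite, mul_one, mul_zero, ← ite_and, cnt]
    by_cases e : x = y
    · rw [show {z | I z (π y) ∧ I x (π z)} = {z | I z (π y)} from
        Set.ext fun z => ⟨fun e => e.1, fun e' => ⟨e', e ▸ sym _ _ e'⟩⟩, h.pts]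
      simp [m0]
    · obtain ⟨z, h1, h2⟩ := h.meet (π y) (π x)
      rw [show {z | I z (π y) ∧ I x (π z)} = {z} from Set.eq_singleton_iff_unique_mem.2
        ⟨⟨h1, sym _ _ h2⟩, fun u hu => h.pt_eq (inj.ne e) (sym _ _ hu.2) hu.1 h2 h1⟩]
      simp
  have AJ : A * J = J := by
    ext x y
    simp only [A, J, Matrix.mul_apply, Matrix.of_apply, mul_one, cnt]
    rw [show {z | I x (π z)} = {z | I z (π x)} from Set.ext fun z => ⟨sym _ _, sym _ _⟩, h.pts]
    simp [m0]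
  have Ak : ∀ k, A ^ (k + 2) = J := fun k => by
    induction k with
    | zero => rw [zero_add, sq, A2]
    | succ k ih => rw [add_right_comm, pow_succ', ih, AJ]
  have := ZMod.trace_pow_card A
  rw [show A ^ r = J by rw [← Ak (r - 2), Nat.sub_add_cancel hr.two_le]] at this
  simp only [Matrix.trace, Matrix.diag, A, J, Matrix.of_apply, if_neg (hπ _).off, Finset.sum_const, Finset.card_univ,
    ← Nat.card_eq_fintype_card, h.cardP] at this
  simp [m0, hr.ne_zero] at this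

omit [Finite G] in
theorem caseB (hax : ∀ l, ∃ (g : G) (c : P), Ho I g c l) (hce : ∀ c, ∃ (g : G) (a : L), Ho I g c a)
    (u1 : ∀ d j j', Fl G I d j → Fl G I d j' → j = j')
    (u2 : ∀ j d d', Fl G I d j → Fl G I d' j → d = d') {A : P} {k : L} (F : Fl G I A k) : False := by
  have h := w.pl
  haveI := h.finL
  have i1 : ∀ {c j}, Fl G I c j → I c k → c = A := by
    intro c j F' hc
    by_contra e
    obtain ⟨h1, x, h2, h3, h4⟩ := id F'
    have := u2 k _ _ (h3 k hc ▸ h.fl_smul F x) F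
    exact e (u2 k _ _ (h.ln_eq e h1 (h.fixed_pt h2 h3 h4 this (Ne.symm e)) hc F.1 ▸ F') F)
  have i2 : ∀ {c j}, Fl G I c j → I A j → j = k := by
    intro c j F' hc
    by_contra e
    obtain ⟨h1, x, h2, h3, h4⟩ := id F'
    have := u1 A _ _ (h4 A hc ▸ h.fl_smul F x) F
    exact e (u1 A _ _ (h.pt_eq e h1 (h.fixed_ln h2 h3 h4 this (Ne.symm e)) hc F.1 ▸ F') F)
  have v1 : ∀ {j : L} {α β : G} {c c' : P}, I A j → j ≠ k → Ho I α c j → Ho I β c' j → c = c' := by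
    intro j α β c c' h1 h2 H K
    by_contra e
    have := h.dual.prod_E H.dual K.dual e
    obtain ⟨a, ha⟩ := h.dual.fl_of this.1 this.2
    exact h2 (i2 ha.dual h1)
  have v2 : ∀ {c : P} {α β : G} {j j' : L}, I c k → c ≠ A → Ho I α c j → Ho I β c j' → j = j' := by
    intro c α β j j' h1 h2 H K
    by_contra e
    have := h.prod_E H K e
    obtain ⟨a, ha⟩ := h.fl_of this.1 this.2
    exact h2 (i1 ha h1)
  have mv : ∀ j, I A j → ∃ (δ : G) (d : P) (g : L), Ho I δ d g ∧ ¬ I d j ∧ δ • A ≠ A := by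
    intro j hj
    by_contra! H
    have key : ∀ x, ¬ I x j → ¬ I x k → ∃ δ : G, Ho I δ x k := fun x h1 h2 => by
      obtain ⟨δ, g, K⟩ := hce x
      refine ⟨δ, by_contra fun e => h2 (h.fixed_ln K.ne K.cen K.ax
        (u1 A _ _ (H δ x g K h1 ▸ h.fl_smul F δ) F) fun e' => e (e' ▸ K))⟩
    obtain ⟨i, a1, a2, a3⟩ := h.exists_ln A j k
    obtain ⟨i', b1, b2⟩ : ∃ i', I A i' ∧ i' ∉ ({j, k, i} : Set L) := by
      by_contra! K
      have h1 := Set.ncard_le_ncard (show {l | I A l} ⊆ {j, k, i} from K)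
      have h2 := Set.ncard_insert_le j {k, i}
      have h3 := Set.ncard_insert_le k {i}
      obtain ⟨s, hs⟩ := w.odd
      have := h.two
      rw [Set.ncard_singleton] at h3
      rw [h.lns] at h1; omega
    simp only [Set.mem_insert_iff, Set.mem_singleton_iff, not_or] at b2
    obtain ⟨x, x1, x2, -⟩ := h.exists_pt i A A
    obtain ⟨y, y1, y2, -⟩ := h.exists_pt i' A A
    have xk : ¬ I x k := fun e => a3 (h.ln_eq x2 x1 a1 e F.1)
    obtain ⟨α, K1⟩ := key x (fun e => a2 (h.ln_eq x2 x1 a1 e hj)) xk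
    obtain ⟨β, K2⟩ := key y (fun e => b2.1 (h.ln_eq y2 y1 b1 e hj))
      (fun e => b2.2.1 (h.ln_eq y2 y1 b1 e F.1))
    have xy : x ≠ y := fun e => b2.2.2 (h.ln_eq x2 (e ▸ y1) b1 x1 a1)
    obtain ⟨⟨c1, B, c2, c3⟩, c4⟩ := h.dual.prod_E K1.dual K2.dual xy
    obtain rfl : B = A := u2 k _ _ ⟨c2, _, c4, c3, c1⟩ F
    obtain ⟨l, l1, l2⟩ := h.join x y
    have := h.fixed_ln c4 c3 c1 (l := l) (by rw [mul_smul, K2.cen l l2, K1.cen l l1])
      fun e => xk (e ▸ l1)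
    exact b2.2.2 ((h.ln_eq y2 y1 b1 l2 this).trans (h.ln_eq x2 l1 this x1 a1))
  obtain ⟨α, g1, H⟩ := hce A
  obtain ⟨c0, c1, c2⟩ := h.meet g1 k
  have key : ∀ {A' k' j}, Fl G I A' k' → A' ≠ A → I A j → I A' j → ∃ γ : G, Ho I γ c0 j := by
    intro A' k' j F' hA h1 h2
    have hj : j ≠ k := fun e => hA (i1 F' (e ▸ h2))
    obtain ⟨γ, c, K⟩ := hax j
    have hc : c ≠ A := fun e => K.off (e ▸ h1)
    obtain ⟨-, x, h3, h4, h5⟩ := id F
    refine ⟨γ, h.pt_eq (fun e : g1 = k => H.off (e ▸ F.1))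
      (h.fixed_pt H.ne H.cen H.ax (v1 h1 hj (H.cen j h1 ▸ h.ho_conj K α) K) hc)
      (h.fixed_pt h3 h4 h5 (v1 h1 hj (h4 j h1 ▸ h.ho_conj K x) K) hc) c1 c2 ▸ K⟩
  obtain ⟨δ, d, g, K, -, hδ⟩ := mv k F.1
  obtain ⟨j, j1, j2⟩ := h.join A (δ • A)
  obtain ⟨γ, Hγ⟩ := key (h.fl_smul F δ) hδ j1 j2
  obtain ⟨ξ, x, g', K', xj, hξ⟩ := mv j j1
  obtain ⟨i, i3, i4⟩ := h.join A x
  obtain ⟨γ', Hγ'⟩ := key (h.fl_smul F ξ) hξ i3 (h.inv_pt (K'.cen i i4) i3)
  exact xj (v2 c2 (fun e => H.off (e ▸ c1)) Hγ' Hγ ▸ i4)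

/-- Wagner's lemma -/
theorem main : (∃ p k : ℕ, p.Prime ∧ m = p ^ k) ∧ ∃ c a, Fl G I c a := by
  by_cases hax : ∀ l, ∃ (g : G) (c : P), Ho I g c l
  · by_cases hce : ∀ c, ∃ (g : G) (a : L), Ho I g c a
    · obtain ⟨A, k, F⟩ := w.exists_fl hax hce
      refine ⟨by_contra fun H => w.caseB hax hce (fun d => (w.single hax hce d).resolve_left H)
        (fun j d d' a b => (w.dual.single (fun c => ?_) (fun l => ?_) j).resolve_left H d d' a.dual
          b.dual) F, A, k, F⟩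
      · obtain ⟨g, a, K⟩ := hce c
        exact ⟨g, a, K.dual⟩
      · obtain ⟨g, a, K⟩ := hax l
        exact ⟨g, a, K.dual⟩
    · push Not at hce
      obtain ⟨c, hc⟩ := hce
      obtain ⟨h1, a, c, F⟩ := w.dual.caseA (l := c) fun g a K => hc g a K.dual
      exact ⟨⟨3, 1, Nat.prime_three, h1⟩, c, a, F.dual⟩
  · push Not at hax
    obtain ⟨l, hl⟩ := hax
    obtain ⟨h1, F⟩ := w.caseA hl
    exact ⟨⟨3, 1, Nat.prime_three, h1⟩, F⟩

end Wg
end H05
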