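import Mathlib
import Cfsg.Agent.H05.Plane2
import Cfsg.Agent.BG.Api2

/-! The Ostrom-Wagner theorem: a 2-transitive collineation group of a finite projective plane
contains elations (`H05.ow`) and gives the O'Nan configuration (`H05.Tr.onan`). Also Witt's lemma
`witt1`, `orbit_relIndex`, `lift_p`. -/

set_option autoImplicit false
open BG Cfsg
open Subgroup MulAction H05.Ito

namespace H05

section general
variable {G Y : Type*} [Group G] [MulAction G Y] {p : ℕ}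

theorem lift_p {K : Type*} [Group K] [Finite G] (hp : p.Prime) (f : G →* K) (hf : Function.Surjective f)
    {e : K} {k : ℕ} (he : e ^ p ^ k = 1) : ∃ g, f g = e ∧ ∃ a, g ^ p ^ a = 1 := by
  obtain ⟨g, rfl⟩ := hf e
  obtain ⟨a, u, hu, ho⟩ := Nat.exists_eq_pow_mul_and_not_dvd (orderOf_pos g).ne' p hp.ne_one
  obtain ⟨t, h1, h2⟩ := Nat.chineseRemainder
    (Nat.Coprime.pow_left k ((Nat.Prime.coprime_iff_not_dvd hp).2 hu)) 1 0
  refine ⟨g ^ t, ?_, a, ?_⟩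
  · rw [map_pow, pow_eq_pow_of_modEq h1 he, pow_one]
  · rw [← pow_mul, ← orderOf_dvd_iff_pow_eq_one, ho, mul_comm]
    exact Nat.mul_dvd_mul_right ((Nat.modEq_zero_iff_dvd).1 h2) _

theorem pg_zpowers {g : G} {a : ℕ} (h : g ^ p ^ a = 1) : IsPGroup p (zpowers g) := by
  rintro ⟨_, k, rfl⟩
  refine ⟨a, Subtype.ext ?_⟩
  rw [coe_pow, coe_one, ← zpow_natCast, ← zpow_mul, mul_comm, zpow_mul, zpow_natCast, h, one_zpow]

theorem stab_cj {V : Subgroup G} {g : G} {ω : Y} (hV : V ≤ stabilizer G (g • ω)) :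
    cj g⁻¹ V ≤ stabilizer G ω := fun x hx => by
  have : (g * x * g⁻¹) • g • ω = g • ω := hV (mem_cj_inv.1 hx)
  rwa [mul_smul, inv_smul_smul, mul_smul, smul_left_cancel_iff] at this

theorem witt1 [Finite G] (hp : p.Prime) {U : Subgroup G} {ω : Y} (hU : IsSylowIn p U (stabilizer G ω))
    (g : G) (hU' : U ≤ stabilizer G (g • ω)) : ∃ s ∈ normalizer (U : Set G), s • ω = g • ω := by
  obtain ⟨t, ht, h⟩ := sylow_Jsub hp hU (isPGroup_cj.2 (hU.pg hp)) (stab_cj hU')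
  rw [cj_cj] at h
  refine ⟨_, inv_mem (mem_norm_of_cj_le h), ?_⟩
  rw [mul_inv_rev, inv_inv, mul_smul, show t⁻¹ • ω = ω from inv_mem ht]

theorem syl_card [Finite G] (hp : p.Prime) {U V : Subgroup G} {ω : Y}
    (hU : IsSylowIn p U (stabilizer G ω)) (g : G) (hV : IsPGroup p V) (hV' : V ≤ stabilizer G (g • ω)) :
    Nat.card V ≤ Nat.card U := by
  obtain ⟨t, -, h⟩ := sylow_Jsub hp hU (isPGroup_cj.2 hV) (stab_cj hV')
  simpa using card_le_of_le h

theorem syl_mem [Finite G] (hp : p.Prime) {U : Subgroup G} {ω : Y}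
    (hU : IsSylowIn p U (stabilizer G ω)) (s : G) (hU' : U ≤ stabilizer G (s • ω)) {g : G} {a : ℕ}
    (hg : g ∈ normalizer (U : Set G)) (ha : g ^ p ^ a = 1) (e : g • s • ω = s • ω) : g ∈ U := by
  have := eq_of_le_of_card_ge (le_sup_left : U ≤ U ⊔ zpowers g) (syl_card hp hU s
    (pg_sup (hU.pg hp) (pg_zpowers ha) (zpowers_le.2 hg)) (sup_le hU' (zpowers_le.2 e)))
  exact this.ge (mem_sup_right (mem_zpowers g))

theorem orbit_ncard (S : Subgroup G) (x : Y) : (orbit S x).ncard = (stabilizer G x).relIndex S := by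
  rw [← index_stabilizer]; rfl

theorem orbit_relIndex {S H : Subgroup G} (hle : S ≤ H) (x : Y) :
    (orbit S x).ncard * S.relIndex H =
      (S ⊓ stabilizer G x).relIndex (H ⊓ stabilizer G x) * (orbit H x).ncard := by
  rw [orbit_ncard, orbit_ncard, ← inf_relIndex_left S, ← inf_relIndex_left H (stabilizer G x),
    relIndex_mul_relIndex _ _ _ inf_le_left hle,
    relIndex_mul_relIndex _ _ _ (inf_le_inf_right _ hle) inf_le_left]

theorem syl_relIndex {S H : Subgroup G} (hp : p.Prime) (hS : IsSylowIn p S ⊤) (hle : S ≤ H) :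
    ¬ p ∣ S.relIndex H := fun e => hS.not_dvd' hp (by
  rw [relIndex_top_right]; exact e.trans (relIndex_dvd_index_of_le hle))

theorem pow_dvd_orbit {S H : Subgroup G} (hp : p.Prime) (hS : IsSylowIn p S ⊤) (hle : S ≤ H) (x : Y)
    {k : ℕ} (hk : p ^ k ∣ (orbit H x).ncard) : p ^ k ∣ (orbit S x).ncard :=
  (Nat.Coprime.pow_left k ((Nat.Prime.coprime_iff_not_dvd hp).2
    (syl_relIndex hp hS hle))).dvd_of_dvd_mul_right (orbit_relIndex hle x ▸ hk.mul_left _)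

theorem dvd_of_nofix [Finite Y] (hp : p.Prime) {U : Subgroup G} (hU : IsPGroup p U) (s : Set Y)
    (hs : ∀ u ∈ U, ∀ x ∈ s, u • x ∈ s) (hx : ∀ x ∈ s, ∃ u ∈ U, u • x ≠ x) : p ∣ s.ncard := by
  haveI := Fact.mk hp
  refine dvd_of_orbits U s p hs fun x h => ?_
  obtain ⟨i, hi⟩ := hU.card_orbit x
  obtain ⟨u, hu, hux⟩ := hx x h
  change (orbit U x).ncard = _ at hi
  rw [hi]
  refine dvd_pow_self _ fun e => hux ?_
  rw [e, pow_zero] at hi
  exact (Set.ncard_le_one (Set.toFinite _)).1 hi.le _ ⟨⟨u, hu⟩, rfl⟩ _ (mem_orbit_self x)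

theorem exists_sq {U : Subgroup G} (a : ℕ) : ∀ {g : G}, g ^ 2 ^ a ∈ U → g ∉ U →
    ∃ k, g ^ k ∉ U ∧ g ^ k * g ^ k ∈ U := by
  induction a with
  | zero => intro g h1 h2; simp_all
  | succ a ih =>
    intro g h1 h2
    by_cases e : g ^ 2 ∈ U
    · exact ⟨1, by simpa using h2, by simpa [sq] using e⟩
    · obtain ⟨k, h3⟩ := ih (g := g ^ 2) (by rwa [← pow_mul, ← pow_succ']) e
      exact ⟨2 * k, by rwa [pow_mul]⟩

theorem two_fix [Finite G] (two : ∀ a b c d : Y, a ≠ b → c ≠ d → ∃ g : G, g • a = c ∧ g • b = d)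
    {U : Subgroup G} (hU : IsPGroup 2 U)
    (hI : ∀ g ∈ normalizer (U : Set G), g ∉ U → g * g ∈ U →
      ∃ z ∈ fx Y U, ∃ z' ∈ fx Y U, z ≠ z' ∧ g • z = z ∧ g • z' = z')
    {y y' : Y} (hy : y ∈ fx Y U) (hy' : y' ∈ fx Y U) (hne : y ≠ y') :
    ∃ g ∈ normalizer (U : Set G), g ∉ U ∧ g * g ∈ U ∧ g • y = y ∧ g • y' = y' := by
  have hp := Nat.prime_two
  have le : ∀ {y y'}, y ∈ fx Y U → y' ∈ fx Y U → U ≤ stabilizer G (y, y') := fun hy hy' u hu =>
    Prod.ext (hy u hu) (hy' u hu)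
  by_cases hS : IsSylowIn 2 U (stabilizer G (y, y'))
  · exfalso
    obtain ⟨t, h1, h2⟩ := two y y' y' y hne hne.symm
    have ht : t • (y, y') = (y', y) := Prod.ext h1 h2
    obtain ⟨s, hs, h3⟩ := witt1 hp hS t (ht ▸ le hy' hy)
    rw [ht] at h3
    obtain ⟨a, u, hu, ho⟩ := Nat.exists_eq_pow_mul_and_not_dvd (orderOf_pos s).ne' 2 (by norm_num)
    obtain ⟨v, rfl⟩ := Nat.odd_iff.2 (Nat.two_dvd_ne_zero.1 hu)
    have h4 : (s ^ (2 * v + 1)) ^ 2 ^ a = 1 := by rw [← pow_mul, mul_comm, ← ho, pow_orderOf_eq_one]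
    have h5 : s • y = y' := congrArg Prod.fst h3
    have h6 : s ^ 2 ∈ stabilizer G y := by
      rw [mem_stabilizer_iff, sq, mul_smul, h5]; exact congrArg Prod.snd h3
    obtain ⟨k, h7, h8⟩ := exists_sq (U := U) a (h4 ▸ one_mem U) fun e => hne (by
      have := hy _ e
      rwa [pow_succ', mul_smul, pow_mul, show (s ^ 2) ^ v • y = y from pow_mem h6 v, h5, eq_comm] at this)
    have hn := pow_mem (pow_mem hs (2 * v + 1)) k
    obtain ⟨z, hz, z', hz', h9, e1, e2⟩ := hI _ hn h7 h8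
    obtain ⟨r, r1, r2⟩ := two y y' z z' hne h9
    have hr : r • (y, y') = (z, z') := Prod.ext r1 r2
    exact h7 (syl_mem hp hS r (hr ▸ le hz hz') hn (a := a)
      (by rw [← pow_mul, mul_comm k, pow_mul, h4, one_pow]) (by rw [hr]; exact Prod.ext e1 e2))
  · obtain ⟨S, h1, h2⟩ := sylow_superset hp hU (le_inf (le hy hy') le_normalizer)
    obtain ⟨g, hg, hgU⟩ := SetLike.exists_of_lt (lt_of_le_of_ne h2 fun e =>
      hS (IsSylowIn.of_norm hp (le hy hy') (e ▸ h1)))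
    obtain ⟨a, ha⟩ := h1.pg hp ⟨g, hg⟩
    obtain ⟨k, h3, h4⟩ := exists_sq (U := U) (g := g) a
      ((show g ^ 2 ^ a = 1 from congrArg Subtype.val ha) ▸ one_mem U) hgU
    have := pow_mem (((isSylowIn_iff hp).1 h1).1 hg) k
    exact ⟨_, this.2, h3, h4, congrArg Prod.fst this.1, congrArg Prod.snd this.1⟩

end general

variable {G P L : Type*} [Group G] [MulAction G P] [MulAction G L]

/-- a plane with a 2-transitive group -/
structure Tr (G : Type*) {P L : Type*} [Group G] [MulAction G P] [MulAction G L]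
    (I : P → L → Prop) (n : ℕ) : Prop where
  pl : Pl G I n
  two : ∀ a b c d : P, a ≠ b → c ≠ d → ∃ g : G, g • a = c ∧ g • b = d
  two' : ∀ a b c d : L, a ≠ b → c ≠ d → ∃ g : G, g • a = c ∧ g • b = d
  anti : ∀ x b c, ¬ I x b → ¬ I x c → ∃ g : G, g • x = x ∧ g • b = c
  anti' : ∀ b x y, ¬ I x b → ¬ I y b → ∃ g : G, g • b = b ∧ g • x = y

namespace Pl
variable {I : P → L → Prop} {n : ℕ} (h : Pl G I n)
include h

theorem flag (two : ∀ a b c d : P, a ≠ b → c ≠ d → ∃ g : G, g • a = c ∧ g • b = d) {x y : P} {l k : L}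
    (h1 : I x l) (h2 : I y k) : ∃ g : G, g • x = y ∧ g • l = k := by
  obtain ⟨x', h3, h4, -⟩ := h.exists_pt l x x
  obtain ⟨y', h5, h6, -⟩ := h.exists_pt k y y
  obtain ⟨g, rfl, rfl⟩ := two x x' y y' h4.symm h6.symm
  exact ⟨g, rfl, h.ln_eq h6 (h.inv g _ _ h3) (h.inv g _ _ h1) h5 h2⟩

theorem tr [Finite G] (two : ∀ a b c d : P, a ≠ b → c ≠ d → ∃ g : G, g • a = c ∧ g • b = d) :
    Tr G I n := by
  haveI := h.finP
  haveI := h.finL
  obtain ⟨a⟩ := h.neP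
  obtain ⟨l, hl, -⟩ := h.join a a
  have trL : ∀ k, ∃ g : G, g • l = k := fun k => by
    obtain ⟨y, hy, -⟩ := h.meet k k
    exact (h.flag two hl hy).imp fun _ e => e.2
  obtain ⟨k, m, D⟩ := design (G := G) (h.cardL.trans h.cardP.symm) l a trL two h.faith
    ((h.exists_off l l).imp fun b hb g e e' => hb.1 (e' ▸ h.inv_pt e hl)) (fun b => by
      by_contra! H
      by_cases hb : I b l
      · obtain ⟨y, h1, h2, -⟩ := h.exists_pt l b b
        obtain ⟨g, h3, h4⟩ := h.flag two hb h1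
        exact h2 (h3 ▸ H g h4)
      · haveI : IsPretransitive G L := ⟨fun x y => by
          obtain ⟨s, rfl⟩ := trL x
          obtain ⟨t, rfl⟩ := trL y
          exact ⟨t * s⁻¹, by simp [mul_smul]⟩⟩
        haveI : IsPretransitive G P := ⟨fun x y => by
          obtain ⟨j, h1, h2⟩ := h.join x y
          exact (h.flag two h1 h2).imp fun _ e => e.1⟩
        have hle : stabilizer G l ≤ stabilizer G b := H
        have := relIndex_mul_index hle
        rw [index_stabilizer_of_transitive, index_stabilizer_of_transitive, h.cardL, h.cardP,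
          mul_eq_right₀ (by omega), relIndex_eq_one] at this
        obtain ⟨j, h1, -⟩ := h.join b b
        obtain ⟨x, h2, h3⟩ := h.meet j l
        obtain ⟨y, h4, h5, h6⟩ := h.exists_pt j b x
        obtain ⟨g, h7, rfl⟩ := two b x b y (fun e => hb (e ▸ h3)) h5.symm
        exact h6 (h.pt_eq (fun e : j = l => hb (e ▸ h1)) h4 (h.inv_pt (this h7) h3) h2 h3))
  have e : ∀ k x, (∃ g : G, g • l = k ∧ g • a = x) ↔ I x k := fun k x =>
    ⟨fun ⟨g, h1, h2⟩ => h1 ▸ h2 ▸ h.inv g _ _ hl, fun e => (h.flag two hl e).imp fun _ => And.symm⟩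
  have an : ∀ b x y, ¬ I x b → ¬ I y b → ∃ g : G, g • b = b ∧ g • x = y := fun b x y h1 h2 =>
    D.anti b x y (mt (e _ _).1 h1) (mt (e _ _).1 h2)
  refine ⟨h, two, D.two, fun x b c h1 h2 => ?_, an⟩
  obtain ⟨s, rfl⟩ := trL b
  obtain ⟨t, rfl⟩ := trL c
  obtain ⟨g, h3, h4⟩ := an l (s⁻¹ • x) (t⁻¹ • x) (fun e => h1 (by simpa using h.inv s _ _ e))
    (fun e => h2 (by simpa using h.inv t _ _ e))
  exact ⟨t * g * s⁻¹, by simp [mul_smul, h4], by simp [mul_smul, h3]⟩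

theorem cfg : Cfg I Set.univ Set.univ := by
  obtain ⟨x⟩ := h.neP
  obtain ⟨l, h1, -⟩ := h.join x x
  obtain ⟨k, h2, h3, -⟩ := h.exists_ln x l l
  obtain ⟨y, h4, h5, -⟩ := h.exists_pt l x x
  obtain ⟨z, h6, h7⟩ := h.exists_off l k
  obtain ⟨j, h8, h9⟩ := h.exists_off' x y
  exact ⟨z, trivial, x, trivial, y, trivial, j, trivial, l, trivial, k, trivial, h6, h7, h8, h1, h2, h9,
    h4, fun e => h3 (h.ln_eq h5 e h2 h4 h1)⟩

omit h in
theorem lift [Finite G] [Finite P] [Finite L] {U : Subgroup G} {m p k : ℕ} (hp : p.Prime)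
    (h1 : Pl (Gm P L U) (Ir I U) m) (hm : m = p ^ k) {c : fx P U} {a : fx L U}
    (F : Fl (Gm P L U) (Ir I U) c a) : ∃ g ∈ normalizer (U : Set G), g ∉ U ∧ (∃ i, g ^ p ^ i = 1) ∧
      ∃ A ∈ fx P U, ∃ l ∈ fx L U, ∃ R ∈ fx P U, I A l ∧ ¬ I R l ∧ g • (A, l, R) = (A, l, R) := by
  obtain ⟨h2, e, h3, h4, h5⟩ := F
  obtain ⟨g, rfl, i, hi⟩ := lift_p hp _ (res_surj U) (e := e) (k := k)
    (orderOf_dvd_iff_pow_eq_one.1 (hm ▸ h1.orderOf_dvd ⟨h4, a, h2, h5⟩))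
  obtain ⟨l, h6, h7, -⟩ := h1.exists_ln c a a
  obtain ⟨R, h8, h9, -⟩ := h1.exists_pt a c c
  exact ⟨g, g.2, fun e => h3 (gm_ext (fun x => Subtype.ext (x.2 _ e)) fun x => Subtype.ext (x.2 _ e)),
    ⟨i, congrArg Subtype.val hi⟩, c, c.2, l, l.2, R, R.2, h6, fun e => h7 (h1.ln_eq h9 e h6 h8 h2),
    Prod.ext (congrArg Subtype.val (h1.cfix h4))
      (Prod.ext (congrArg Subtype.val (h4 l h6)) (congrArg Subtype.val (h5 R h8)))⟩

end Pl

namespace Tr
variable [Finite G] {I : P → L → Prop} {n : ℕ} (w : Tr G I n)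
include w

omit [Finite G] in
theorem dual : Tr G (flip I) n := ⟨w.pl.dual, w.two', w.two, w.anti', w.anti⟩

omit [Finite G] in
theorem sd : SD G I (n + 1) 1 := by
  have h := w.pl
  have pp : ∀ {P L : Type _} [MulAction G P] [MulAction G L] {I : P → L → Prop}, Pl G I n →
      ∀ x y, x ≠ y → {b | I x b ∧ I y b}.ncard = 1 := fun h x y hxy => by
    obtain ⟨l, h1, h2⟩ := h.join x y
    exact Set.ncard_eq_one.2 ⟨l, Set.eq_singleton_iff_unique_mem.2
      ⟨⟨h1, h2⟩, fun k hk => h.ln_eq hxy hk.1 hk.2 h1 h2⟩⟩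
  refine ⟨h.inv, w.two, w.anti, h.faith, h.faith', h.pts, h.lns, pp h, fun l k hlk => ?_, le_rfl,
    by have := h.two; omega, fun x => ?_⟩
  · obtain ⟨x, h1, h2⟩ := h.meet l k
    exact Set.ncard_eq_one.2 ⟨x, Set.eq_singleton_iff_unique_mem.2
      ⟨⟨h1, h2⟩, fun y hy => h.pt_eq hlk hy.1 hy.2 h1 h2⟩⟩
  · obtain ⟨l, h1, -⟩ := h.exists_off' x x
    obtain ⟨y, h2, -⟩ := h.meet l l
    obtain ⟨j, h3, h4⟩ := h.join x y
    obtain ⟨k, h5, h6, h7⟩ := h.exists_ln y l j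
    exact ⟨k, l, h6, fun e => h7 (h.ln_eq (fun e : x = y => h1 (e ▸ h2)) e h5 h3 h4), h1⟩

theorem onan {x : P} (hK : Kc G I x ≠ ⊥) : ∃ (p : ℕ) (N : P → Subgroup G), ON p N ∧
    (∀ x, N x ≤ w.pl.E x) ∧ ∀ x y z l, x ≠ y → I x l → I y l → (ON.Col N x y z ↔ I z l) := by
  have h := w.pl
  haveI := h.finP
  haveI := h.finL
  obtain ⟨A, h1, h2, h3, h4⟩ := w.sd.nilp hK
  obtain ⟨M, hM, hM1, hc, hn⟩ := exists_abelian h1 h2 h3 h4
  obtain ⟨⟨g, hg⟩, g1⟩ := (nontrivial_iff_exists_ne 1).1 ((nontrivial_iff_ne_bot _).2 hM1)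
  have g1 : g ≠ 1 := fun e => g1 (Subtype.ext e)
  obtain ⟨p, N, hN, hle⟩ := ON.of_normal h.faith w.two x M (fun n hn => h.cfix (hM hn))
    (fun a ha => hn a (mem_normalizer_iff.2 fun n => ⟨fun e => ha ▸ h.cconj (g := a) e, fun e => by
      have := h.cconj (g := a⁻¹) e
      rw [inv_smul_eq_iff.2 ha.symm] at this
      simpa [mul_assoc] using this⟩)) hc ⟨g, hg, g1, w.sd.exists_fix (hM hg) g1⟩
  have k1 : ∀ y, N y ≤ Kc G I y := fun y u hu => by
    obtain ⟨j, h5, h6⟩ := h.join y x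
    obtain ⟨s, rfl, -⟩ := h.flag w.two h5 h6
    simpa [mul_assoc] using h.cconj (g := s⁻¹) (hM (hle (hN.conj s y u hu)))
  have k2 : ∀ y, N y ≤ h.E y := fun y u hu => by
    obtain ⟨a, ha⟩ := h.exists_axis (k1 y hu)
    by_cases u1 : u = 1
    · exact u1 ▸ one_mem _
    refine ⟨k1 y hu, a, by_contra fun e => u1 ?_, ha⟩
    obtain ⟨b, c, hbc, hb, hc⟩ := w.sd.off y
    have key : ∀ b, ¬ I y b → u ∈ Kc G (flip I) b := fun b hb => by
      obtain ⟨s, h5, rfl⟩ := w.anti y b a hb e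
      have := h.comm_ax u1 ha (hN.comm y _ (h5 ▸ hN.conj s y u hu) u hu)
      rw [mul_smul, mul_smul, inv_smul_smul, smul_left_cancel_iff] at this
      exact h.axis_of_fix (k1 y hu) hb this
    exact h.two_a hbc (key b hb) (key c hc)
  refine ⟨p, N, hN, k2, fun x y z l hxy h5 h6 => ⟨fun e => ?_, fun e u hu uy =>
    h.E_fix_pt (k2 x hu) hxy.symm h5 h6 uy z e⟩⟩
  obtain ⟨u, hu, u1, uy⟩ := hN.ne x y hxy
  by_cases e' : z = x
  · exact e' ▸ h5
  exact h.fixed_pt u1 (k1 x hu) (h.E_fix_pt (k2 x hu) hxy.symm h5 h6 uy) (e u hu uy) e'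

theorem concl {x : P} (hK : Kc G I x ≠ ⊥) : (∃ p k : ℕ, p.Prime ∧ n = p ^ k) ∧ ∃ c a, Fl G I c a := by
  have h := w.pl
  haveI := h.finP
  obtain ⟨p, N, hN, h1, h2⟩ := w.onan hK
  obtain ⟨l, h3, -⟩ := h.join x x
  obtain ⟨y, h4, h5, -⟩ := h.exists_pt l x x
  obtain ⟨u, hu, u1, -⟩ := hN.ne x y h5.symm
  haveI := Fact.mk hN.prime
  obtain ⟨k, hk⟩ := (hN.pg x).card_orbit y
  refine ⟨⟨p, k, hN.prime, ?_⟩, x, h.fl_of (h1 x hu) u1⟩
  rw [← hk, ← h.card_ln_diff h3]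
  refine congrArg Set.ncard (Set.ext fun z => ⟨fun hz => ?_, ?_⟩)
  · obtain ⟨v, hv, e⟩ := hN.trans h5.symm hz.2.symm ((h2 x y z l h5.symm h3 h4).2 hz.1)
    exact ⟨⟨v, hv⟩, e⟩
  · rintro ⟨v, rfl⟩
    exact ⟨h.inv_pt ((h1 x v.2).1 l h3) h4, (ne_smul_of (hN.fix x _ v.2) h5.symm).symm⟩

omit [Finite G] in
theorem orbit_off {l : L} {x : P} (hx : ¬ I x l) : orbit (stabilizer G l) x = {y | ¬ I y l} := by
  ext y
  refine ⟨?_, fun hy => ?_⟩
  · rintro ⟨g, rfl⟩ e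
    exact hx (by simpa [Subgroup.smul_def] using w.pl.inv_pt (inv_mem g.2) e)
  · obtain ⟨g, h1, h2⟩ := w.anti' l x y hx hy
    exact ⟨⟨g, h1⟩, h2⟩

theorem syl {p : ℕ} (hp : p.Prime) (hd : p ∣ n) : ∃ (S : Subgroup G) (A : P) (l : L) (z : G),
    IsSylowIn p S ⊤ ∧ I A l ∧ S ≤ stabilizer G A ∧ S ≤ stabilizer G l ∧ z ∈ S ∧ z ≠ 1 ∧ z ^ p = 1 ∧
      ∀ s ∈ S, s * z = z * s := by
  have h := w.pl
  haveI := h.finP
  haveI := h.finL
  obtain ⟨S, hS⟩ := sylow_exists hp (⊤ : Subgroup G)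
  obtain ⟨l, hl⟩ : ∃ l : L, S ≤ stabilizer G l := by
    by_contra! H
    have := dvd_of_nofix hp (hS.pg hp) (Set.univ : Set L) (by simp)
      fun l _ => SetLike.not_le_iff_exists.1 (H l)
    rw [Set.ncard_univ, h.cardL, Nat.dvd_add_right (dvd_add (hd.pow two_ne_zero) hd)] at this
    exact hp.not_dvd_one this
  obtain ⟨A, hA, hA'⟩ : ∃ A, I A l ∧ S ≤ stabilizer G A := by
    by_contra! H
    have := dvd_of_nofix hp (hS.pg hp) {x | I x l} (fun u hu x hx => h.inv_pt (hl hu) hx)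
      fun x hx => SetLike.not_le_iff_exists.1 (H x hx)
    rw [h.pts, Nat.dvd_add_right hd] at this
    exact hp.not_dvd_one this
  have S1 : S ≠ ⊥ := by
    rintro rfl
    obtain ⟨x, hx, -⟩ := h.exists_off l l
    have := pow_dvd_orbit hp hS hl x (k := 1) (by
      rw [w.orbit_off hx, h.card_off, pow_one]; exact hd.pow two_ne_zero)
    rw [orbit_ncard, relIndex_bot_right, pow_one] at this
    exact hp.not_dvd_one this
  haveI := Fact.mk hp
  obtain ⟨⟨z, hz⟩, ho⟩ := exists_prime_orderOf_dvd_card' p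
    (pg_dvd hp (hS.pg hp).to_inf_left (pg_center_ne_bot hp (hS.pg hp) S1))
  rw [← orderOf_coe] at ho
  exact ⟨S, A, l, z, hS, hA, hA', hl, hz.1, fun e => hp.ne_one (by simpa [e] using ho.symm),
    orderOf_dvd_iff_pow_eq_one.1 ho.dvd, hz.2⟩

theorem even (hn : 2 ∣ n) : ∃ x, Kc G I x ≠ ⊥ := by
  have h := w.pl
  haveI := h.finP
  obtain ⟨S, A, l, z, hS, -, -, hl, hz, z1, z2, hc⟩ := w.syl Nat.prime_two hn
  rcases h.central_or_cfg (g := z) (by rwa [← sq]) with ⟨c, hc⟩ | hC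
  · exact ⟨c, fun e => z1 ((eq_bot_iff_forall _).1 e z hc)⟩
  exfalso
  have hC : Cfg I (fx P (zpowers z)) (fx L (zpowers z)) := hC.mono
    (fun x hx => show zpowers z ≤ stabilizer G x from zpowers_le.2 hx)
    (fun x hx => show zpowers z ≤ stabilizer G x from zpowers_le.2 hx)
  obtain ⟨m, h1⟩ := h.sub hC
  obtain ⟨j, hj⟩ := h.baer 1 (by rw [Nat.card_zpowers, orderOf_eq_prime z2 z1, pow_one]) hC h1
  have hF : {x | x ∈ fx P (zpowers z) ∧ ¬ I x l}.ncard = m ^ 2 :=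
    (ncard_sub (S := fx P (zpowers z)) (¬ I · l)).symm.trans
      (h1.card_off ⟨l, show zpowers z ≤ stabilizer G l from zpowers_le.2 (hl hz)⟩)
  have key : ∀ k, 2 ^ k ∣ n ^ 2 → 2 ^ k ∣ m ^ 2 := fun k hk => by
    rw [← hF]
    refine dvd_of_orbits S _ _ (fun u hu x hx => ⟨show zpowers z ≤ stabilizer G _ from zpowers_le.2 ?_,
      fun e => hx.2 (by simpa using h.inv_pt (hl (inv_mem hu)) e)⟩) fun x hx =>
      pow_dvd_orbit Nat.prime_two hS hl x (by rwa [w.orbit_off hx.2, h.card_off])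
    rw [mem_stabilizer_iff, ← mul_smul, ← hc u hu, mul_smul, hx.1 z (mem_zpowers z)]
  have h2 := h.two
  have h3 := h1.two
  rcases j with _ | _ | j
  · rw [pow_zero] at hj; omega
  · refine z1 (h.faith z fun x => ?_)
    have : (fx P (zpowers z) : Set P) = Set.univ := Set.eq_of_subset_of_ncard_le (Set.subset_univ _)
      (by rw [Set.ncard_univ, h.cardP, hj, zero_add, pow_one]; exact h1.cardP.ge)
    exact (this.ge (Set.mem_univ x)) z (mem_zpowers z)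
  · obtain ⟨t, u, hu, rfl⟩ := Nat.exists_eq_two_pow_mul_odd (show m ≠ 0 by omega)
    have ht : t ≠ 0 := by
      rintro rfl
      rw [hj, pow_zero, one_mul] at hn
      exact (Nat.not_even_iff_odd.2 hu.pow) (even_iff_two_dvd.2 hn)
    have := key (2 * t + 1) (by
      rw [hj, ← pow_mul, mul_pow, ← pow_mul]
      exact (pow_dvd_pow _ (by nlinarith [Nat.pos_of_ne_zero ht])).mul_right _)
    rw [mul_pow, ← pow_mul, mul_comm t, pow_succ, Nat.mul_dvd_mul_iff_left (by positivity)] at this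
    exact (Nat.not_even_iff_odd.2 hu.pow) (even_iff_two_dvd.2 this)

theorem odd (hn : Odd n) : ∃ p k : ℕ, p.Prime ∧ n = p ^ k ∧ ∃ g : G, g ≠ 1 ∧ (∃ i, g ^ p ^ i = 1) ∧
    ∃ A l R, I A l ∧ ¬ I R l ∧ g • (A, l, R) = (A, l, R) := by
  have h := w.pl
  haveI := h.finP
  haveI := h.finL
  have hp := Nat.prime_two
  obtain ⟨U, ⟨hU, hC⟩, hmax⟩ := Set.Finite.exists_maximal (Set.toFinite
    {U : Subgroup G | IsPGroup 2 U ∧ Cfg I (fx P U) (fx L U)}) ⟨⊥, pg_bot, h.cfg.mono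
      (fun x _ u hu => by simp [mem_bot.1 hu]) (fun x _ u hu => by simp [mem_bot.1 hu])⟩
  obtain ⟨m, h1⟩ := h.sub hC
  obtain ⟨k, hk⟩ := pg_card hp hU
  obtain ⟨j, hj⟩ := h.baer k hk hC h1
  have hm : Odd m := by
    rcases j with _ | j
    · have := h.two; rw [pow_zero] at hj; omega
    · rw [hj, pow_succ] at hn; exact (Nat.odd_mul.1 hn).2
  have mx : ∀ (g : normalizer (U : Set G)) (i : ℕ), (g : G) ^ 2 ^ i = 1 →
      Cfg (Ir I U) {x | res P L U g • x = x} {x | res P L U g • x = x} → (g : G) ∈ U := by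
    rintro g i hi ⟨p₁, a1, p₂, a2, p₃, a3, l₁, b1, l₂, b2, l₃, b3, H⟩
    have k1 : ∀ x : fx P U, res P L U g • x = x → (x : P) ∈ fx P (U ⊔ zpowers (g : G)) := fun x hx =>
      show U ⊔ zpowers (g : G) ≤ stabilizer G (x : P) from
        sup_le x.2 (zpowers_le.2 (congrArg Subtype.val hx))
    have k2 : ∀ x : fx L U, res P L U g • x = x → (x : L) ∈ fx L (U ⊔ zpowers (g : G)) := fun x hx =>
      show U ⊔ zpowers (g : G) ≤ stabilizer G (x : L) from
        sup_le x.2 (zpowers_le.2 (congrArg Subtype.val hx))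
    exact hmax ⟨pg_sup hU (pg_zpowers hi) (zpowers_le.2 g.2), p₁, k1 _ a1, p₂, k1 _ a2, p₃, k1 _ a3,
      l₁, k2 _ b1, l₂, k2 _ b2, l₃, k2 _ b3, H⟩ le_sup_left (mem_sup_right (mem_zpowers _))
  have r1 : ∀ g : normalizer (U : Set G), (g : G) ∈ U → res P L U g = 1 := fun g e =>
    gm_ext (fun x => Subtype.ext (x.2 _ e)) fun x => Subtype.ext (x.2 _ e)
  have inv : ∀ γ : Gm P L U, γ ≠ 1 → γ * γ = 1 → ∃ c a, Ho (Ir I U) γ c a := fun γ e1 e2 => by
    rcases h1.central_or_cfg e2 with ⟨c, hc⟩ | H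
    · exact ⟨c, h1.ho_of hm e1 e2 hc⟩
    obtain ⟨g, rfl, i, hi⟩ := lift_p hp _ (res_surj U) (e := γ) (k := 1) (by rwa [pow_one, sq])
    exact (e1 (r1 g (mx g i (congrArg Subtype.val hi) H))).elim
  have ho : ∀ g (hg : g ∈ normalizer (U : Set G)), g ∉ U → g * g ∈ U →
      ∃ c a, Ho (Ir I U) (res P L U ⟨g, hg⟩) c a := fun g hg e1 e2 => by
    refine inv _ (fun e => e1 (mx ⟨g, hg⟩ (k + 1) ?_ ?_)) (by rw [← map_mul]; exact r1 _ e2)
    · rw [pow_succ', pow_mul, sq, ← hk]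
      exact congrArg Subtype.val (pow_card_eq_one' (x := (⟨g * g, e2⟩ : U)))
    · simpa [e] using h1.cfg
  have W : Wg (Gm P L U) (Ir I U) m := by
    refine ⟨h1, hm, fun x y hxy => ?_, fun x y hxy => ?_, inv⟩
    · obtain ⟨g, hg, e1, e2, e3, e4⟩ := two_fix w.two hU (fun g hg e1 e2 => by
        obtain ⟨c, a, H⟩ := ho g hg e1 e2
        obtain ⟨z, hz, -⟩ := h1.meet a a
        exact ⟨c, c.2, z, z.2, fun e => H.off (Subtype.ext e ▸ hz), congrArg Subtype.val (h1.cfix H.cen),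
          congrArg Subtype.val (H.ax z hz)⟩) x.2 y.2 (Subtype.val_injective.ne hxy)
      obtain ⟨c, a, H⟩ := ho g hg e1 e2
      exact ⟨_, c, a, H, Subtype.ext e3, Subtype.ext e4⟩
    · obtain ⟨g, hg, e1, e2, e3, e4⟩ := two_fix w.two' hU (fun g hg e1 e2 => by
        obtain ⟨c, a, H⟩ := ho g hg e1 e2
        obtain ⟨z, hz, -⟩ := h1.join c c
        exact ⟨a, a.2, z, z.2, fun e => H.off (Subtype.ext e ▸ hz), congrArg Subtype.val (h1.afix H.ax),
          congrArg Subtype.val (H.cen z hz)⟩) x.2 y.2 (Subtype.val_injective.ne hxy)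
      obtain ⟨c, a, H⟩ := ho g hg e1 e2
      exact ⟨_, c, a, H, Subtype.ext e3, Subtype.ext e4⟩
  obtain ⟨⟨p, i, hp, hi⟩, c, a, F⟩ := W.main
  obtain ⟨g, -, h2, h3, A, -, l, -, R, -, H⟩ := Pl.lift hp h1 hi F
  exact ⟨p, i * j, hp, by rw [hj, hi, pow_mul], g, fun e => h2 (e ▸ one_mem U), h3, A, l, R, H⟩

theorem syl_trans {p k : ℕ} (hp : p.Prime) (hn : n = p ^ k) {S : Subgroup G} (hS : IsSylowIn p S ⊤)
    {l : L} (hl : S ≤ stabilizer G l) {x : P} (hx : ¬ I x l) : orbit S x = {y | ¬ I y l} := by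
  haveI := w.pl.finP
  have := pow_dvd_orbit hp hS hl x (k := k * 2) (by rw [w.orbit_off hx, w.pl.card_off, hn, pow_mul])
  refine Set.eq_of_subset_of_ncard_le (w.orbit_off hx ▸ ?_) ?_
  · rintro _ ⟨s, rfl⟩
    exact ⟨⟨s, hl s.2⟩, rfl⟩
  · rw [w.pl.card_off, hn, ← pow_mul]
    exact Nat.le_of_dvd ((Set.ncard_pos (Set.toFinite _)).2 ⟨x, mem_orbit_self x⟩) this

theorem no_fix {p k : ℕ} (hp : p.Prime) (hn : n = p ^ k) {S : Subgroup G} (hS : IsSylowIn p S ⊤)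
    {A : P} {l : L} (hAl : I A l) (hA : S ≤ stabilizer G A) (hl : S ≤ stabilizer G l) {z : G}
    (hz : z ∈ S) (hc : ∀ s ∈ S, s * z = z * s) {B : P} (h1 : I B l) (h2 : B ≠ A) (e : z • B = B) :
    z ∈ Kc G (flip I) l := fun x hx => by
  have h := w.pl
  by_cases e' : x = A
  · exact e' ▸ hA hz
  obtain ⟨j, h3, h4, -⟩ := h.exists_ln B l l
  obtain ⟨i, h5, h6, -⟩ := h.exists_ln x l l
  obtain ⟨s, rfl⟩ := (w.dual.syl_trans hp hn hS hA (x := j)
    (fun e => h4 (h.ln_eq h2 h3 e h1 hAl))).ge (fun e => h6 (h.ln_eq e' h5 e hx hAl) : ¬ I A i)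
  rw [h.pt_eq h6 h5 hx (h.inv s _ _ h3) (h.inv_pt (hl s.2) h1), ← mul_smul, ← hc s s.2, mul_smul, e]

theorem final {p k : ℕ} (hp : p.Prime) (hn : n = p ^ k) {g : G} (g1 : g ≠ 1) {i : ℕ} (hi : g ^ p ^ i = 1)
    {A₀ R₀ : P} {l₀ : L} (a0 : I A₀ l₀) (r0 : ¬ I R₀ l₀) (g0 : g • (A₀, l₀, R₀) = (A₀, l₀, R₀))
    (ih : ∀ (U : Subgroup G) (m : ℕ), m < n → Pl (Gm P L U) (Ir I U) m →
      (∀ a b c d : fx P U, a ≠ b → c ≠ d → ∃ g : Gm P L U, g • a = c ∧ g • b = d) →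
      (∃ p k : ℕ, p.Prime ∧ m = p ^ k) ∧ ∃ c a, Fl (Gm P L U) (Ir I U) c a) : ∃ x, Kc G I x ≠ ⊥ := by
  have h := w.pl
  haveI := h.finP
  haveI := h.finL
  by_contra! H
  obtain ⟨S, A, l, z, hS, hAl, hA, hl, hz, z1, zp, hc⟩ := w.syl hp (hn ▸ dvd_pow_self p (by
    rintro rfl; have := h.two; rw [pow_zero] at hn; omega))
  have nc : ∀ c, z ∉ Kc G I c := fun c e => z1 (mem_bot.1 (H c ▸ e))
  have n1 : ∀ B, I B l → B ≠ A → z • B ≠ B := fun B h1 h2 e =>
    (h.exists_centre (w.no_fix hp hn hS hAl hA hl hz hc h1 h2 e)).elim nc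
  have n2 : ∀ j, I A j → j ≠ l → z • j ≠ j := fun j h1 h2 e =>
    nc A (w.dual.no_fix hp hn hS hAl hl hA hz hc h1 h2 e)
  obtain ⟨R, hR, -⟩ := h.exists_off l l
  have zA : z • A = A := hA hz
  have zl : z • l = l := hl hz
  have RA : R ≠ A := fun e => hR (e ▸ hAl)
  have hzR : ¬ I (z • R) l := fun e => hR ((h.inv_iff z _ _).1 (by rwa [zl]))
  have n3 : ∀ j, I R j → I (z • R) j → ¬ I A j := fun j h1 h2 h3 => n2 j h3 (fun e => hR (e ▸ h1))
    (h.ln_eq (fun e : z • R = A => hzR (e ▸ hAl)) (h.inv z _ _ h1) (h.inv_ln zA h3) h2 h3)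
  have zR : R ≠ z • R := fun e => by
    obtain ⟨j, h1, h2⟩ := h.join R A
    exact n3 j h1 (e ▸ h1) h2
  obtain ⟨j, j1, j2⟩ := h.join R (z • R)
  obtain ⟨B, b1, b2⟩ := h.meet j l
  have jl : j ≠ l := fun e => hR (e ▸ j1)
  have BA : B ≠ A := fun e => n3 j j1 j2 (e ▸ b1)
  set U := S ⊓ stabilizer G R with hUdef
  have zN : z ∈ normalizer (U : Set G) := cent_le_norm U fun u hu => hc u hu.1
  have fR : R ∈ fx P U := fun u hu => hu.2
  have fA : A ∈ fx P U := fun u hu => hA hu.1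
  have fl : l ∈ fx L U := fun u hu => hl hu.1
  have fB : B ∈ fx P U := fun u hu => h.fix_pt jl b1 b2
    (h.fix_ln zR j1 j2 (fR u hu) (smul_fx zN fR u hu)) (fl u hu)
  have zB : I (z • B) l := h.inv_pt zl b2
  have AzB : A ≠ z • B := ne_smul_of zA BA.symm
  have hC : Cfg I (fx P U) (fx L U) := h.cfg_of_quad
    (fun x hx y hy xy i a b u hu => h.fix_ln xy a b (hx u hu) (hy u hu)) fR (smul_fx zN fR) fA
    (smul_fx zN fB) n3
    (fun i a b c => n1 B b2 BA (h.pt_eq jl (h.ln_eq zR a b j1 j2 ▸ c) zB b1 b2))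
    (fun i a b c => hR (h.ln_eq AzB b c hAl zB ▸ a)) (fun i a b c => hzR (h.ln_eq AzB b c hAl zB ▸ a))
  have hU : IsSylowIn p U (stabilizer G (A, l, R)) := by
    have e : stabilizer G (A, l, R) = (stabilizer G A ⊓ stabilizer G l) ⊓ stabilizer G R := by
      ext x; simp [Prod.ext_iff, and_assoc]
    have hle : S ≤ stabilizer G A ⊓ stabilizer G l := le_inf hA hl
    have h1 := orbit_relIndex hle R
    have h2 : orbit ↥(stabilizer G A ⊓ stabilizer G l) R = orbit S R := by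
      refine subset_antisymm ?_ ?_
      · rw [w.syl_trans hp hn hS hl hR, ← w.orbit_off hR]
        rintro _ ⟨s, rfl⟩
        exact ⟨⟨s, s.2.2⟩, rfl⟩
      · rintro _ ⟨s, rfl⟩
        exact ⟨⟨s, hle s.2⟩, rfl⟩
    rw [h2, mul_comm, mul_left_inj' ((Set.ncard_pos (Set.toFinite _)).2 ⟨R, mem_orbit_self R⟩).ne'] at h1
    rw [e]
    exact isSylowIn_mk hp (inf_le_inf_right _ hle) (hS.pg hp).to_inf_left (h1 ▸ syl_relIndex hp hS hle)
  have tr : ∀ {A' l' R'}, I A' l' → ¬ I R' l' → ∃ s : G, s • (A, l, R) = (A', l', R') := by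
    intro A' l' R' h1 h2
    obtain ⟨s, rfl, rfl⟩ := h.flag w.two hAl h1
    obtain ⟨t, ht⟩ := (w.syl_trans hp hn hS hl hR).ge
      (show ¬ I (s⁻¹ • R') l from fun e => h2 (by simpa using h.inv s _ _ e))
    refine ⟨s * t, ?_⟩
    rw [mul_smul, show (t : G) • (A, l, R) = (A, l, s⁻¹ • R') from
      Prod.ext (hA t.2) (Prod.ext (hl t.2) ht)]
    simp
  have le : ∀ {A' l' R'}, A' ∈ fx P U → l' ∈ fx L U → R' ∈ fx P U → U ≤ stabilizer G (A', l', R') :=
    fun a b c u hu => Prod.ext (a u hu) (Prod.ext (b u hu) (c u hu))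
  have U1 : U ≠ ⊥ := fun e => by
    obtain ⟨s, hs⟩ := tr a0 r0
    have := syl_card hp hU s (pg_zpowers hi) (zpowers_le.2 (hs ▸ g0))
    rw [e, card_bot, card_le_one_iff_eq_bot, zpowers_eq_bot] at this
    exact g1 this
  obtain ⟨m, h1⟩ := h.sub hC
  have hm : m < n := by
    have : (fx P U : Set P).ncard < (Set.univ : Set P).ncard := Set.ncard_lt_ncard
      (Set.ssubset_univ_iff.2 fun e => U1 ((eq_bot_iff_forall _).2 fun u hu => h.faith u fun x =>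
        e.ge (Set.mem_univ x) u hu))
    rw [Set.ncard_univ, h.cardP, show (fx P U : Set P).ncard = _ from h1.cardP] at this
    nlinarith
  have wt : ∀ a b : fx P U, a ≠ b → ∃ s : normalizer (U : Set G), (s : G) • A = a ∧ (s : G) • R = b :=
    fun a b hab => by
      obtain ⟨i, h2, h3⟩ := h1.join a b
      obtain ⟨i', h4, h5, -⟩ := h1.exists_ln a i i
      obtain ⟨s, hs⟩ := tr (A' := a) (l' := i') (R' := b) h4 fun e => h5 (h1.ln_eq hab h4 e h2 h3)
      obtain ⟨t, ht, e⟩ := witt1 hp hU s (hs ▸ le a.2 i'.2 b.2)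
      rw [hs] at e
      exact ⟨⟨t, ht⟩, congrArg Prod.fst e, congrArg (·.2.2) e⟩
  obtain ⟨⟨q, k', hq, hm'⟩, c, a, F⟩ := ih U m hm h1 fun a b c d hab hcd => by
    obtain ⟨s, h2, h3⟩ := wt a b hab
    obtain ⟨t, h4, h5⟩ := wt c d hcd
    exact ⟨res P L U (t * s⁻¹), Subtype.ext (by rw [res_pt]; simp [mul_smul, ← h2, h4]),
      Subtype.ext (by rw [res_pt]; simp [mul_smul, ← h3, h5])⟩
  obtain rfl : p = q := by
    refine (Nat.prime_dvd_prime_iff_eq hp hq).1 (hp.dvd_of_dvd_pow (hm' ▸ ?_ : p ∣ q ^ k'))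
    have := dvd_of_nofix hp (pg_zpowers (a := 1) (by rwa [pow_one] : z ^ p ^ 1 = 1))
      ({x | x ∈ fx P U ∧ I x l} \ {A}) (fun u hu x hx => ⟨⟨smul_fx (zpowers_le.2 zN hu) hx.1.1,
        h.inv_pt ((zpowers_le (H := stabilizer G l)).2 zl hu) hx.1.2⟩,
        (ne_smul_of ((zpowers_le (H := stabilizer G A)).2 zA hu) (Ne.symm hx.2)).symm⟩)
      fun x hx => ⟨z, mem_zpowers z, n1 x hx.1.2 hx.2⟩
    rwa [Set.ncard_sdiff_singleton_of_mem (show A ∈ {x | x ∈ fx P U ∧ I x l} from ⟨fA, hAl⟩),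
      Pl.sub_pts h1 fl] at this
  obtain ⟨u, hu, h2, ⟨i, h3⟩, A', a1, l', a2, R', a3, h4, h5, h6⟩ := Pl.lift hp h1 hm' F
  obtain ⟨s, hs⟩ := tr h4 h5
  exact h2 (syl_mem hp hU s (hs ▸ le a1 a2 a3) hu h3 (hs ▸ h6))

end Tr

universe u v in
theorem ow (n : ℕ) : ∀ {G : Type (max u v)} {P : Type u} {L : Type v} [Group G] [MulAction G P]
    [MulAction G L] [Finite G] {I : P → L → Prop}, Tr G I n → ∃ x, Kc G I x ≠ ⊥ := by
  induction n using Nat.strong_induction_on with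
  | _ n ih =>
    intro G P L _ _ _ _ I w
    haveI := w.pl.finP
    haveI := w.pl.finL
    rcases Nat.even_or_odd n with hn | hn
    · exact w.even (even_iff_two_dvd.1 hn)
    · obtain ⟨p, k, hp, hk, g, g1, ⟨i, hi⟩, A, l, R, h1, h2, h3⟩ := w.odd hn
      exact w.final hp hk g1 hi h1 h2 h3 fun U m hm h two =>
        (ih m hm (h.tr two)).elim fun _ => (h.tr two).concl

/-- the full collineation group -/
def CG (I : P → L → Prop) : Subgroup (Equiv.Perm P × Equiv.Perm L) where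
  carrier := {g | ∀ x l, I (g.1 x) (g.2 l) ↔ I x l}
  one_mem' := fun _ _ => Iff.rfl
  mul_mem' := fun ha hb x l => (ha _ _).trans (hb x l)
  inv_mem' := fun {g} ha x l => by simpa using (ha (g.1⁻¹ x) (g.2⁻¹ l)).symm

universe u v in
/-- Ostrom-Wagner -/
theorem ostrom_wagner {P : Type u} {L : Type v} [Finite P] [Finite L] (I : P → L → Prop)
    (join : ∀ x y, x ≠ y → ∃ l, I x l ∧ I y l) (meet : ∀ l k, l ≠ k → ∃ x, I x l ∧ I x k)
    (uniq : ∀ {x y l k}, I x l → I y l → I x k → I y k → x = y ∨ l = k)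
    (cfg : Cfg I Set.univ Set.univ)
    (h2t : ∀ p₁ p₂ q₁ q₂ : P, p₁ ≠ p₂ → q₁ ≠ q₂ → ∃ (σ : Equiv.Perm P) (τ : Equiv.Perm L),
      (∀ (p : P) (l : L), I (σ p) (τ l) ↔ I p l) ∧ σ p₁ = q₁ ∧ σ p₂ = q₂) :
    ∃ (F : Type) (_ : Field F) (_ : Fintype F) (φ : P ≃ Projectivization F (Fin 3 → F)),
      (∀ l : L, ∃ W : Submodule F (Fin 3 → F), Module.finrank F W = 2 ∧
          ∀ p : P, I p l ↔ (φ p).submodule ≤ W) ∧
      (∀ W : Submodule F (Fin 3 → F), Module.finrank F W = 2 →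
          ∃ l : L, ∀ p : P, I p l ↔ (φ p).submodule ≤ W) := by
  obtain ⟨n, h1, h2, h3, h4, h5⟩ := exists_order I join meet uniq cfg
  letI : MulAction (CG I) P := MulAction.compHom _ ((MonoidHom.fst _ _).comp (Subgroup.subtype _))
  letI : MulAction (CG I) L := MulAction.compHom _ ((MonoidHom.snd _ _).comp (Subgroup.subtype _))
  have inv : ∀ (g : CG I) x l, I x l → I (g • x) (g • l) := fun g x l => (g.2 x l).2
  have h : Pl (CG I) I n := by
    refine ⟨join, meet, uniq, h1, h2, h3, h4, h5, inv,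
      fun g hg => Subtype.ext (Prod.ext (Equiv.ext hg) (Equiv.ext fun l => ?_)),
      fun g hg => Subtype.ext (Prod.ext (Equiv.ext fun x => ?_) (Equiv.ext hg))⟩
    · obtain ⟨x, hx, y, hy, hxy⟩ := (Set.one_lt_ncard (Set.toFinite _)).1
        (show 1 < {x | I x l}.ncard by rw [h2]; omega)
      exact (uniq (hg x ▸ inv g x l hx) (hg y ▸ inv g y l hy) hx hy).resolve_left hxy
    · obtain ⟨l, hl, k, hk, hlk⟩ := (Set.one_lt_ncard (Set.toFinite _)).1
        (show 1 < {l | I x l}.ncard by rw [h3]; omega)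
      exact (uniq (hg l ▸ inv g x l hl) hl (hg k ▸ inv g x k hk) hk).resolve_right hlk
  have w := h.tr fun a b c d hab hcd => by
    obtain ⟨σ, τ, e⟩ := h2t a b c d hab hcd
    exact ⟨⟨(σ, τ), e.1⟩, e.2⟩
  obtain ⟨x, hx⟩ := ow n w
  obtain ⟨p, N, hN, -, hcol⟩ := w.onan hx
  obtain ⟨l, -⟩ := h.join x x
  obtain ⟨y, -, hy, -⟩ := h.exists_pt l x x
  obtain ⟨F, _, _, d, pt, hd, hp⟩ := hN.coord hy
  have key : ∀ {a b : Fin d → F} {l}, LinearIndependent F ![a, b] → I (pt a) l → I (pt b) l →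
      ∀ v, v ≠ 0 → (I (pt v) l ↔ v ∈ Submodule.span F {a, b}) := by
    intro a b l hab h1 h2 v hv
    have ha : a ≠ 0 := hab.ne_zero 0
    have hb : b ≠ 0 := hab.ne_zero 1
    have hne : pt a ≠ pt b := fun e => by
      obtain ⟨c, hc⟩ := (hp.eq_iff a b ha hb).1 e
      exact (LinearIndependent.pair_iff' ha).1 hab c hc.symm
    rw [← hcol _ _ _ l hne h1 h2, hp.col a b v ha hb hv hne, Submodule.mem_span_pair]
    simp only [eq_comm]
  obtain rfl : d = 3 := by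
    by_contra e
    obtain ⟨d, rfl⟩ : ∃ d', d = d' + 4 := ⟨d - 4, by omega⟩
    have li : ∀ i j : Fin (d + 4), i ≠ j →
        LinearIndependent F ![(Pi.single i 1 : Fin (d + 4) → F), Pi.single j 1] := fun i j hij =>
      LinearIndependent.pair_iff.2 fun s t e =>
        ⟨by simpa [hij] using congrFun e i, by simpa [hij.symm] using congrFun e j⟩
    obtain ⟨l, a1, a2⟩ := h.join (pt (Pi.single 0 1)) (pt (Pi.single 1 1))
    obtain ⟨k, a3, a4⟩ := h.join (pt (Pi.single 2 1)) (pt (Pi.single 3 1))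
    obtain ⟨z, a5, a6⟩ := h.meet l k
    obtain ⟨v, hv, rfl⟩ := hp.surj z
    have n01 : (0 : Fin (d + 4)) ≠ 1 := by simp
    have n23 : (2 : Fin (d + 4)) ≠ 3 := by simp [Fin.ext_iff, Nat.mod_eq_of_lt]
    obtain ⟨r, s, e1⟩ := Submodule.mem_span_pair.1 ((key (li 0 1 n01) a1 a2 v hv).1 a5)
    obtain ⟨r', s', e2⟩ := Submodule.mem_span_pair.1 ((key (li 2 3 n23) a3 a4 v hv).1 a6)
    have e3 := e1.trans e2.symm
    have b0 := congrFun e3 0
    have b1 := congrFun e3 1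
    simp [Pi.single_apply, Fin.ext_iff, Nat.mod_eq_of_lt] at b0 b1
    exact hv (by rw [← e1, b0, b1]; simp)
  obtain ⟨φ, hφ⟩ := hp.exists_equiv
  have fin : ∀ {a b : Fin 3 → F} {l}, LinearIndependent F ![a, b] → I (pt a) l → I (pt b) l →
      ∀ x, I x l ↔ (φ.symm x).submodule ≤ Submodule.span F {a, b} := fun hab h1 h2 x => by
    obtain ⟨v, hv, rfl⟩ := hp.surj x
    rw [key hab h1 h2 v hv, ← hφ v hv, φ.symm_apply_apply, Projectivization.submodule_mk,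
      Submodule.span_singleton_le_iff_mem]
  refine ⟨F, inferInstance, inferInstance, φ.symm, fun l => ?_, fun W hW => ?_⟩
  · obtain ⟨x, h6, -⟩ := h.meet l l
    obtain ⟨y, h7, h8, -⟩ := h.exists_pt l x x
    obtain ⟨a, ha, rfl⟩ := hp.surj x
    obtain ⟨b, hb, rfl⟩ := hp.surj y
    have hab : LinearIndependent F ![a, b] := (LinearIndependent.pair_iff' ha).2 fun c e =>
      h8 ((hp.eq_iff a b ha hb).2 ⟨c, e.symm⟩).symm
    refine ⟨_, ?_, fin hab h6 h7⟩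
    have := finrank_span_eq_card hab
    rwa [show Set.range ![a, b] = {a, b} by ext; simp [or_comm], Fintype.card_fin] at this
  · let B := Module.finBasisOfFinrankEq F W hW
    have hab : LinearIndependent F ![(B 0 : Fin 3 → F), B 1] := by
      rw [show ![(B 0 : Fin 3 → F), B 1] = W.subtype ∘ B by ext i : 1; fin_cases i <;> rfl]
      exact B.linearIndependent.map' W.subtype W.ker_subtype
    obtain ⟨l, h6, h7⟩ := h.join (pt (B 0)) (pt (B 1))
    refine ⟨l, fun x => ?_⟩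
    rw [fin hab h6 h7, Submodule.eq_of_le_of_finrank_eq (S₂ := W) (Submodule.span_le.2 (by
      rintro _ (rfl | rfl) <;> exact Subtype.prop _)) ?_]
    have := finrank_span_eq_card hab
    rw [show Set.range ![(B 0 : Fin 3 → F), B 1] = {(B 0 : Fin 3 → F), (B 1 : Fin 3 → F)} by
      ext; simp [or_comm], Fintype.card_fin] at this
    exact this.trans hW.symm

end H05
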