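import Mathlib

/-!
The Tutte–Sims–Glauberman chain argument (helper5).  `Pz P g i = P^(g^i)`, `I P g m n = ⋂_{m ≤ j ≤ n} P^(g^j)`,
`exists_len` (the orders of the intersections), `Ch` (the generators `y i`), `Ch.bound`.
-/

open Subgroup
open scoped Pointwise commutatorElement

namespace H05.Sims

variable {G : Type*} [Group G] {p : ℕ}

theorem idx_normal [Finite G] (hp : p.Prime) {A B : Subgroup G} (hB : IsPGroup p B) (h : A ≤ B)
    (hc : Nat.card B = p * Nat.card A) : (A.subgroupOf B).Normal ∧ (A.subgroupOf B).index = p := by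
  have := Fact.mk hp
  have h1 : (A.subgroupOf B).index = p := by
    have := (A.subgroupOf B).card_mul_index
    rw [Nat.card_congr (subgroupOfEquivOfLe h).toEquiv, hc, mul_comm p] at this
    exact Nat.eq_of_mul_eq_mul_left Nat.card_pos this
  obtain ⟨n, hn⟩ := IsPGroup.iff_card.1 hB
  refine ⟨normal_of_index_eq_minFac_card ?_, h1⟩
  rw [h1, hn, hp.pow_minFac fun e => ?_]
  rw [e, pow_zero] at hn
  exact hp.one_lt.ne' (Nat.eq_one_of_mul_eq_one_right (hc.symm.trans hn))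

theorem idx_comm [Finite G] (hp : p.Prime) {A B : Subgroup G} (hB : IsPGroup p B) (h : A ≤ B)
    (hc : Nat.card B = p * Nat.card A) {x x' : G} (hx : x ∈ B) (hx' : x' ∈ B) : ⁅x, x'⁆ ∈ A := by
  have := Fact.mk hp
  obtain ⟨_, h1⟩ := idx_normal hp hB h hc
  have : IsCyclic (B ⧸ A.subgroupOf B) := isCyclic_of_prime_card h1
  have e : ⁅(⟨x, hx⟩ : B), ⟨x', hx'⟩⁆ ∈ A.subgroupOf B := by
    rw [← QuotientGroup.eq_one_iff, ← QuotientGroup.mk'_apply, map_commutatorElement, commutatorElement_eq_one_iff_mul_comm]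
    exact IsCyclic.isMulCommutative.1.1 _ _
  exact e

theorem idx_gen [Finite G] (hp : p.Prime) {A B : Subgroup G} (h : A ≤ B) (hc : Nat.card B = p * Nat.card A)
    {X : Subgroup G} (h1 : A ≤ X) {y : G} (hy : y ∈ B) (hy' : y ∉ A) (hX : y ∈ X) : B ≤ X := by
  have e1 := relIndex_mul_relIndex A (X ⊓ B) B (le_inf h1 h) inf_le_right
  have e2 : A.relIndex B = p := by
    have := (A.subgroupOf B).card_mul_index
    rw [Nat.card_congr (subgroupOfEquivOfLe h).toEquiv, hc, mul_comm p] at this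
    exact Nat.eq_of_mul_eq_mul_left Nat.card_pos this
  rw [e2] at e1
  rcases (Nat.dvd_prime hp).1 (Dvd.intro _ e1) with e | e
  · exact absurd (relIndex_eq_one.1 e ⟨hX, hy⟩) hy'
  · rw [e] at e1
    exact (relIndex_eq_one.1 (Nat.eq_of_mul_eq_mul_left hp.pos (e1.trans (mul_one p).symm))).trans inf_le_left

theorem idx_dec [Finite G] (hp : p.Prime) {A B : Subgroup G} (hB : IsPGroup p B) (h : A ≤ B)
    (hc : Nat.card B = p * Nat.card A) {y : G} (hy : y ∈ B) (hy' : y ∉ A) {x : G} (hx : x ∈ B) :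
    ∃ k : ℤ, ∃ w ∈ A, x = y ^ k * w := by
  have hn : zpowers y ≤ normalizer (A : Set G) := zpowers_le.2 (by
    have := (idx_normal hp hB h hc).1
    exact (normal_subgroupOf_iff_le_normalizer h).1 this hy)
  have := idx_gen hp h hc (X := zpowers y ⊔ A) le_sup_right hy hy' (mem_sup_left (mem_zpowers y)) hx
  rw [← SetLike.mem_coe, coe_mul_of_left_le_normalizer_right _ _ hn] at this
  obtain ⟨_, ⟨k, rfl⟩, w, hw, e⟩ := this
  exact ⟨k, w, hw, e.symm⟩

variable (P : Subgroup G) (g : G)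

/-- `P ^ (g ^ i)`. -/
def Pz (i : ℤ) : Subgroup G := MulAut.conj (g ^ i)⁻¹ • P

/-- The intersection of the `Pz j`, `m ≤ j ≤ n`. -/
def I (m n : ℤ) : Subgroup G := ⨅ j ∈ Set.Icc m n, Pz P g j

variable {P g}

theorem mem_Pz {i : ℤ} {x : G} : x ∈ Pz P g i ↔ g ^ i * x * (g ^ i)⁻¹ ∈ P := by
  rw [Pz, mem_pointwise_smul_iff_inv_smul_mem, ← map_inv, inv_inv]; rfl

theorem mem_I {m n : ℤ} {x : G} : x ∈ I P g m n ↔ ∀ j, m ≤ j → j ≤ n → x ∈ Pz P g j := by
  simp [I, mem_iInf]

theorem Pz_zero : Pz P g 0 = P := by ext; simp [mem_Pz]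

theorem Pz_one : Pz P g 1 = MulAut.conj g⁻¹ • P := by rw [Pz, zpow_one]

theorem I_self (m : ℤ) : I P g m m = Pz P g m :=
  Subgroup.ext fun _ => mem_I.trans ⟨fun h => h m le_rfl le_rfl, fun h _ h1 h2 => le_antisymm h1 h2 ▸ h⟩

theorem I_anti {m n m' n' : ℤ} (h1 : m' ≤ m) (h2 : n ≤ n') : I P g m' n' ≤ I P g m n :=
  fun _ hx => mem_I.2 fun j a b => mem_I.1 hx j (by omega) (by omega)

theorem mem_I_of {m n m' n' a b : ℤ} {x : G} (h : x ∈ I P g m n) (h' : x ∈ I P g m' n')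
    (hj : ∀ j, a ≤ j → j ≤ b → (m ≤ j ∧ j ≤ n) ∨ (m' ≤ j ∧ j ≤ n')) : x ∈ I P g a b :=
  mem_I.2 fun j h1 h2 => (hj j h1 h2).elim (fun e => mem_I.1 h j e.1 e.2) fun e => mem_I.1 h' j e.1 e.2

theorem Pz_shift (k : ℤ) {i : ℤ} {x : G} : (g ^ k)⁻¹ * x * g ^ k ∈ Pz P g (i + k) ↔ x ∈ Pz P g i := by
  rw [mem_Pz, mem_Pz, zpow_add]; congr! 1; group

theorem I_shift (k : ℤ) {m n : ℤ} {x : G} : (g ^ k)⁻¹ * x * g ^ k ∈ I P g (m + k) (n + k) ↔ x ∈ I P g m n := by
  rw [mem_I, mem_I]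
  exact ⟨fun h j a b => (Pz_shift k).1 (h _ (by omega) (by omega)), fun h j a b => by
    rw [show j = j - k + k by ring]; exact (Pz_shift k).2 (h _ (by omega) (by omega))⟩

theorem card_I (m k : ℤ) : Nat.card (I P g m (m + k)) = Nat.card (I P g 0 k) := by
  refine (Nat.card_congr ((MulAut.conj (g ^ m)⁻¹).toEquiv.subtypeEquiv fun x => ?_)).symm
  rw [← I_shift m, zero_add, add_comm]
  exact Iff.of_eq (congrArg (· ∈ I P g m (m + k)) (show _ = (g ^ m)⁻¹ * x * (g ^ m)⁻¹⁻¹ by rw [inv_inv]))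

theorem pg_of [Finite G] (hN : ((P ⊓ MulAut.conj g⁻¹ • P).subgroupOf (MulAut.conj g⁻¹ • P)).Normal)
    (hidx : (P ⊓ MulAut.conj g⁻¹ • P).relIndex (MulAut.conj g⁻¹ • P) = p) (hp : p.Prime)
    (h1 : ∀ Q : Subgroup G, Q ≤ P → (Q.subgroupOf P).Normal → MulAut.conj g • Q = Q → Q = ⊥) : IsPGroup p P := by
  have := Fact.mk hp
  let O : Subgroup G := closure {x | x ∈ P ∧ (orderOf x).Coprime p}
  have hO : O ≤ P := (closure_le _).2 fun _ h => h.1
  have h2 : ∀ a : G, (∀ x ∈ P, (orderOf x).Coprime p → a * x * a⁻¹ ∈ P) → MulAut.conj a • O = O := fun a ha => by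
    refine eq_of_le_of_card_ge ?_ (Nat.card_congr (equivSMul (MulAut.conj a) O).toEquiv).le
    refine (map_le_iff_le_comap (f := (MulAut.conj a).toMonoidHom)).2 ((closure_le _).2 fun x hx => subset_closure ?_)
    exact ⟨ha x hx.1 hx.2, (orderOf_injective (MulAut.conj a).toMonoidHom (MulAut.conj a).injective x).symm ▸ hx.2⟩
  have h3 : O = ⊥ := h1 O hO ((normal_subgroupOf_iff_le_normalizer hO).2 fun a ha => by
    rw [← conjAct_pointwise_smul_iff]
    exact h2 a fun x hx _ => P.mul_mem (P.mul_mem ha hx) (P.inv_mem ha)) (by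
    rw [eq_comm, ← inv_smul_eq_iff, ← map_inv]
    refine (h2 g⁻¹ fun x hx hc => ?_)
    have e1 : g⁻¹ * x * g⁻¹⁻¹ ∈ MulAut.conj g⁻¹ • P := smul_mem_pointwise_smul _ _ _ hx
    have e2 := pow_index_mem (H := (P ⊓ MulAut.conj g⁻¹ • P).subgroupOf (MulAut.conj g⁻¹ • P)) ⟨_, e1⟩
    rw [show Subgroup.index _ = p from hidx, mem_subgroupOf, SubgroupClass.coe_pow] at e2
    have e3 : (orderOf (g⁻¹ * x * g⁻¹⁻¹)).Coprime p :=
      (congrArg (Nat.Coprime · p) (orderOf_injective (MulAut.conj g⁻¹).toMonoidHom (MulAut.conj g⁻¹).injective x)).mpr hc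
    obtain ⟨k, hk⟩ := exists_pow_eq_self_of_coprime e3.symm
    exact hk ▸ P.pow_mem e2.1 k)
  refine IsPGroup.iff_card.2 ⟨_, Nat.eq_prime_pow_of_unique_prime_dvd Nat.card_pos.ne' fun {r} hr hd => by_contra fun e => ?_⟩
  have := Fact.mk hr
  obtain ⟨x, hx⟩ := exists_prime_orderOf_dvd_card' r hd
  have : (x : G) ∈ O := subset_closure ⟨x.2, by rw [orderOf_coe, hx]; exact (Nat.coprime_primes hr hp).2 e⟩
  rw [h3, mem_bot, OneMemClass.coe_eq_one] at this
  exact hr.one_lt.ne (by rw [← hx, this, orderOf_one])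

theorem pg_Pz (hP : IsPGroup p P) (i : ℤ) : IsPGroup p (Pz P g i) := hP.of_equiv (equivSMul _ P)

theorem pg_I (hP : IsPGroup p P) {m n : ℤ} (h : m ≤ n) : IsPGroup p (I P g m n) :=
  (pg_Pz hP m).to_le ((I_anti le_rfl h).trans (I_self m).le)

theorem exists_len [Finite G] (hp : p.Prime) (hP : IsPGroup p P)
    (hidx : (P ⊓ MulAut.conj g⁻¹ • P).relIndex (MulAut.conj g⁻¹ • P) = p)
    (h1 : ∀ Q : Subgroup G, Q ≤ P → (Q.subgroupOf P).Normal → MulAut.conj g • Q = Q → Q = ⊥) :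
    ∃ t : ℕ, 1 ≤ t ∧ ∀ k : ℕ, k ≤ t → Nat.card (I P g 0 k) = p ^ (t - k) := by
  classical
  have := Fact.mk hp
  have s0 : ∀ k : ℤ, 0 ≤ k → Nat.card (I P g k k) = p * Nat.card (I P g k (k + 1)) := fun k _ => by
    rw [card_I k 1, show Nat.card (I P g k k) = Nat.card (I P g 0 0) by simpa using card_I (P := P) (g := g) k 0]
    have e1 : I P g 0 1 = P ⊓ MulAut.conj g⁻¹ • P := Subgroup.ext fun x => mem_I.trans ⟨fun h =>
      ⟨Pz_zero (P := P) (g := g) ▸ h 0 le_rfl zero_le_one, Pz_one (P := P) (g := g) ▸ h 1 zero_le_one le_rfl⟩, fun h j a b => by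
        rcases (by omega : j = 0 ∨ j = 1) with rfl | rfl
        exacts [Pz_zero.ge h.1, Pz_one.ge h.2]⟩
    rw [I_self, Pz_zero, e1, Nat.card_congr (equivSMul (MulAut.conj g⁻¹) P).toEquiv, ← hidx, mul_comm,
      ← Nat.card_congr (subgroupOfEquivOfLe (inf_le_right (a := P))).toEquiv]
    exact (card_mul_index _).symm
  have step : ∀ k : ℤ, 0 ≤ k → ¬ I P g 0 k ≤ I P g 0 (k + 1) → Nat.card (I P g 0 k) = p * Nat.card (I P g 0 (k + 1)) :=
    fun k hk hn => by
      have e1 := (idx_normal hp (pg_I hP le_rfl) (I_anti le_rfl (by omega)) (s0 k hk)).2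
      have e2 : (I P g k (k + 1)).relIndex (I P g 0 k) ≤ p := e1 ▸ relIndex_le_of_le_right (I_anti hk le_rfl)
        (index_ne_zero_of_finite)
      have e3 : I P g 0 (k + 1) = I P g k (k + 1) ⊓ I P g 0 k := le_antisymm (le_inf (I_anti hk le_rfl)
        (I_anti le_rfl (by omega))) fun x hx => mem_I_of hx.1 hx.2 fun j a b => by omega
      rw [← inf_relIndex_right, ← e3] at e2
      obtain ⟨n, hn'⟩ := (pg_I (g := g) hP hk).index ((I P g 0 (k + 1)).subgroupOf (I P g 0 k))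
      have e4 : n = 1 := by
        have : n ≠ 0 := fun e => hn (relIndex_eq_one.1 (hn'.trans (by rw [e, pow_zero])))
        have : n ≤ 1 := (Nat.pow_le_pow_iff_right hp.one_lt).1 (hn'.symm.trans_le (e2.trans (pow_one p).ge))
        omega
      rw [← ((I P g 0 (k + 1)).subgroupOf (I P g 0 k)).card_mul_index, hn', e4, pow_one, mul_comm,
        Nat.card_congr (subgroupOfEquivOfLe (I_anti le_rfl (by omega))).toEquiv]
  have hex : ∃ k : ℕ, I P g 0 k ≤ I P g 0 (k + 1) := by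
    by_contra! h
    have : ∀ k : ℕ, k + Nat.card (I P g 0 k) ≤ Nat.card (I P g 0 0) := fun k => by
      induction k with
      | zero => simp
      | succ k ih =>
        rw [step k (by omega) (h k)] at ih
        have := Nat.mul_le_mul_right (Nat.card (I P g 0 (k + 1))) hp.two_le
        have := Nat.card_pos (α := I P g 0 (k + 1))
        push_cast; omega
    have h2 := this (Nat.card (I P g 0 0))
    have := Nat.card_pos (α := I P g 0 (Nat.card (I P g 0 0)))
    omega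
  set t := Nat.find hex
  have t1 : I P g 0 t ≤ I P g 0 (t + 1) := Nat.find_spec hex
  have t2 : ∀ k : ℕ, k < t → Nat.card (I P g 0 k) = p * Nat.card (I P g 0 (k + 1)) := fun k hk =>
    step k (by omega) (Nat.find_min hex hk)
  have t0 : 1 ≤ t := Nat.pos_of_ne_zero fun e => by
    rw [e] at t1
    have := card_le_of_le t1
    rw [Nat.cast_zero, s0 0 le_rfl] at this
    have := Nat.mul_le_mul_right (Nat.card (I P g 0 (0 + 1))) hp.two_le
    have := Nat.card_pos (α := I P g 0 (0 + 1))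
    omega
  have r1 : ∀ m : ℤ, I P g m (m + t) = I P g (m + 1) (m + 1 + t) := fun m => by
    refine eq_of_le_of_card_ge (fun x hx => ?_) (by rw [card_I, card_I])
    have e : (g ^ (-m))⁻¹ * x * g ^ (-m) ∈ I P g 0 t := by
      have := (I_shift (-m)).2 hx; rwa [add_neg_cancel, add_neg_cancel_comm] at this
    have := (I_shift m).2 (t1 e)
    rw [show (g ^ m)⁻¹ * ((g ^ (-m))⁻¹ * x * g ^ (-m)) * g ^ m = x by group] at this
    exact I_anti (by omega) (by omega) this
  have r2 : ∀ m : ℤ, I P g m (m + t) = I P g 0 t := fun m => by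
    induction m using Int.induction_on with
    | zero => rw [zero_add]
    | succ i ih => rw [← r1, ih]
    | pred i ih => rw [r1, sub_add_cancel, ih]
  have r3 : ∀ j : ℕ, j < t → ∀ m : ℤ, I P g m (m + (t - 1 - j : ℕ)) ≤ normalizer (I P g 0 t : Set G) := fun j => by
    induction j with
    | zero =>
      intro _ m
      have e := t2 (t - 1) (by omega)
      rw [show ((t - 1 : ℕ) : ℤ) + 1 = t by omega, ← card_I m, ← card_I m] at e
      have hle : I P g m (m + t) ≤ I P g m (m + (t - 1 : ℕ)) := I_anti le_rfl (by omega)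
      rw [← r2 m]
      exact (normal_subgroupOf_iff_le_normalizer hle).1 (idx_normal hp (pg_I hP (by omega)) hle e).1
    | succ j ih =>
      intro hj m
      obtain ⟨k, hk⟩ : ∃ k : ℕ, k = t - 1 - (j + 1) := ⟨_, rfl⟩
      have e := t2 k (by omega)
      rw [← card_I m, ← card_I m] at e
      obtain ⟨y, y1, y2⟩ : ∃ y ∈ I P g (m - 1) (m + k), y ∉ I P g m (m + (k + 1)) := by
        by_contra! hc
        refine Nat.find_min hex (show k + 1 < t by omega) fun x hx => ?_
        have e1 := (I_shift (m - 1)).2 hx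
        have e2 := hc _ (I_anti (by omega) (by push_cast; omega) e1)
        rw [← I_shift (m - 1)]
        exact mem_I_of e1 e2 fun j a b => by push_cast at *; omega
      rw [← hk]
      refine idx_gen hp (I_anti le_rfl (by omega)) e ?_ (I_anti (by omega) le_rfl y1) y2 ?_
      · exact (I_anti le_rfl (by omega)).trans (ih (by omega) m)
      · exact ih (by omega) (m - 1) (I_anti le_rfl (by omega) y1)
  have r4 : I P g 0 t ≤ P := (I_anti le_rfl (by omega)).trans ((I_self 0).trans Pz_zero).le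
  have r5 : I P g 0 t = ⊥ := h1 _ r4 ((normal_subgroupOf_iff_le_normalizer r4).2 (by
    have := r3 (t - 1) (by omega) 0
    rwa [Nat.sub_self, Nat.cast_zero, add_zero, I_self, Pz_zero] at this)) (Subgroup.ext fun x => by
    rw [mem_pointwise_smul_iff_inv_smul_mem, ← I_shift 1 (x := x), zero_add, add_comm, r2]; simp)
  refine ⟨t, t0, fun k hk => ?_⟩
  induction hk using Nat.decreasingInduction with
  | self => rw [r5, card_bot, Nat.sub_self, pow_zero]
  | of_succ k hk ih => rw [t2 k hk, show t - k = t - (k + 1) + 1 by omega, pow_succ', ← ih]; rfl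

end H05.Sims
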