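import Mathlib
import Cfsg.Agent.H05.Sims1

/-!
The Tutte–Sims–Glauberman chain argument, part 2 (helper5): `Ch`, `exists_ch`, `Ch.bound`, `Ch.len_le`.
-/

open Subgroup
open scoped Pointwise commutatorElement

namespace H05.Sims

variable {G : Type*} [Group G] {p : ℕ} {P : Subgroup G} {g : G} {t : ℕ} {y : ℤ → G}

/-- `W i j = ⟨y i, …, y j⟩`. -/
def W (P : Subgroup G) (g : G) (t : ℕ) (i j : ℤ) : Subgroup G := I P g (j - t + 1) i

/-- The chain of generators. -/
structure Ch (p : ℕ) (P : Subgroup G) (g : G) (t : ℕ) (y : ℤ → G) : Prop where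
  hp : p.Prime
  pg : IsPGroup p P
  one : 1 ≤ t
  card : ∀ k : ℕ, k ≤ t → Nat.card (I P g 0 k) = p ^ (t - k)
  sh : ∀ i k, y (i + k) = (g ^ k)⁻¹ * y i * g ^ k
  mem : ∀ i, y i ∈ W P g t i i
  ne : ∀ i, y i ≠ 1

theorem W_shift (k : ℤ) {i j : ℤ} {x : G} : (g ^ k)⁻¹ * x * g ^ k ∈ W P g t (i + k) (j + k) ↔ x ∈ W P g t i j := by
  rw [W, W, ← I_shift k (x := x), show j + k - t + 1 = j - t + 1 + k by ring]

theorem W_mono {i j i' j' : ℤ} (h1 : i' ≤ i) (h2 : j ≤ j') : W P g t i j ≤ W P g t i' j' := I_anti (by omega) h1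

theorem W_inf {i j i' j' a b : ℤ} {x : G} (h : x ∈ W P g t i j) (h' : x ∈ W P g t i' j')
    (hj : ∀ m, b - t + 1 ≤ m → m ≤ a → (j - t + 1 ≤ m ∧ m ≤ i) ∨ (j' - t + 1 ≤ m ∧ m ≤ i')) : x ∈ W P g t a b :=
  mem_I_of h h' hj

theorem W_eq_Pz (i : ℤ) : W P g t i (i + t - 1) = Pz P g i := by
  rw [W, show i + t - 1 - t + 1 = i by ring, I_self]

theorem exists_ch [Finite G] (hp : p.Prime) (hP : IsPGroup p P)
    (hidx : (P ⊓ MulAut.conj g⁻¹ • P).relIndex (MulAut.conj g⁻¹ • P) = p)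
    (h1 : ∀ Q : Subgroup G, Q ≤ P → (Q.subgroupOf P).Normal → MulAut.conj g • Q = Q → Q = ⊥) : ∃ t y, Ch p P g t y := by
  obtain ⟨t, t1, ht⟩ := exists_len hp hP hidx h1
  have e := ht (t - 1) (by omega)
  rw [← card_I (1 - t), show t - (t - 1) = 1 by omega, pow_one] at e
  have := Finite.one_lt_card_iff_nontrivial.1 (hp.one_lt.trans_eq e.symm)
  obtain ⟨⟨x, hx⟩, x1⟩ := exists_ne (1 : I P g (1 - t) (1 - t + (t - 1 : ℕ)))
  refine ⟨t, fun i => (g ^ i)⁻¹ * x * g ^ i, hp, hP, t1, ht, fun i k => by rw [zpow_add]; group, fun i => ?_,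
    fun i h => x1 (Subtype.ext (conj_eq_one_iff.1 (show (g ^ i)⁻¹ * x * (g ^ i)⁻¹⁻¹ = 1 by rwa [inv_inv])))⟩
  exact I_anti (by omega) (by omega) ((I_shift i).2 hx)

namespace Ch

variable [Finite G] (h : Ch p P g t y)
include h

omit [Finite G] in
theorem cardW {i j : ℤ} {k : ℕ} (hk : k ≤ t) (e : j = i + k - 1) : Nat.card (W P g t i j) = p ^ k := by
  rw [W, show i = j - t + 1 + (t - k : ℕ) by omega, card_I, h.card _ (by omega), show t - (t - k) = k by omega]

omit [Finite G] in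
theorem cardP : Nat.card P = p ^ t := by
  rw [← h.cardW le_rfl (i := 0) rfl, W_eq_Pz, Pz_zero]

omit [Finite G] in
theorem memW {i j m : ℤ} (h1 : i ≤ m) (h2 : m ≤ j) : y m ∈ W P g t i j := W_mono h1 h2 (h.mem m)

theorem eq_one {i j : ℤ} (e : j < i) {x : G} (hx : x ∈ W P g t i j) : x = 1 :=
  mem_bot.1 (card_eq_one.1 (h.cardW (k := 0) (i := i) (j := i - 1) (by omega) (by simp)) ▸ W_mono le_rfl (by omega) hx)

theorem notL {i j : ℤ} (e : j ≤ i + t) : y i ∉ W P g t (i + 1) j := fun hx =>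
  h.ne i (h.eq_one (i := i + 1) (j := i) (by omega) (W_inf hx (h.mem i) fun m a b => by omega))

theorem notR {i j : ℤ} (e : j ≤ i + t) : y j ∉ W P g t i (j - 1) := fun hx =>
  h.ne j (h.eq_one (i := j) (j := j - 1) (by omega) (W_inf hx (h.mem j) fun m a b => by omega))

omit [Finite G] in
theorem pgW {i j : ℤ} (e : j < i + t) : IsPGroup p (W P g t i j) := pg_I h.pg (by omega)

omit [Finite G] in
theorem cardL {i j : ℤ} (e : i ≤ j) (e' : j < i + t) : Nat.card (W P g t i j) = p * Nat.card (W P g t (i + 1) j) := by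
  rw [h.cardW (k := (j - i).toNat + 1) (by omega) (by omega), h.cardW (k := (j - i).toNat) (by omega) (by omega), pow_succ']

omit [Finite G] in
theorem cardR {i j : ℤ} (e : i ≤ j) (e' : j < i + t) : Nat.card (W P g t i j) = p * Nat.card (W P g t i (j - 1)) := by
  rw [h.cardW (k := (j - i).toNat + 1) (by omega) (by omega), h.cardW (k := (j - i).toNat) (by omega) (by omega), pow_succ']

theorem W_le {i j : ℤ} (e : j < i + t) {X : Subgroup G} (hX : ∀ m, i ≤ m → m ≤ j → y m ∈ X) : W P g t i j ≤ X := by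
  obtain ⟨k, hk⟩ : ∃ k : ℕ, j < i + k := ⟨t, e⟩
  induction k generalizing j with
  | zero => exact fun x hx => h.eq_one (by omega) hx ▸ X.one_mem
  | succ k ih =>
    rcases lt_or_ge j i with e' | e'
    · exact fun x hx => h.eq_one e' hx ▸ X.one_mem
    exact idx_gen h.hp (W_mono le_rfl (by omega)) (h.cardR e' e) (ih (by omega) (fun m a b => hX m a (by omega)) (by omega))
      (h.memW e' le_rfl) (h.notR e.le) (hX j e' le_rfl)

theorem comm_of {i j : ℤ} (e : j < i + t) {c : G} (hc : ∀ m, i ≤ m → m ≤ j → Commute c (y m)) {x : G}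
    (hx : x ∈ W P g t i j) : Commute c x :=
  (mem_centralizer_singleton_iff.1 (h.W_le e (X := centralizer {c})
    (fun m a b => mem_centralizer_singleton_iff.2 (hc m a b).symm) hx)).symm

theorem comm_mem {i j : ℤ} (e : i < j) (e' : j < i + t) {x x' : G} (hx : x ∈ W P g t i j) (hx' : x' ∈ W P g t i j) :
    ⁅x, x'⁆ ∈ W P g t (i + 1) (j - 1) :=
  W_inf (idx_comm h.hp (h.pgW e') (W_mono (by omega) le_rfl) (h.cardL e.le e') hx hx')
    (idx_comm h.hp (h.pgW e') (W_mono le_rfl (by omega)) (h.cardR e.le e') hx hx') fun m a b => by omega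

theorem decL {i j : ℤ} (e : i ≤ j) (e' : j < i + t) {x : G} (hx : x ∈ W P g t i j) :
    ∃ k : ℤ, ∃ w ∈ W P g t (i + 1) j, x = y i ^ k * w :=
  idx_dec h.hp (h.pgW e') (W_mono (by omega) le_rfl) (h.cardL e e') (h.memW le_rfl e) (h.notL e'.le) hx

theorem decR {i j : ℤ} (e : i ≤ j) (e' : j < i + t) {x : G} (hx : x ∈ W P g t i j) :
    ∃ k : ℤ, ∃ w ∈ W P g t i (j - 1), x = y j ^ k * w :=
  idx_dec h.hp (h.pgW e') (W_mono le_rfl (by omega)) (h.cardR e e') (h.memW e le_rfl) (h.notR e'.le) hx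

theorem ord (i : ℤ) : orderOf (y i) = p := by
  have := Fact.mk h.hp
  refine orderOf_eq_prime ?_ (h.ne i)
  have e := pow_card_eq_one' (x := (⟨y i, h.mem i⟩ : W P g t i i))
  rw [h.cardW (k := 1) h.one (by simp), pow_one] at e
  exact congrArg Subtype.val e

theorem zpow_eq_one {i : ℤ} {u : G} (hu : ¬ Commute u (y i)) {k : ℤ} (e : Commute u (y i ^ k)) : y i ^ k = 1 := by
  have := Fact.mk h.hp
  by_contra hk
  have h1 : zpowers (y i ^ k) = zpowers (y i) := by
    have e1 : zpowers (y i ^ k) ≤ zpowers (y i) := zpowers_le.2 (zpow_mem_zpowers _ _)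
    refine eq_of_le_of_card_ge e1 ?_
    rcases (Nat.dvd_prime h.hp).1 (h.ord i ▸ Nat.card_zpowers (y i) ▸ card_dvd_of_le e1) with e2 | e2
    · exact absurd (zpowers_eq_bot.1 (card_eq_one.1 e2)) hk
    · rw [e2, Nat.card_zpowers, h.ord]
  obtain ⟨m, hm⟩ := h1.ge (mem_zpowers _)
  exact hu (hm ▸ e.zpow_right m)

omit [Finite G] in
theorem comm_shift {i j : ℤ} (k : ℤ) (e : Commute (y i) (y j)) : Commute (y (i + k)) (y (j + k)) := by
  rw [h.sh, h.sh]
  simpa only [inv_inv] using e.conj (g ^ k)⁻¹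

theorem window {s : ℕ} (s1 : 1 ≤ s) (s2 : s < t) (hc : ∀ i j : ℤ, i - j < s → j - i < s → Commute (y i) (y j))
    (hn : ∀ i : ℤ, ¬ Commute (y i) (y (i + s))) : ⁅y 0, y s⁆ ∈ W P g t (t - s) (2 * s - t) := by
  have h0 : ⁅y 0, y s⁆ ∈ W P g t (0 + 1) (s - 1) :=
    h.comm_mem (by omega) (by omega) (h.memW le_rfl (by omega)) (h.memW (by omega) le_rfl)
  have hL : ∀ a : ℕ, 1 + a + s ≤ t → ⁅y 0, y s⁆ ∈ W P g t (1 + a) (s - 1) := fun a => by
    induction a with
    | zero => exact fun _ => by simpa using h0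
    | succ a ih =>
      intro ha
      rcases lt_or_ge (s - 1 : ℤ) (1 + a) with e | e
      · exact h.eq_one e (ih (by omega)) ▸ one_mem _
      obtain ⟨k, w, hw, e1⟩ := h.decL e (by omega) (ih (by omega))
      set u := y (1 + a + s)
      have c1 : Commute (y s) ⁅(y 0)⁻¹, u⁆ := h.comm_of (by omega) (fun m a b => hc _ _ (by omega) (by omega))
        (h.comm_mem (i := 0) (j := 1 + a + s) (by omega) (by omega) (inv_mem (h.memW le_rfl (by omega)))
          (h.memW (by omega) le_rfl))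
      have c2 : Commute u (y s) := hc _ _ (by omega) (by omega)
      have c3 : Commute u ⁅y 0, y s⁆ := by
        rw [Commute, SemiconjBy, ← mul_inv_eq_iff_eq_mul, conjugate_commutatorElement, c2.mul_inv_cancel,
          show u * y 0 * u⁻¹ = y 0 * ⁅(y 0)⁻¹, u⁆ by group, commutatorElement_def, commutatorElement_def (y 0),
          mul_assoc (y 0), ← c1.eq]
        group
      have c4 : Commute u w := h.comm_of (by omega) (fun m a b => hc _ _ (by omega) (by omega)) hw
      rw [e1] at c3 ⊢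
      rw [h.zpow_eq_one (fun e => hn _ e.symm) (by simpa using c3.mul_right c4.inv_right), one_mul]
      exact W_mono (by omega) le_rfl hw
  have hR : ∀ a : ℕ, 1 + a + s ≤ t → ⁅y 0, y s⁆ ∈ W P g t 1 (s - 1 - a) := fun a => by
    induction a with
    | zero => exact fun _ => by simpa using h0
    | succ a ih =>
      intro ha
      rcases lt_or_ge (s - 1 - a : ℤ) 1 with e | e
      · exact h.eq_one e (ih (by omega)) ▸ one_mem _
      obtain ⟨k, w, hw, e1⟩ := h.decR e (by omega) (ih (by omega))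
      set u := y (-1 - a)
      have c1 : Commute (y 0) ⁅(y s)⁻¹, u⁆ := h.comm_of (by omega) (fun m a b => hc _ _ (by omega) (by omega))
        (h.comm_mem (i := -1 - a) (j := s) (by omega) (by omega) (inv_mem (h.memW (by omega) le_rfl))
          (h.memW le_rfl (by omega)))
      have c2 : Commute u (y 0) := hc _ _ (by omega) (by omega)
      have c3 : Commute u ⁅y 0, y s⁆ := by
        rw [Commute, SemiconjBy, ← mul_inv_eq_iff_eq_mul, conjugate_commutatorElement, c2.mul_inv_cancel,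
          show u * y s * u⁻¹ = y s * ⁅(y s)⁻¹, u⁆ by group, commutatorElement_def, commutatorElement_def (y 0),
          mul_assoc (y 0), mul_assoc (y s), ← c1.inv_left.eq]
        group
      have c4 : Commute u w := h.comm_of (by omega) (fun m a b => hc _ _ (by omega) (by omega)) hw
      rw [e1] at c3 ⊢
      rw [h.zpow_eq_one (fun e => hn (-1 - a) (by rwa [show -1 - a + s = s - 1 - (a : ℤ) by ring]))
        (by simpa using c3.mul_right c4.inv_right), one_mul]
      exact W_mono le_rfl (by omega) hw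
  exact W_inf (hL (t - s - 1) (by omega)) (hR (t - s - 1) (by omega)) fun m a b => by omega

theorem bound {n : ℕ} (hz : ∀ x ∈ P, (∀ m : ℤ, 0 ≤ m → m < t + n → Commute x (y m)) → x = 1) :
    (t ≤ n ∧ ∀ i j : ℤ, i - j < t → j - i < t → Commute (y i) (y j)) ∨
    ∃ s : ℕ, 1 ≤ s ∧ s < t ∧ 2 * s ≤ t + n ∧ 2 * t ≤ 3 * s ∧ (∀ i j : ℤ, i - j < s → j - i < s → Commute (y i) (y j)) ∧
      (∀ i : ℤ, ¬ Commute (y i) (y (i + s))) ∧ ⁅y 0, y s⁆ ∈ W P g t (t - s) (2 * s - t) := by
  classical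
  have k1 : ∀ s : ℕ, (∀ k : ℕ, k < s → Commute (y 0) (y k)) → ∀ i j : ℤ, i - j < s → j - i < s → Commute (y i) (y j) :=
    fun s hs i j a b => by
      wlog e : i ≤ j generalizing i j
      · exact (this j i b a (by omega)).symm
      have := h.comm_shift i (hs (j - i).toNat (by omega))
      rwa [zero_add, show ((j - i).toNat : ℤ) + i = j by omega] at this
  have k2 : ∀ s : ℕ, 1 ≤ s → s ≤ t → (∀ i j : ℤ, i - j < s → j - i < s → Commute (y i) (y j)) → 2 * s ≤ t + n :=
    fun s s1 s2 hc => by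
      by_contra e
      refine h.ne (s - 1) (hz _ ?_ fun m a b => hc _ _ (by omega) (by omega))
      rw [← Pz_zero (P := P) (g := g), ← W_eq_Pz (t := t)]
      exact h.memW (by omega) (by omega)
  by_cases hex : ∃ s : ℕ, s < t ∧ ¬ Commute (y 0) (y s)
  · obtain ⟨s1, s2⟩ := Nat.find_spec hex
    set s := Nat.find hex
    have c1 := k1 s fun k hk => by_contra fun e => Nat.find_min hex hk ⟨by omega, e⟩
    have s0 : 1 ≤ s := Nat.pos_of_ne_zero fun e => s2 (by rw [e]; rfl)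
    have c2 : ∀ i : ℤ, ¬ Commute (y i) (y (i + s)) := fun i e => s2 (by simpa using h.comm_shift (-i) e)
    have c3 := h.window s0 s1 c1 c2
    refine Or.inr ⟨s, s0, s1, k2 s s0 s1.le c1, by_contra fun e => s2 ?_, c1, c2, c3⟩
    exact commutatorElement_eq_one_iff_commute.1 (h.eq_one (by omega) c3)
  · push Not at hex
    have := k2 t h.one le_rfl (k1 t hex)
    exact Or.inl ⟨by omega, k1 t hex⟩

theorem len_le {n : ℕ} (hn : 1 ≤ n) (hz : ∀ x ∈ P, (∀ m : ℤ, 0 ≤ m → m < t + n → Commute x (y m)) → x = 1) :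
    t ≤ 3 * n ∧ t ≠ 3 * n - 1 := by
  rcases h.bound hz with ⟨e, -⟩ | ⟨s, -, -, e1, e2, -⟩ <;> omega

theorem comm_Pz {n : ℕ} {x : G} (hx : ∀ m : ℤ, 0 ≤ m → m < t + n → Commute x (y m)) {i : ℤ} (h0 : 0 ≤ i) (h1 : i ≤ n)
    {z : G} (hz : z ∈ Pz P g i) : Commute x z :=
  h.comm_of (i := i) (j := i + t - 1) (by omega) (fun m a b => hx m (by omega) (by omega)) ((W_eq_Pz i).ge hz)

end Ch

end H05.Sims
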