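import Mathlib
import Cfsg.Prelude.Def_CaseTheorems
import Cfsg.Agent.H05.Sims2
import Cfsg.Agent.H08.Klein
import Cfsg.Agent.H09.AutOut
import Cfsg.Agent.H02.PPrimeCore

/-!
The Tutte–Sims–Glauberman chain argument for `p = 2` (helper5): `odd_mul`, `s4quot`, `v4quot`, `Ch.six`, `Ch.three`, `Ch.four`.
-/

open Subgroup Cfsg H08
open scoped Pointwise commutatorElement

namespace H05.Sims

variable {G : Type*} [Group G] [Finite G]

theorem odd_mul (h4 : ¬ 4 ∣ Nat.card G) {a b : G} (ha : orderOf a = 2) (hb : orderOf b = 2) : Odd (orderOf (a * b)) := by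
  rw [← Nat.not_even_iff_odd]
  rintro ⟨m, hm⟩
  have m0 : m ≠ 0 := fun e => (orderOf_pos (a * b)).ne' (by rw [hm, e])
  have hz : orderOf ((a * b) ^ m) = 2 := by
    rw [orderOf_pow' _ m0, hm, ← two_mul, Nat.gcd_mul_left_left, Nat.mul_div_cancel _ (Nat.pos_of_ne_zero m0)]
  have hi := conj_mul_left (mul_self_of_orderOf ha) (mul_self_of_orderOf hb)
  have hc : Commute a ((a * b) ^ m) := by
    rw [Commute, SemiconjBy, ← mul_inv_eq_iff_eq_mul, ← conj_pow, hi, inv_pow, inv_eq_of_orderOf hz]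
  refine h4 ((isKleinFour_iff.1 (isKleinFour_closure ha hz (fun e => ?_) hc)).1 ▸ card_subgroup_dvd_card _)
  have h1 : Commute a (a * b) := by nth_rw 1 [e]; exact (Commute.refl _).pow_left m
  have h2 : (a * b) ^ 2 = 1 := by rw [sq]; nth_rw 2 [← h1.mul_inv_cancel]; rw [hi, mul_inv_cancel]
  have := Nat.le_of_dvd two_pos (orderOf_dvd_of_pow_eq_one h2)
  rw [show m = 1 by omega, pow_one] at e
  exact ne_one_of_orderOf hb (by simpa using e)

theorem inv_mem_odd {r : G} (ho : Odd (orderOf r)) (h : ∀ g : G, g * r * g⁻¹ ∈ zpowers r) : r ∈ oddCore G := by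
  have : (zpowers r).Normal := ⟨by rintro _ ⟨k, rfl⟩ g; simpa only [conj_zpow] using zpow_mem (h g) k⟩
  exact H02.le_pPrimeCore (by rw [Nat.card_zpowers]; exact Nat.coprime_two_right.2 ho) (mem_zpowers r)

theorem conj_mem_zpowers {r : G} (h : normalizer (zpowers r : Set G) = ⊤) (g : G) : g * r * g⁻¹ ∈ zpowers r :=
  (mem_normalizer_iff.1 (h ▸ mem_top g) r).1 (mem_zpowers r)

theorem mem_norm_zpowers {r g : G} (h : g * r * g⁻¹ ∈ zpowers r) : g ∈ normalizer (zpowers r : Set G) :=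
  mem_normalizer_fintype (by
    rintro _ ⟨k, rfl⟩; show g * r ^ k * g⁻¹ ∈ zpowers r; rw [← conj_zpow]; exact zpow_mem h k)

theorem equiv_of_dvd {X A : Type*} [Group X] [Group A] [Finite A] {f : ℕ} (hf : f ≠ 0) (ψ : A →* X) {x : X}
    (hx : x ^ f = 1) (hc : ∀ a, Commute (ψ a) x) (hgen : ∀ S : Subgroup X, ψ.range ≤ S → x ∈ S → S = ⊤)
    (hcard : Nat.card A * f ∣ Nat.card X) : Nonempty (X ≃* A × Multiplicative (ZMod f)) := by
  have : NeZero f := ⟨hf⟩
  have h1 : ∀ a k, Commute (ψ a) (H09.cycHom x hx k) := fun a k => by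
    obtain ⟨k, hk⟩ : H09.cycHom x hx k ∈ zpowers x := H09.range_cycHom x hx ▸ ⟨k, rfl⟩
    rw [← hk]; exact (hc a).zpow_right k
  have h2 : Function.Surjective (ψ.noncommCoprod (H09.cycHom x hx) h1) := by
    rw [← MonoidHom.range_eq_top, MonoidHom.noncommCoprod_range, H09.range_cycHom]
    exact hgen _ le_sup_left (mem_sup_right (mem_zpowers x))
  exact H09.nonempty_equiv_of_surjective _ h2 (Nat.dvd_antisymm (card_dvd_of_surjective _ h2) (by simpa))

theorem dvd_quot {k : ℕ} (h : 2 ^ k ∣ Nat.card G) : 2 ^ k ∣ Nat.card (G ⧸ oddCore G) :=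
  (Nat.Coprime.pow_left k (H02.pPrimeCore_coprime 2 G).symm).dvd_of_dvd_mul_right
    (by rwa [← card_eq_card_quotient_mul_card_subgroup])

theorem s4quot {a b z x : G} {e : ℕ} (ha : a * a = 1) (hb : b * b = 1) (hz : orderOf z = 2) (haz : Commute a z)
    (hr : a * (b * z * b) * a = z * (b * z * b)) (hzz : Commute z (b * z * b)) (hx : x ^ 2 ^ e = 1) (c1 : Commute a x)
    (c2 : Commute b x) (c3 : Commute z x) (ho : Odd (orderOf (a * b)))
    (hgen : ∀ S : Subgroup G, a ∈ S → b ∈ S → z ∈ S → x ∈ S → S = ⊤) (h8 : 2 ^ (3 + e) ∣ Nat.card G) :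
    Nonempty (G ⧸ oddCore G ≃* Equiv.Perm (Fin 4) × Multiplicative (ZMod (2 ^ e))) := by
  have ia := inv_eq_of_mul_eq_one_left ha
  have ib := inv_eq_of_mul_eq_one_left hb
  have z2 := mul_self_of_orderOf hz
  have r1 : a * b * z * (a * b)⁻¹ = z * (b * z * b) := by rw [← hr, mul_inv_rev, ia, ib]; group
  have r2 : (a * b)⁻¹ * z * (a * b) = b * z * b := by
    rw [mul_inv_rev, ia, ib, show b * a * z * (a * b) = b * (a * z * a) * b by group, haz.eq, mul_assoc z, ha, mul_one]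
  have r3 : a * b * (b * z * b) * (a * b)⁻¹ = z := by rw [← r2]; group
  have r4 : Commute ((a * b) ^ 3) z := by
    rw [Commute, SemiconjBy, ← mul_inv_eq_iff_eq_mul, show (a * b) ^ 3 * z * ((a * b) ^ 3)⁻¹ =
      a * b * (a * b * (a * b * z * (a * b)⁻¹) * (a * b)⁻¹) * (a * b)⁻¹ by rw [pow_three]; group, r1,
      show a * b * (z * (b * z * b)) * (a * b)⁻¹ = a * b * z * (a * b)⁻¹ * (a * b * (b * z * b) * (a * b)⁻¹) by group,
      r1, r3, mul_assoc z, ← hzz.eq, ← mul_assoc z, z2, one_mul, r3]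
  have i1 := conj_mul_left ha hb
  have i2 : b * (a * b) * b⁻¹ = (a * b)⁻¹ := by
    rw [mul_inv_rev, ia, show b * (a * b) * b⁻¹ = b * a by group, ib]
  have h3 : (a * b) ^ 3 ∈ oddCore G := inv_mem_odd (ho.of_dvd_nat (orderOf_pow_dvd 3)) (conj_mem_zpowers (hgen _
    (mem_norm_zpowers (by rw [← conj_pow, i1, inv_pow]; exact inv_mem (mem_zpowers _)))
    (mem_norm_zpowers (by rw [← conj_pow, i2, inv_pow]; exact inv_mem (mem_zpowers _)))
    (mem_norm_zpowers (by rw [r4.symm.mul_inv_cancel]; exact mem_zpowers _))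
    (mem_norm_zpowers (by rw [((c1.mul_left c2).pow_left 3).symm.mul_inv_cancel]; exact mem_zpowers _))))
  let π := QuotientGroup.mk' (oddCore G)
  have p3 : π (a * b) ^ 3 = 1 := by rw [← map_pow]; exact (QuotientGroup.eq_one_iff _).2 h3
  have p1 : π (a * b) ≠ 1 := fun e => by
    have e1 : a * b ∈ oddCore G := (QuotientGroup.eq_one_iff _).1 e
    have e2 : b * z * b ∈ oddCore G := by
      have := mul_mem ((inferInstance : (oddCore G).Normal).conj_mem _ e1 z⁻¹) (inv_mem e1)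
      rwa [show z⁻¹ * (a * b) * z⁻¹⁻¹ * (a * b)⁻¹ = z⁻¹ * (a * b * z * (a * b)⁻¹) by group, r1, inv_mul_cancel_left] at this
    have := H02.orderOf_coprime_of_mem_pPrimeCore e2
    nth_rw 2 [← ib] at this
    rw [orderOf_conj', hz] at this
    simp at this
  obtain ⟨χ, hχ⟩ := H09.exists_s4Hom p3 (a := π a) (z := π z) (by rw [← map_mul, ha, map_one])
    (by simp only [← map_inv, ← map_mul, i1]) (by rw [← map_mul, z2, map_one]) (haz.map π)
    (by simp only [← map_inv, ← map_mul, r1, r2]; rw [← mul_assoc, z2, one_mul])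
  refine equiv_of_dvd (by positivity) χ (x := π x) (by rw [← map_pow, hx, map_one]) (fun g => ?_) (fun S h1 h2 => ?_) ?_
  · refine H09.commute_of_mem_closure (s := {π (a * b), π a, π z}) ?_ (hχ ▸ ⟨g, rfl⟩)
    rintro _ (rfl | rfl | rfl)
    exacts [(c1.mul_left c2).map π, c1.map π, c3.map π]
  · rw [hχ, closure_le] at h1
    have e1 : a ∈ S.comap π := show π a ∈ S from h1 (by simp)
    have e2 : a * b ∈ S.comap π := show π (a * b) ∈ S from h1 (by simp)
    rw [← comap_injective (QuotientGroup.mk'_surjective _) |>.eq_iff, comap_top]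
    exact hgen _ e1 ((mul_mem_cancel_left e1).1 e2) (show π z ∈ S from h1 (by simp)) h2
  · have := Fact.mk Nat.prime_three
    rw [Nat.card_perm, Nat.card_fin, show Nat.factorial 4 * 2 ^ e = 3 * 2 ^ (3 + e) by rw [pow_add, ← mul_assoc]; rfl]
    exact Nat.Coprime.mul_dvd_of_dvd_of_dvd (Nat.Coprime.pow_right _ (by norm_num))
      (orderOf_eq_prime p3 p1 ▸ orderOf_dvd_natCard _) (dvd_quot h8)

theorem v4quot {a b x : G} (ha : a * a = 1) (hb : b * b = 1) (hx : x ^ 2 = 1) (c1 : Commute a x) (c2 : Commute b x)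
    (ho : Odd (orderOf (a * b))) (hgen : ∀ S : Subgroup G, a ∈ S → b ∈ S → x ∈ S → S = ⊤) (h4 : 2 ^ 2 ∣ Nat.card G) :
    Nonempty (G ⧸ oddCore G ≃* Multiplicative (ZMod 2) × Multiplicative (ZMod 2)) := by
  have ia := inv_eq_of_mul_eq_one_left ha
  have ib := inv_eq_of_mul_eq_one_left hb
  have i2 : b * (a * b) * b⁻¹ = (a * b)⁻¹ := by
    rw [mul_inv_rev, ia, show b * (a * b) * b⁻¹ = b * a by group, ib]
  have h3 : a * b ∈ oddCore G := inv_mem_odd ho (conj_mem_zpowers (hgen _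
    (mem_norm_zpowers (by rw [conj_mul_left ha hb]; exact inv_mem (mem_zpowers _)))
    (mem_norm_zpowers (by rw [i2]; exact inv_mem (mem_zpowers _)))
    (mem_norm_zpowers (by rw [(c1.mul_left c2).symm.mul_inv_cancel]; exact mem_zpowers _))))
  let π := QuotientGroup.mk' (oddCore G)
  have p2 : π a ^ 2 = 1 := by rw [sq, ← map_mul, ha, map_one]
  refine equiv_of_dvd two_ne_zero (H09.cycHom _ p2) (x := π x) (by rw [← map_pow, hx, map_one]) (fun k => ?_)
    (fun S h1 h2 => ?_) (by simpa using dvd_quot h4)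
  · obtain ⟨k, hk⟩ : H09.cycHom _ p2 k ∈ zpowers (π a) := H09.range_cycHom _ p2 ▸ ⟨k, rfl⟩
    rw [← hk]; exact (c1.map π).zpow_left k
  · rw [H09.range_cycHom, zpowers_le] at h1
    have e2 : a * b ∈ S.comap π := by
      rw [mem_comap, show π (a * b) = 1 from (QuotientGroup.eq_one_iff _).2 h3]; exact one_mem _
    rw [← comap_injective (QuotientGroup.mk'_surjective _) |>.eq_iff, comap_top]
    exact hgen _ h1 ((mul_mem_cancel_left (show a ∈ S.comap π from h1)).1 e2) h2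

end H05.Sims
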