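import Mathlib
import Cfsg.Agent.H05.Sims3

/-!
The Tutte–Sims–Glauberman chain argument for `p = 2`, part 4 (helper5): `Gen`, `Ch.exists_b`, `Ch.six`, `Ch.main`.
-/

open Subgroup Cfsg H08
open scoped Pointwise commutatorElement

namespace H05.Sims

variable {G : Type*} [Group G] [Finite G] {P H : Subgroup G} {g : G} {t : ℕ} {y : ℤ → G}

/-- `H = ⟨y 0, …, y t⟩`. -/
structure Gen (H : Subgroup G) (t : ℕ) (y : ℤ → G) : Prop where
  mem : ∀ m : ℤ, 0 ≤ m → m ≤ t → y m ∈ H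
  le : ∀ S : Subgroup G, (∀ m : ℤ, 0 ≤ m → m ≤ t → y m ∈ S) → H ≤ S

theorem top_of_le {S : Subgroup H} (h : H ≤ S.map H.subtype) : S = ⊤ :=
  top_le_iff.1 fun k _ => by obtain ⟨k', hk, e⟩ := h k.2; exact Subtype.ext e ▸ hk

theorem s4quotH {a b z x : G} {e : ℕ} (ma : a ∈ H) (mb : b ∈ H) (mz : z ∈ H) (mx : x ∈ H) (ha : a * a = 1)
    (hb : b * b = 1) (hz : orderOf z = 2) (haz : Commute a z)
    (hr : a * (b * z * b) * a = z * (b * z * b)) (hzz : Commute z (b * z * b)) (hx : x ^ 2 ^ e = 1) (c1 : Commute a x)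
    (c2 : Commute b x) (c3 : Commute z x) (ho : Odd (orderOf (a * b)))
    (hgen : ∀ S : Subgroup G, a ∈ S → b ∈ S → z ∈ S → x ∈ S → H ≤ S) (h8 : 2 ^ (3 + e) ∣ Nat.card H) :
    Nonempty (H ⧸ oddCore H ≃* Equiv.Perm (Fin 4) × Multiplicative (ZMod (2 ^ e))) :=
  s4quot (G := H) (a := ⟨a, ma⟩) (b := ⟨b, mb⟩) (z := ⟨z, mz⟩) (x := ⟨x, mx⟩) (Subtype.ext ha) (Subtype.ext hb)
    (by rwa [orderOf_mk]) (Subtype.ext haz) (Subtype.ext hr) (Subtype.ext hzz) (Subtype.ext hx) (Subtype.ext c1)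
    (Subtype.ext c2) (Subtype.ext c3) (by rwa [← orderOf_coe])
    (fun _ h1 h2 h3 h4 => top_of_le (hgen _ ⟨_, h1, rfl⟩ ⟨_, h2, rfl⟩ ⟨_, h3, rfl⟩ ⟨_, h4, rfl⟩)) h8

theorem v4quotH {a b x : G} (ma : a ∈ H) (mb : b ∈ H) (mx : x ∈ H) (ha : a * a = 1) (hb : b * b = 1) (hx : x ^ 2 = 1)
    (c1 : Commute a x) (c2 : Commute b x) (ho : Odd (orderOf (a * b)))
    (hgen : ∀ S : Subgroup G, a ∈ S → b ∈ S → x ∈ S → H ≤ S) (h4 : 2 ^ 2 ∣ Nat.card H) :
    Nonempty (H ⧸ oddCore H ≃* Multiplicative (ZMod 2) × Multiplicative (ZMod 2)) :=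
  v4quot (G := H) (a := ⟨a, ma⟩) (b := ⟨b, mb⟩) (x := ⟨x, mx⟩) (Subtype.ext ha) (Subtype.ext hb) (Subtype.ext hx)
    (Subtype.ext c1) (Subtype.ext c2) (by rwa [← orderOf_coe])
    (fun _ h1 h2 h3 => top_of_le (hgen _ ⟨_, h1, rfl⟩ ⟨_, h2, rfl⟩ ⟨_, h3, rfl⟩)) h4

omit [Finite G] in
theorem fix_of_odd {r w u : G} (ho : Odd (orderOf r)) (h1 : r * w * r⁻¹ = u * w) (h2 : Commute r u) (hu : u * u = 1) :
    u = 1 := by
  have k1 : ∀ k : ℕ, r ^ k * w * (r ^ k)⁻¹ = u ^ k * w := fun k => by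
    induction k with
    | zero => simp
    | succ k ih =>
      rw [show r ^ (k + 1) * w * (r ^ (k + 1))⁻¹ = r * (r ^ k * w * (r ^ k)⁻¹) * r⁻¹ by rw [pow_succ']; group, ih,
        ← mul_assoc r, (h2.pow_right k).eq, mul_assoc (u ^ k), mul_assoc (u ^ k), h1, pow_succ, mul_assoc]
  obtain ⟨m, hm⟩ := ho
  have := k1 (orderOf r)
  rw [pow_orderOf_eq_one, hm, pow_succ, pow_mul, sq, hu] at this
  simpa using this

omit [Finite G] in
theorem conj_of_comm {a v u : G} (ha : a * a = 1) (h : ⁅a, v⁆ = u) : a * v * a = u * v := by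
  rw [← h, commutatorElement_def, inv_eq_of_mul_eq_one_left ha, inv_mul_cancel_right]

omit [Finite G] in
theorem conj_of_comm' {b u v : G} (hb : b * b = 1) (hu : u * u = 1) (h : ⁅u, b⁆ = v) : b * u * b = u * v := by
  rw [← h, commutatorElement_def, inv_eq_of_mul_eq_one_left hb, inv_eq_of_mul_eq_one_left hu, ← mul_assoc, ← mul_assoc,
    ← mul_assoc, hu, one_mul]

namespace Ch

variable (h : Ch 2 P g t y)
include h

theorem sq (i : ℤ) : y i * y i = 1 := mul_self_of_orderOf (h.ord i)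

theorem inv (i : ℤ) : (y i)⁻¹ = y i := inv_eq_of_mul_eq_one_left (h.sq i)

theorem normL {i j : ℤ} (e : i ≤ j) (e' : j < i + t) : W P g t i j ≤ normalizer (W P g t (i + 1) j : Set G) :=
  (normal_subgroupOf_iff_le_normalizer (W_mono (by omega) le_rfl)).1
    (idx_normal h.hp (h.pgW e') (W_mono (by omega) le_rfl) (h.cardL e e')).1

theorem normR {i j : ℤ} (e : i ≤ j) (e' : j < i + t) : W P g t i j ≤ normalizer (W P g t i (j - 1) : Set G) :=
  (normal_subgroupOf_iff_le_normalizer (W_mono le_rfl (by omega))).1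
    (idx_normal h.hp (h.pgW e') (W_mono le_rfl (by omega)) (h.cardR e e')).1

theorem mem_norm {i j : ℤ} (e : j < i + t) {u : G} (hu : ∀ m, i ≤ m → m ≤ j → u * y m * u⁻¹ ∈ W P g t i j) :
    u ∈ normalizer (W P g t i j : Set G) :=
  mem_normalizer_fintype fun _ hx => h.W_le e (X := (W P g t i j).comap (MulAut.conj u).toMonoidHom) hu hx

theorem PW : P = W P g t 0 (t - 1) := by rw [← zero_add (t : ℤ), W_eq_Pz, Pz_zero]

theorem single {i : ℤ} {x : G} (hx : x ∈ W P g t i i) : x = 1 ∨ x = y i := by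
  have := h.W_le (i := i) (j := i) (by have := h.one; omega) (X := closure {y i, y i})
    (fun m a b => by rw [show m = i by omega]; exact subset_closure (by simp)) hx
  rw [mem_closure_klein (h.sq i) (h.sq i) rfl, h.sq] at this
  tauto

theorem pair {i : ℤ} (ht : 2 ≤ t) (c : Commute (y i) (y (i + 1))) {x : G} (hx : x ∈ W P g t i (i + 1)) :
    x = 1 ∨ x = y i ∨ x = y (i + 1) ∨ x = y i * y (i + 1) :=
  (mem_closure_klein (h.sq i) (h.sq _) c).1 (h.W_le (by omega) (X := closure {y i, y (i + 1)}) (fun m a b => by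
    rcases (show m = i ∨ m = i + 1 by omega) with rfl | rfl <;> exact subset_closure (by simp)) hx)

theorem elab2 {i j : ℤ} (e : j < i + t) (hc : ∀ m m', i ≤ m → m ≤ j → i ≤ m' → m' ≤ j → Commute (y m) (y m')) :
    (∀ u ∈ W P g t i j, ∀ v ∈ W P g t i j, Commute u v) ∧ ∀ u ∈ W P g t i j, u * u = 1 := by
  have c1 : ∀ u ∈ W P g t i j, ∀ v ∈ W P g t i j, Commute u v := fun u hu v hv =>
    h.comm_of e (fun m a b => (h.comm_of e (fun m' a' b' => hc _ _ a b a' b') hu).symm) hv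
  exact ⟨c1, fun u hu => (h.W_le e (X :=
    { carrier := {u | u ∈ W P g t i j ∧ u * u = 1}
      one_mem' := ⟨one_mem _, mul_one _⟩
      mul_mem' := fun {a b} ha hb => ⟨mul_mem ha.1 hb.1, by
        rw [(c1 _ hb.1 _ ha.1).mul_mul_mul_comm, ha.2, hb.2, mul_one]⟩
      inv_mem' := fun {a} ha => ⟨inv_mem ha.1, by rw [← mul_inv_rev, ha.2, inv_one]⟩ })
    (fun m a b => ⟨h.memW a b, h.sq m⟩) hu).2⟩

omit [Finite G] in
theorem cshift {i j : ℤ} {c : G} (e : ⁅y i, y j⁆ = c) (k : ℤ) : ⁅y (i + k), y (j + k)⁆ = (g ^ k)⁻¹ * c * g ^ k := by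
  rw [h.sh, h.sh, ← e]; simp only [commutatorElement_def]; group

variable (hH : Gen H t y)
include hH

theorem P_le : P ≤ H := by
  rw [h.PW]; exact h.W_le (by omega) fun m a b => hH.mem m a (by omega)

theorem normQ : H ≤ normalizer (W P g t 1 (t - 1) : Set G) := hH.le _ fun m a b => by
  have := h.one
  rcases lt_or_ge m t with e | e
  · exact h.normL (i := 0) (by omega) (by omega) (h.memW a (by omega))
  · exact h.normR (i := 1) (j := t) (by omega) (by omega) (h.memW (by omega) b)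

theorem exists_odd (hs : ¬ 2 ∣ P.relIndex H) : ∃ n, Odd n ∧ (y 0 * y t) ^ n ∈ W P g t 1 (t - 1) := by
  have t1 := h.one
  have hQ : W P g t 1 (t - 1) ≤ P := by nth_rw 2 [h.PW]; exact W_mono (by omega) le_rfl
  have hn := (normal_subgroupOf_iff_le_normalizer (hQ.trans (h.P_le hH))).2 (h.normQ hH)
  have e1 : (W P g t 1 (t - 1)).relIndex P = 2 := by
    have := (idx_normal h.hp (h.pgW (i := 0) (j := t - 1) (by omega)) (W_mono (by omega) le_rfl)
      (h.cardL (by omega) (by omega))).2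
    rwa [← h.PW] at this
  have e2 := relIndex_mul_relIndex _ _ _ hQ (h.P_le hH)
  let π := QuotientGroup.mk' ((W P g t 1 (t - 1)).subgroupOf H)
  have k1 : ∀ m (hm : y m ∈ H), y m ∉ W P g t 1 (t - 1) → orderOf (π ⟨y m, hm⟩) = 2 := fun m hm e =>
    orderOf_eq_prime (by rw [_root_.sq, ← map_mul, show (⟨y m, hm⟩ : H) * ⟨y m, hm⟩ = 1 from Subtype.ext (h.sq m), map_one])
      fun e' => e (mem_subgroupOf.1 ((QuotientGroup.eq_one_iff _).1 e'))
  have m0 := hH.mem 0 le_rfl (by omega)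
  have mt := hH.mem t (by omega) le_rfl
  refine ⟨_, odd_mul (fun e => hs ?_) (k1 0 m0 (h.notL (i := 0) (by omega))) (k1 t mt (h.notR (i := 1) (by omega))), ?_⟩
  · change 4 ∣ (W P g t 1 (t - 1)).relIndex H at e
    rw [← e2, e1] at e
    omega
  · have := pow_orderOf_eq_one (π ⟨y 0, m0⟩ * π ⟨y t, mt⟩)
    nth_rw 1 [← map_mul] at this
    rw [← map_pow] at this
    exact mem_subgroupOf.1 ((QuotientGroup.eq_one_iff _).1 this)

theorem exists_b (hs : ¬ 2 ∣ P.relIndex H) (hc : ∀ i j : ℤ, 1 ≤ i → i < t → 1 ≤ j → j < t → Commute (y i) (y j)) :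
    ∃ b ∈ H, b * b = 1 ∧ Odd (orderOf (y 0 * b)) ∧ (∀ w ∈ W P g t 1 (t - 1), b * w * b = y t * w * y t) ∧
      ∀ S : Subgroup G, y 0 ∈ S → b ∈ S → (∀ m : ℤ, 1 ≤ m → m < t → y m ∈ S) → H ≤ S := by
  obtain ⟨n, hn, hq⟩ := h.exists_odd hH hs
  have t1 := h.one
  obtain ⟨c1, c2⟩ := h.elab2 (i := 1) (j := t - 1) (by omega) fun m m' a b a' b' => hc m m' a (by omega) a' (by omega)
  set q := (y 0 * y t) ^ n with hqd
  have q2 := c2 q hq
  have i1 : Commute (y 0) q := by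
    rw [Commute, SemiconjBy, ← mul_inv_eq_iff_eq_mul, hqd, ← conj_pow, conj_mul_left (h.sq 0) (h.sq t), inv_pow, ← hqd,
      inv_eq_of_mul_eq_one_left q2]
  have i2 : Commute (y t) q := by
    have : Commute (y 0 * y t) q := (Commute.refl _).pow_right n
    simpa using i1.inv_left.mul_left this
  have mt := hH.mem t (by omega) le_rfl
  refine ⟨y t * q, mul_mem mt (pow_mem (mul_mem (hH.mem 0 le_rfl (by omega)) mt) n), ?_, ?_, fun w hw => ?_,
    fun S s1 s2 s3 => hH.le S fun m a b => ?_⟩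
  · rw [i2.symm.mul_mul_mul_comm, h.sq, q2, mul_one]
  · refine hn.of_dvd_nat (orderOf_dvd_of_pow_eq_one ?_)
    obtain ⟨m, hm⟩ := hn
    rw [← mul_assoc, (i1.mul_left i2).mul_pow, ← hqd, hm, pow_succ, pow_mul, _root_.sq, q2, one_pow, one_mul, q2]
  · rw [mul_assoc (y t), (c1 q hq w hw).eq, i2.eq, show y t * (w * q) * (q * y t) = y t * w * (q * q) * y t by group, q2,
      mul_one]
  · rcases (show m = 0 ∨ m = t ∨ (1 ≤ m ∧ m < t) by omega) with rfl | rfl | e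
    · exact s1
    · exact (mul_mem_cancel_right (h.W_le (by omega) (fun m a b => s3 m a (by omega)) hq)).1 s2
    · exact s3 m e.1 e.2

theorem main (hs : ¬ 2 ∣ P.relIndex H)
    (hz : ∀ x ∈ P, (∀ m : ℤ, 0 ≤ m → m < t + (2 : ℕ) → Commute x (y m)) → x = 1) (h6 : t ≠ 6) :
    (t ≤ 2 ∧ ∃ a ∈ H, ∃ b ∈ H, ∃ x ∈ H, a * a = 1 ∧ b * b = 1 ∧ x ^ 2 = 1 ∧ Commute a x ∧ Commute b x ∧
      Odd (orderOf (a * b)) ∧ (t = 1 → x = 1) ∧ ∀ S : Subgroup G, a ∈ S → b ∈ S → x ∈ S → H ≤ S) ∨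
    (t = 3 ∧ Nonempty (H ⧸ oddCore H ≃* Equiv.Perm (Fin 4))) ∨
    (t = 4 ∧ Nonempty (H ⧸ oddCore H ≃* Equiv.Perm (Fin 4) × Multiplicative (ZMod 2))) := by
  have t1 := h.one
  have m0 := hH.mem 0 le_rfl (by omega)
  have hd : 2 ^ t ∣ Nat.card H := h.cardP ▸ card_dvd_of_le (h.P_le hH)
  have k1 : ∀ {b w : G}, b * b = 1 → b * w * b = y t * w * y t → Commute (y t) w → Commute b w := fun {b w} e1 e2 e3 => by
    rw [Commute, SemiconjBy, ← mul_inv_eq_iff_eq_mul, inv_eq_of_mul_eq_one_left e1, e2, e3.eq, mul_assoc, h.sq, mul_one]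
  rcases h.bound hz with ⟨e, c⟩ | ⟨s, s1, s2, s3, s4, c, nc, hw⟩
  · obtain ⟨b, mb, b2, ho, hb, hg⟩ := h.exists_b hH hs fun i j _ _ _ _ => c i j (by omega) (by omega)
    refine Or.inl ⟨e, _, m0, b, mb, ?_⟩
    rcases (show t = 1 ∨ t = 2 by omega) with rfl | rfl
    · exact ⟨1, one_mem _, h.sq 0, b2, one_pow _, Commute.one_right _, Commute.one_right _, ho, fun _ => rfl,
        fun S s1 s2 _ => hg S s1 s2 fun m a b => by omega⟩
    · exact ⟨y 1, hH.mem 1 (by omega) (by omega), h.sq 0, b2, by rw [_root_.sq, h.sq], c _ _ (by omega) (by omega),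
        k1 b2 (hb _ (h.memW le_rfl (by omega))) (c _ _ (by omega) (by omega)), ho, fun e => by omega,
        fun S s1 s2 s3 => hg S s1 s2 fun m a b => by rwa [show m = 1 by omega]⟩
  obtain ⟨b, mb, b2, ho, hb, hg⟩ := h.exists_b hH hs fun i j _ _ _ _ => c i j (by omega) (by omega)
  have c0 : ⁅y 0, y s⁆ ≠ 1 := fun e => nc 0 (by rw [zero_add]; exact commutatorElement_eq_one_iff_commute.1 e)
  have m1 := hH.mem 1 (by omega) (by omega)
  have m2 := hH.mem 2 (by omega) (by omega)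
  have c01 : Commute (y 0) (y 1) := c _ _ (by omega) (by omega)
  have c12 : Commute (y 1) (y 2) := c _ _ (by omega) (by omega)
  have q0 := h.sq 0
  have q1 := h.sq 1
  have q2 := h.sq 2
  rcases (show (t = 3 ∧ s = 2) ∨ (t = 4 ∧ s = 3) by omega) with ⟨rfl, rfl⟩ | ⟨rfl, rfl⟩
  · have e1 : ⁅y 0, y 2⁆ = y 1 := (h.single (i := 1) hw).resolve_left c0
    have e2 : ⁅y 1, y 3⁆ = y 2 := (h.cshift e1 1).trans (h.sh 1 1).symm
    have r1 := conj_of_comm q0 e1
    have r2 : b * y 1 * b = y 1 * y 2 := (hb _ (h.memW le_rfl (by omega))).trans (conj_of_comm' (h.sq 3) q1 e2)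
    obtain ⟨φ⟩ := s4quotH (e := 0) m0 mb m1 (one_mem H) q0 b2 (h.ord 1) c01
      (by rw [r2, ← mul_assoc, c01.eq, mul_assoc (y 1), mul_assoc (y 1), r1]) (by rw [r2]; exact (Commute.refl _).mul_right c12)
      (one_pow _) (Commute.one_right _) (Commute.one_right _) (Commute.one_right _) ho (fun S s1 s2 s3 _ => hg S s1 s2
        fun m a a' => by
          rcases (show m = 1 ∨ m = 2 by omega) with rfl | rfl
          exacts [s3, (mul_mem_cancel_left s3).1 (r2 ▸ mul_mem (mul_mem s2 s3) s2)]) hd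
    have : Unique (Multiplicative (ZMod (2 ^ 0))) := inferInstanceAs (Unique (Multiplicative (ZMod 1)))
    exact Or.inr (Or.inl ⟨rfl, ⟨φ.trans MulEquiv.prodUnique⟩⟩)
  · have c02 : Commute (y 0) (y 2) := c _ _ (by omega) (by omega)
    have c13 : Commute (y 1) (y 3) := c _ _ (by omega) (by omega)
    have c23 : Commute (y 2) (y 3) := c _ _ (by omega) (by omega)
    have d2 : Commute b (y 2) := k1 b2 (hb _ (h.memW (by omega) (by omega))) (c _ _ (by omega) (by omega))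
    have d3 : Commute b (y 3) := k1 b2 (hb _ (h.memW (by omega) (by omega))) (c _ _ (by omega) (by omega))
    have r0 : ∀ w, y 0 * b * w * (y 0 * b)⁻¹ = y 0 * (b * w * b) * y 0 := fun w => by
      rw [mul_inv_rev, h.inv, inv_eq_of_mul_eq_one_left b2]; group
    have r2 : ∀ v, ⁅y 1, y 4⁆ = v → b * y 1 * b = y 1 * v := fun v e =>
      (hb _ (h.memW le_rfl (by omega))).trans (conj_of_comm' (h.sq 4) q1 e)
    rcases (h.pair (i := 1) (by omega) c12 hw).resolve_left c0 with e1 | e1 | e1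
    · have e2 : ⁅y 1, y 4⁆ = y 2 := (h.cshift e1 1).trans (h.sh 1 1).symm
      exact absurd (fix_of_odd ho (w := y 1) (by
        rw [r0, r2 _ e2, (c01.mul_right c02).eq, mul_assoc, q0, mul_one, c12.eq]) (c02.mul_left d2) q2) (h.ne 2)
    · exact absurd (fix_of_odd ho (w := y 3) (by
        rw [r0, d3.eq, mul_assoc (y 3), b2, mul_one]; exact conj_of_comm q0 e1) (c02.mul_left d2) q2) (h.ne 2)
    have e2 : ⁅y 1, y 4⁆ = y 2 * y 3 := (h.cshift e1 1).trans (by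
      rw [show y 2 * y 3 = y (1 + 1) * y (1 + 1 + 1) from rfl, h.sh (1 + 1) 1]; nth_rw 2 [h.sh 1 1]; group)
    have r1 : y 0 * y 3 * y 0 = y 1 * y 2 * y 3 := conj_of_comm q0 e1
    have r3 : b * (y 1 * y 2) * b = y 1 * y 3 := by
      rw [← mul_assoc, mul_assoc _ (y 2), ← d2.eq, ← mul_assoc, r2 _ e2, c23.eq, mul_assoc, mul_assoc, q2, mul_one]
    refine Or.inr (Or.inr ⟨rfl, s4quotH (e := 1) m0 mb (mul_mem m1 m2) m2 q0 b2 (orderOf_eq_prime ?_ (e1 ▸ c0))
      (c01.mul_right c02) ?_ ?_ (by rw [pow_one, _root_.sq, q2]) c02 d2 (c12.mul_left rfl) ho (fun S s1 s2 s3 s4 => hg S s1 s2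
        fun m a a' => ?_) hd⟩)
    · rw [c12.mul_pow, _root_.sq, _root_.sq, q1, q2, mul_one]
    · rw [r3, ← mul_assoc, c01.eq, mul_assoc (y 1), mul_assoc (y 1), r1, mul_assoc (y 1) (y 2), mul_assoc (y 1) (y 2),
        ← mul_assoc (y 2), ← c12.eq, mul_assoc]
    · rw [r3]; exact ((Commute.refl _).mul_right c13).mul_left (c12.symm.mul_right c23)
    · have s5 := (mul_mem_cancel_right s4).1 s3
      rcases (show m = 1 ∨ m = 2 ∨ m = 3 by omega) with rfl | rfl | rfl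
      exacts [s5, s4, (mul_mem_cancel_left s5).1 (r3 ▸ mul_mem (mul_mem s2 s3) s2)]

end Ch

theorem Ch.six (h : Ch 2 P g 6 y) (hH : Gen H 6 y)
    (hz : ∀ x ∈ P, (∀ m : ℤ, 0 ≤ m → m < (6 : ℕ) + (2 : ℕ) → Commute x (y m)) → x = 1) {x k : G} (hk : k ∈ H)
    (hg : g = x * k) (hx : x ∈ normalizer (P : Set G)) (hx2 : ∀ z ∈ P, z ≠ 1 → (∀ u ∈ H, Commute z u) → Commute (x * x) z →
      ∃ u ∈ P, ∀ v ∈ P, (x * x)⁻¹ * v * (x * x) = u⁻¹ * v * u) : False := by
  rcases h.bound hz with ⟨e, c⟩ | ⟨s, s1, s2, s3, s4, c, nc, hw⟩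
  · omega
  obtain rfl : s = 4 := by omega
  have c0 : ⁅y 0, y 4⁆ ≠ 1 := fun e => nc 0 (commutatorElement_eq_one_iff_commute.1 e)
  have e1 : ⁅y 0, y 4⁆ = y 2 := (h.single (i := 2) hw).resolve_left c0
  have e2 : ⁅y 2, y 6⁆ = y 4 := (h.cshift e1 2).trans (h.sh 2 2).symm
  have hP : ∀ m : ℤ, 0 ≤ m → m ≤ 5 → y m ∈ P := fun m a b => h.PW.ge (h.memW a b)
  have xs : ∀ u, x⁻¹ * u * x = k * ((g ^ (1 : ℤ))⁻¹ * u * g ^ (1 : ℤ)) * k⁻¹ := fun u => by rw [zpow_one, hg]; group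
  have xy : ∀ i, x⁻¹ * y i * x = k * y (i + 1) * k⁻¹ := fun i => by rw [xs, h.sh]
  have z3 : ∀ u ∈ H, Commute (y 3) u := fun u hu => (mem_centralizer_singleton_iff.1 (hH.le (centralizer {y 3})
    (fun m a b => mem_centralizer_singleton_iff.2 (c _ _ (by omega) (by omega))) hu)).symm
  have c24 : Commute (y 2) (y 4) := c _ _ (by omega) (by omega)
  have m2 : y 2 ∈ closure ({y 2, y 4} : Set G) := subset_closure (by simp)
  have m4 : y 4 ∈ closure ({y 2, y 4} : Set G) := subset_closure (by simp)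
  have nV : H ≤ normalizer (closure ({y 2, y 4} : Set G) : Set G) := hH.le _ fun m a b =>
    mem_normalizer_fintype fun _ hx => (closure_le ((closure {y 2, y 4}).comap (MulAut.conj (y m)).toMonoidHom)).2 (by
      rintro _ (rfl | rfl) <;> change y m * _ * (y m)⁻¹ ∈ Subgroup.closure _
      · rcases (show m = 6 ∨ m < 6 by omega) with rfl | e
        · rw [h.inv, conj_of_comm' (h.sq 6) (h.sq 2) e2]; exact mul_mem m2 m4
        · rwa [(c _ _ (by omega) (by omega)).mul_inv_cancel]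
      · rcases (show m = 0 ∨ 0 < m by omega) with rfl | e
        · rw [h.inv, conj_of_comm (h.sq 0) e1]; exact mul_mem m2 m4
        · rwa [(c _ _ (by omega) (by omega)).mul_inv_cancel]) hx
  have x2 : x⁻¹ * y 2 * x = y 3 := by rw [xy]; exact (z3 k hk).symm.mul_inv_cancel
  have x3 : x⁻¹ * y 3 * x = y 2 := by
    have a1 : Commute (y 0) (x⁻¹ * y 3 * x) := by
      have := (z3 _ (h.P_le hH ((mem_normalizer_iff.1 hx _).1 (hP 0 le_rfl (by omega))))).symm.conj x⁻¹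
      simpa [mul_assoc] using this
    have a2 := (mem_normalizer_iff.1 (nV hk) _).1 m4
    rw [show y 4 = y (3 + 1) from rfl, ← xy] at a2
    rcases (mem_closure_klein (h.sq 2) (h.sq 4) c24).1 a2 with e | e | e | e
    · exact absurd (conj_eq_one_iff.1 (show x⁻¹ * y 3 * x⁻¹⁻¹ = 1 by rwa [inv_inv])) (h.ne 3)
    · exact e
    · exact absurd (e ▸ a1) (nc 0)
    · rw [e] at a1
      exact absurd (by simpa using (c 0 2 (by omega) (by omega)).inv_right.mul_right a1) (nc 0)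
  obtain ⟨u, hu, hv⟩ := hx2 (y 3) (hP 3 (by omega) (by omega)) (h.ne 3) z3 (by
    rw [Commute, SemiconjBy, ← inv_mul_eq_iff_eq_mul.1 (show (x * x)⁻¹ * (y 3 * (x * x)) = y 3 by
      nth_rw 2 [← x2]; rw [← x3]; group)])
  have d : ⁅y 6, y 1⁆ ∈ W P g 6 1 4 := by
    have d1 : ⁅y 6, y 1⁆ ∈ W P g 6 2 5 := h.comm_mem (i := 1) (j := 6) (by omega) (by omega) (h.memW (by omega) le_rfl)
      (h.memW le_rfl (by omega))
    obtain ⟨n, w, hw, e⟩ := h.decR (by omega) (by omega) d1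
    have a1 : Commute (y 1) w := h.comm_of (by omega) (fun m a b => c _ _ (by omega) (by omega)) hw
    have a2 : Commute (y 1) ⁅y 6, y 1⁆ := by
      rw [Commute, SemiconjBy, ← mul_inv_eq_iff_eq_mul, ← inv_inj, inv_eq_of_mul_eq_one_left ((h.elab2 (by omega)
        fun m m' a b a' b' => c _ _ (by omega) (by omega)).2 _ d1), commutatorElement_def]
      simp only [mul_inv_rev, h.inv, mul_assoc, h.sq, mul_one, one_mul, ← mul_assoc (y 1) (y 1)]
    rw [e] at a2 ⊢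
    rw [h.zpow_eq_one (i := 5) (nc 1) (by simpa using a2.mul_right a1.inv_right), one_mul]
    exact W_mono (by omega) le_rfl hw
  have n4 : H ≤ normalizer (W P g 6 1 4 : Set G) := hH.le _ fun m a b => by
    rcases (show m ≤ 4 ∨ m = 5 ∨ m = 6 by omega) with e | rfl | rfl
    · exact h.normL (i := 0) (by omega) (by omega) (h.memW a e)
    · exact h.normR (i := 1) (j := 5) (by omega) (by omega) (h.memW (by omega) le_rfl)
    · refine h.mem_norm (by omega) fun m a b => ?_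
      rcases (show m = 1 ∨ m = 2 ∨ 2 < m by omega) with rfl | rfl | e
      · rw [h.inv, conj_of_comm (h.sq 6) rfl]; exact mul_mem d (h.memW a b)
      · rw [h.inv, conj_of_comm' (h.sq 6) (h.sq 2) e2]; exact mul_mem (h.memW a b) (h.memW (by omega) le_rfl)
      · rw [(c _ _ (by omega) (by omega)).mul_inv_cancel]; exact h.memW a b
  have f1 : x⁻¹ * y 0 * x ∈ W P g 6 1 4 := by
    rw [xy]; exact (mem_normalizer_iff.1 (n4 hk) _).1 (h.memW (by omega) (by omega))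
  have f2 : x⁻¹ * (x⁻¹ * y 0 * x) * x ∈ W P g 6 1 ((6 : ℕ) - 1) := by
    rw [xs]; exact (mem_normalizer_iff.1 (h.normQ hH hk) _).1 (W_mono (by omega) (by omega) ((W_shift 1).2 f1))
  rw [show x⁻¹ * (x⁻¹ * y 0 * x) * x = (x * x)⁻¹ * y 0 * (x * x) by group, hv _ (hP 0 le_rfl (by omega))] at f2
  exact h.notL (i := 0) (by omega) ((mem_normalizer_iff''.1 (h.normQ hH (h.P_le hH hu)) _).2 f2)

end H05.Sims
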