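import Mathlib
import Cfsg.Agent.H05.Sims4
import Cfsg.Agent.H01.Basic
import Cfsg.Agent.H02.PCore

/-!
The Tutte–Sims–Glauberman chain argument for `p = 2`, part 5 (helper5): `Out`, `core`, `sims`.
-/

open Subgroup Cfsg H08
open scoped Pointwise commutatorElement

namespace H05.Sims

variable {G : Type*} [Group G] [Finite G] {P H O : Subgroup G}

/-- The possible structures of `H`. -/
def Out (H : Subgroup G) (t : ℕ) : Prop :=
  (t ≤ 2 ∧ ∃ a ∈ H, ∃ b ∈ H, ∃ x ∈ H, a * a = 1 ∧ b * b = 1 ∧ x ^ 2 = 1 ∧ Commute a x ∧ Commute b x ∧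
      Odd (orderOf (a * b)) ∧ (t = 1 → x = 1) ∧ ∀ S : Subgroup G, a ∈ S → b ∈ S → x ∈ S → H ≤ S) ∨
    (t = 3 ∧ Nonempty (H ⧸ oddCore H ≃* Equiv.Perm (Fin 4))) ∨
    (t = 4 ∧ Nonempty (H ⧸ oddCore H ≃* Equiv.Perm (Fin 4) × Multiplicative (ZMod 2)))

omit [Finite G] in
theorem mem_cj {g x : G} : x ∈ MulAut.conj g • P ↔ g⁻¹ * x * g ∈ P := by
  rw [mem_pointwise_smul_iff_inv_smul_mem, ← map_inv, MulAut.smul_def, MulAut.conj_apply, inv_inv]

omit [Finite G] in
theorem cj_eq_iff {g : G} : MulAut.conj g • P = P ↔ g ∈ normalizer (P : Set G) := by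
  rw [mem_normalizer_iff'', Subgroup.ext_iff]
  exact forall_congr' fun x => by rw [mem_cj]; exact Iff.comm

theorem core (hP : IsPGroup 2 P) (hPH : P ≤ H) (hs : ¬ 2 ∣ P.relIndex H) (hO : O ≤ P) (hOn : H ≤ normalizer (O : Set G))
    (h2 : O.relIndex P = 2) {k x : G} (hk : k ∈ H) (hgen : ∀ S, P ≤ S → (∀ u ∈ P, k⁻¹ * u * k ∈ S) → H ≤ S)
    (hne : ¬ H ≤ P) (hx : x ∈ normalizer (P : Set G))
    (hQ : ∀ Q ≤ P, H ≤ normalizer (Q : Set G) → x ∈ normalizer (Q : Set G) → Q = ⊥)
    (hz : ∀ z ∈ P, (∀ u ∈ H, Commute z u) → (∀ u ∈ H, Commute z (x⁻¹ * u * x)) → z = 1)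
    (hx2 : ∀ z ∈ P, z ≠ 1 → (∀ u ∈ H, Commute z u) → Commute (x * x) z →
      ∃ u ∈ P, ∀ v ∈ P, (x * x)⁻¹ * v * (x * x) = u⁻¹ * v * u) :
    ∃ t, Nat.card P = 2 ^ t ∧ 1 ≤ t ∧ Out H t := by
  have e1 : MulAut.conj (x * k)⁻¹ • P = MulAut.conj k⁻¹ • P := by
    rw [mul_inv_rev, map_mul, mul_smul, cj_eq_iff.2 (inv_mem hx)]
  have e2 : ∀ u ∈ P, k⁻¹ * u * k ∈ Pz P (x * k) 1 := fun u hu => by
    rw [Pz_one, e1, mem_cj]; simpa [mul_assoc] using hu
  have e3 : Pz P (x * k) 1 ≤ H := fun u hu => by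
    rw [Pz_one, e1, mem_cj] at hu
    exact (mul_mem_cancel_left (inv_mem (inv_mem hk))).1 ((mul_mem_cancel_right (inv_mem hk)).1 (hPH hu))
  have hidx : (P ⊓ MulAut.conj (x * k)⁻¹ • P).relIndex (MulAut.conj (x * k)⁻¹ • P) = 2 := by
    have a1 := cj_eq_iff.2 (hOn (inv_mem hk))
    have a2 : O.relIndex (MulAut.conj k⁻¹ • P) = 2 := by rw [← a1, relIndex_pointwise_smul, h2]
    rw [e1]
    rw [← relIndex_mul_relIndex O (P ⊓ MulAut.conj k⁻¹ • P) _ (le_inf hO (a1 ▸ pointwise_smul_le_pointwise_smul_iff.2 hO))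
      inf_le_right] at a2
    refine ((Nat.dvd_prime Nat.prime_two).1 (Dvd.intro_left _ a2)).resolve_left fun e => hne (hgen P le_rfl fun u hu => ?_)
    exact (relIndex_eq_one.1 e (by rw [← e1, ← Pz_one]; exact e2 u hu)).1
  obtain ⟨t, y, h⟩ := exists_ch Nat.prime_two hP hidx fun Q q1 q2 q3 => by
    have a1 := (normal_subgroupOf_iff_le_normalizer q1).1 q2
    have a2 := cj_eq_iff.1 q3
    have a3 : H ≤ normalizer (Q : Set G) := hgen _ a1 fun u hu => by
      rw [show k⁻¹ * u * k = (x * k)⁻¹ * (x * u * x⁻¹) * (x * k) by group]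
      exact mul_mem (mul_mem (inv_mem a2) (a1 ((mem_normalizer_iff.1 hx u).1 hu))) a2
    exact hQ Q q1 a3 ((mul_mem_cancel_right (a3 hk)).1 a2)
  have t1 := h.one
  have hH : Gen H t y := ⟨fun m a b => by
    rcases lt_or_ge m t with e | e
    · exact hPH (h.PW.ge (h.memW a (by omega)))
    · exact e3 ((W_eq_Pz (t := t) 1).le (h.memW (by omega) (by omega))), fun S hS => hgen S
    (h.PW.le.trans (h.W_le (by omega) fun m a b => hS m a (by omega))) fun u hu =>
      h.W_le (by omega) (fun m a b => hS m (by omega) (by omega)) ((W_eq_Pz (t := t) 1).ge (e2 u hu))⟩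
  have hz' : ∀ z ∈ P, (∀ m : ℤ, 0 ≤ m → m < t + (2 : ℕ) → Commute z (y m)) → z = 1 := fun z hzP hc => by
    have a1 : ∀ u ∈ H, Commute z u := fun u hu => (mem_centralizer_singleton_iff.1 (hH.le (centralizer {z})
      (fun m a b => mem_centralizer_singleton_iff.2 (hc m a (by omega)).symm) hu)).symm
    refine hz z hzP a1 fun u hu => ?_
    have a2 := hH.le ((centralizer {z}).comap (MulAut.conj (x * k)⁻¹).toMonoidHom) (fun m a b => by
      have := hc (m + 1) (by omega) (by omega)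
      rw [h.sh, zpow_one] at this
      exact mem_centralizer_singleton_iff.2 (by
        rw [← inv_inv (x * k)] at this; rw [inv_inv] at this; simpa [mul_assoc] using this.symm.eq)) hu
    have a3 : Commute z ((x * k)⁻¹ * u * (x * k)⁻¹⁻¹) := (mem_centralizer_singleton_iff.1 a2).symm
    rw [show x⁻¹ * u * x = k * ((x * k)⁻¹ * u * (x * k)⁻¹⁻¹) * k⁻¹ by group]
    exact ((a1 k hk).mul_right a3).mul_right (a1 k hk).inv_right
  exact ⟨t, h.cardP, t1, h.main hH hs hz' (by rintro rfl; exact h.six hH hz' hk rfl hx hx2)⟩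

theorem core3 (hP : P ≤ H) (h3 : P.relIndex H = 3) : ∃ O ≤ P, H ≤ normalizer (O : Set G) ∧ O.relIndex P ∣ 2 := by
  have h1 : (P.subgroupOf H).normalCore.index ∣ Nat.factorial (P.subgroupOf H).index := by
    rw [normalCore_eq_ker, index_ker, index_eq_card, ← Nat.card_perm]
    exact card_subgroup_dvd_card (MulAction.toPermHom H (H ⧸ P.subgroupOf H)).range
  rw [← relIndex_mul_index (normalCore_le _), show (P.subgroupOf H).index = 3 from h3] at h1
  refine ⟨(P.subgroupOf H).normalCore.map H.subtype, map_le_iff_le_comap.2 (normalCore_le _), ?_, ?_⟩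
  · refine (normal_subgroupOf_iff_le_normalizer (map_subtype_le _)).1 ?_
    rw [subgroupOf, comap_map_eq_self_of_injective H.subtype_injective]
    infer_instance
  · rw [← relIndex_subgroupOf hP, subgroupOf, comap_map_eq_self_of_injective H.subtype_injective]
    exact Nat.dvd_of_mul_dvd_mul_right (by norm_num : 0 < 3) h1

theorem odd_norm (hP : P ≤ H) (h3 : P.relIndex H = 3) :
    H ≤ normalizer (closure {x | x ∈ P ∧ Odd (orderOf x)} : Subgroup G) := by
  obtain ⟨O, o1, o2, o3⟩ := core3 hP h3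
  refine fun h hh => mem_normalizer_fintype fun _ hx => (closure_le (comap (MulAut.conj h).toMonoidHom
    (closure {x | x ∈ P ∧ Odd (orderOf x)}))).2 (fun x hx => Subgroup.subset_closure ⟨o1 ((mem_normalizer_iff.1 (o2 hh) x).1 ?_), by
      simpa only [MulEquiv.coe_toMonoidHom, MulAut.conj_apply, orderOf_conj'] using hx.2⟩) hx
  have := (normal_subgroupOf_iff_le_normalizer o1).2 (hP.trans o2)
  obtain ⟨c, hc⟩ := o3
  obtain ⟨m, hm⟩ := exists_pow_eq_self_of_coprime (Nat.coprime_two_left.2 hx.2)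
  rw [← hm, hc, pow_mul]
  exact pow_mem (pow_mem (mem_subgroupOf.1 (pow_index_mem (O.subgroupOf P) ⟨x, hx.1⟩)) c) m

theorem sims (hmax : IsCoatom H) (hcore : ∀ N ≤ H, normalizer (N : Set G) = ⊤ → N = ⊥) {g : G}
    (h3 : (H ⊓ MulAut.conj g • H).relIndex H = 3) : Nat.card H = 3 ∨ ∃ t, Nat.card H = 2 ^ t * 3 ∧ 1 ≤ t ∧ Out H t := by
  set P := H ⊓ MulAut.conj g • H with hPd
  have cj : ∀ (g : G) (K : Subgroup G), Nat.card (MulAut.conj g • K : Subgroup G) = Nat.card K := fun g K =>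
    (Nat.card_congr (equivSMul (MulAut.conj g) K).toEquiv).symm
  have cr : ∀ K, P ≤ K → Nat.card P * P.relIndex K = Nat.card K := fun K hK => by
    rw [← Nat.card_congr (subgroupOfEquivOfLe hK).toEquiv]; exact card_mul_index _
  have c1 := cr H inf_le_left
  have h3' : P.relIndex (MulAut.conj g • H) = 3 :=
    Nat.eq_of_mul_eq_mul_left Nat.card_pos (by rw [cr _ inf_le_right, cj, ← c1, h3])
  have n1 : ¬ MulAut.conj g • H ≤ H := fun e => by
    rw [relIndex_eq_one.2 (le_inf e le_rfl)] at h3'; omega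
  have top : ∀ S, H ≤ S → ¬ S ≤ H → S = ⊤ := fun S a b => hmax.2 S (lt_of_le_not_ge a b)
  have hD := hcore _ (((closure_le P).2 fun _ h => h.1).trans inf_le_left)
    (top _ (odd_norm inf_le_left h3) fun e => n1 ((odd_norm inf_le_right h3').trans e))
  have hP : IsPGroup 2 P := by
    refine IsPGroup.iff_card.2 ⟨_, Nat.eq_prime_pow_of_unique_prime_dvd Nat.card_pos.ne' fun {r} hr hd => by_contra fun e => ?_⟩
    have := Fact.mk hr
    obtain ⟨x, hx⟩ := exists_prime_orderOf_dvd_card' r hd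
    have : (x : G) ∈ closure {x | x ∈ P ∧ Odd (orderOf x)} :=
      subset_closure ⟨x.2, by rw [orderOf_coe, hx]; exact hr.odd_of_ne_two e⟩
    rw [hD, mem_bot, OneMemClass.coe_eq_one] at this
    exact hr.one_lt.ne (by rw [← hx, this, orderOf_one])
  obtain ⟨w, hw, e1⟩ := H01.sylow_conj_of_card (p := 2) (M := MulAut.conj g • H) (P := P) (Q := MulAut.conj g • P) inf_le_right
    (pointwise_smul_le_pointwise_smul_iff.2 inf_le_left) hP (by omega) (cj g P)
  rw [← mul_smul, ← map_mul, cj_eq_iff] at e1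
  have xN : w * g ∉ normalizer (H : Set G) := fun e => n1 (by
    rw [← conj_smul_eq_self_of_mem hw, ← mul_smul, ← map_mul, cj_eq_iff.2 e])
  have xH : w * g ∉ H := fun e => xN (le_normalizer e)
  by_cases hn : H ≤ normalizer (P : Set G)
  · rw [h3, hcore P inf_le_left (top _ hn fun e => xH (e e1)), card_bot, one_mul] at c1
    exact Or.inl c1.symm
  obtain ⟨O, o1, o2, o3⟩ := core3 inf_le_left h3
  obtain ⟨k, hk, kn⟩ := SetLike.not_le_iff_exists.1 hn
  have mx : ∀ S, P ≤ S → ¬ S ⊓ H ≤ P → H ≤ S := fun S a b => by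
    have e := relIndex_mul_relIndex P (S ⊓ H) H (le_inf a inf_le_left) inf_le_right
    rw [h3] at e
    rcases (Nat.dvd_prime Nat.prime_three).1 (Dvd.intro _ e) with e' | e'
    · exact absurd (relIndex_eq_one.1 e') b
    · rw [e'] at e
      exact (relIndex_eq_one.1 (show (S ⊓ H).relIndex H = 1 by omega)).trans inf_le_left
  have cz : ∀ z ∈ P, z ≠ 1 → (∀ u ∈ H, Commute z u) → centralizer {z} ≤ H := fun z a b c => by_contra fun e => b (by
    have e1 := top _ (fun u hu => mem_centralizer_singleton_iff.2 (c u hu).symm) e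
    refine zpowers_eq_bot.1 (hcore _ (zpowers_le.2 a.1) (top_le_iff.1 fun u _ => mem_norm_zpowers ?_))
    rw [(show Commute u z from mem_centralizer_singleton_iff.1 (e1 ▸ mem_top u)).mul_inv_cancel]
    exact mem_zpowers z)
  obtain ⟨t, t1, t2⟩ := core hP inf_le_left (by omega) o1 o2 (((Nat.dvd_prime Nat.prime_two).1 o3).resolve_left
    fun e => hn (by rwa [le_antisymm o1 (relIndex_eq_one.1 e)] at o2)) hk (fun S a b => mx S a fun e => kn (inv_mem_iff.1
      (mem_normalizer_fintype fun u hu => e ⟨by simpa using b u hu, H.mul_mem (H.mul_mem (inv_mem hk) hu.1) (inv_mem (inv_mem hk))⟩)))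
    (fun e => hn (e.trans le_normalizer)) e1 (fun Q a b c => hcore Q (a.trans inf_le_left) (top _ b fun e => xH (e c)))
    (fun z a b c => by_contra fun e => xN (inv_mem_iff.1 (mem_normalizer_fintype fun u hu => cz z a e b
      (mem_centralizer_singleton_iff.2 (by rw [inv_inv]; exact (c u hu).symm)))))
    (fun z a b c d => ⟨w * g * (w * g), by_contra fun e => hn (mx _ le_normalizer fun e' =>
      e (e' ⟨mul_mem e1 e1, cz z a b c (mem_centralizer_singleton_iff.2 d)⟩)), fun v _ => rfl⟩)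
  exact Or.inr ⟨t, by rw [← c1, h3, t1], t2⟩

theorem sims_perm {Ω : Type*} [MulAction G Ω] [FaithfulSMul G Ω] (hprim : MulAction.IsPreprimitive G Ω) (a b : Ω)
    (h3 : Nat.card (MulAction.orbit (MulAction.stabilizer G a) b) = 3) : Nat.card (MulAction.stabilizer G a) = 3 ∨
    ∃ t, Nat.card (MulAction.stabilizer G a) = 2 ^ t * 3 ∧ 1 ≤ t ∧ Out (MulAction.stabilizer G a) t := by
  have : Finite (MulAction.orbit (MulAction.stabilizer G a) b) := Nat.finite_of_card_ne_zero (by omega)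
  have := Finite.one_lt_card_iff_nontrivial.1 (show 1 < Nat.card (MulAction.orbit (MulAction.stabilizer G a) b) by omega)
  have : Nontrivial Ω := (Subtype.val_injective (p := (· ∈ MulAction.orbit (MulAction.stabilizer G a) b))).nontrivial
  obtain ⟨g, rfl⟩ := MulAction.exists_smul_eq G a b
  refine sims ((MulAction.isCoatom_stabilizer_iff_preprimitive G a).2 hprim) (fun N h1 h2 => (eq_bot_iff_forall _).2
    fun x hx => FaithfulSMul.eq_of_smul_eq_smul (α := Ω) fun c => ?_) (g := g) ?_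
  · obtain ⟨k, rfl⟩ := MulAction.exists_smul_eq G a c
    have := h1 ((mem_normalizer_iff''.1 (h2 ▸ mem_top k) x).1 hx)
    rwa [MulAction.mem_stabilizer_iff, mul_smul, mul_smul, inv_smul_eq_iff, ← one_smul G (k • a), smul_smul, mul_one] at this
  · rw [inf_relIndex_left, ← h3, Nat.card_coe_set_eq, ← MulAction.index_stabilizer]
    refine congrArg index (Subgroup.ext fun x => ?_)
    rw [mem_subgroupOf, mem_cj, MulAction.mem_stabilizer_iff, MulAction.mem_stabilizer_iff, mul_smul, mul_smul, inv_smul_eq_iff]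
    rfl

theorem equiv_of_range {A : Type*} [Group A] [Finite A] (χ : A →* G) (h : χ.range = H) (hc : Nat.card H = Nat.card A) :
    Nonempty (H ≃* A) := by
  subst h; exact H09.nonempty_equiv_of_surjective _ χ.rangeRestrict_surjective hc

theorem Out.iso {t : ℕ} (h : Out H t) (hc : Nat.card H = 2 ^ t * 3) (t1 : 1 ≤ t) :
    Nonempty (H ≃* Equiv.Perm (Fin 3)) ∨ Nonempty (H ≃* DihedralGroup 6) ∨ Nonempty (H ≃* Equiv.Perm (Fin 4)) ∨
      Nonempty (H ≃* Equiv.Perm (Fin 4) × Multiplicative (ZMod 2)) := by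
  have k1 : ∀ (A : Type) [Group A], Nat.card A = Nat.card H → Nonempty (H ⧸ oddCore H ≃* A) → Nonempty (H ≃* A) :=
    fun A _ e ⟨φ⟩ => (H09.nonempty_equiv_of_surjective _ (QuotientGroup.mk'_surjective (oddCore H))
      ((Nat.card_congr φ.toEquiv).trans e)).elim fun ψ => ⟨ψ.symm.trans φ⟩
  rcases h with ⟨t2, a, ma, b, mb, x, mx, a2, b2, x2, c1, c2, ho, h1, hg⟩ | ⟨rfl, h⟩ | ⟨rfl, h⟩
  · have r3 : (a * b) ^ 3 = 1 := orderOf_dvd_iff_pow_eq_one.1 (((Nat.coprime_two_right.2 ho).pow_right t).dvd_of_dvd_mul_left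
      (hc ▸ orderOf_dvd_natCard _ (mul_mem ma mb)))
    have i1 := conj_mul_left a2 b2
    rcases (show t = 1 ∨ t = 2 by omega) with rfl | rfl
    · obtain ⟨χ, hχ⟩ := H09.exists_s3Hom r3 a2 i1
      have s1 : a ∈ closure {a * b, a} := Subgroup.subset_closure (by simp)
      refine Or.inl (equiv_of_range χ (hχ.trans (le_antisymm ((closure_le _).2 ?_) (hg _ s1 ((mul_mem_cancel_left s1).1
        (Subgroup.subset_closure (by simp))) (h1 rfl ▸ one_mem _)))) (by rw [hc, Nat.card_perm]; simp; rfl))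
      rintro _ (rfl | rfl)
      exacts [mul_mem ma mb, ma]
    · have c3 := c1.mul_left c2
      have x3 : (a * b * x) ^ 3 = x := by rw [c3.mul_pow, r3, one_mul, pow_succ, x2, one_mul]
      have r6 : (a * b * x) ^ 6 = 1 := by rw [show 6 = 3 * 2 from rfl, pow_mul, x3, x2]
      have i2 : a * (a * b * x) * a⁻¹ = (a * b * x)⁻¹ := by
        rw [c3.mul_inv, ← i1, inv_eq_of_mul_eq_one_left ((sq x).symm.trans x2), mul_assoc _ a⁻¹, c1.inv_left.eq]; group
      have s1 : a ∈ closure {a * b * x, a} := Subgroup.subset_closure (by simp)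
      have s2 : a * b * x ∈ closure {a * b * x, a} := Subgroup.subset_closure (by simp)
      have s3 : x ∈ closure {a * b * x, a} := by have := pow_mem s2 3; rwa [x3] at this
      refine Or.inr (Or.inl (equiv_of_range (dihedralHom r6 a2 i2) ((dihedralHom_range _ _ _).trans (le_antisymm
        ((closure_le _).2 ?_) (hg _ s1 ((mul_mem_cancel_left s1).1 ((mul_mem_cancel_right s3).1 s2)) s3)))
        (by rw [hc, DihedralGroup.nat_card]; rfl)))
      rintro _ (rfl | rfl)
      exacts [mul_mem (mul_mem ma mb) mx, ma]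
  · exact Or.inr (Or.inr (Or.inl (k1 _ (by rw [hc, Nat.card_perm]; simp; rfl) h)))
  · exact Or.inr (Or.inr (Or.inr (k1 _ (by rw [hc, Nat.card_prod, Nat.card_perm]; simp; rfl) h)))

end H05.Sims
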