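import Mathlib
import Cfsg.Agent.BG.Api4
import Cfsg.Agent.H22.FStar
import Cfsg.Agent.H22.SigLemH
import Cfsg.Agent.H26.FComm
import Cfsg.Agent.H16.Primitive
import Cfsg.Agent.H18.Prim

/-!
The Thompson–Wielandt theorem for two conjugate core-free maximal subgroups (namespace `H05`).
* `cor M Y` : the core in `M` of `M ⊓ Y`; `Pr M₁ M₂` : the set-up; `Pr.knapp`, `Pr.tw`
* `ChP p M` (`F*(M) = O_p(M)`), `ChP.fstar`, `ChP.normal`
* `orb2`, `relIndex_orb2` : the bound `d! ((d-1)!)^d`; `pr_stab`, `tw_perm`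
-/

set_option autoImplicit false

open BG Cfsg H22
open scoped commutatorElement

namespace H05

universe u
variable {G : Type u} [Group G] {p q : ℕ} {M M₁ M₂ N P S T X Y : Subgroup G}

/-- the largest subgroup of `M ⊓ Y` normal in `M` -/
def cor (M Y : Subgroup G) : Subgroup G where
  carrier := {x | x ∈ M ∧ ∀ m ∈ M, m * x * m⁻¹ ∈ Y}
  one_mem' := ⟨one_mem _, fun m _ => by simp⟩
  mul_mem' := fun {a b} ha hb => ⟨mul_mem ha.1 hb.1, fun m hm => by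
    have := mul_mem (ha.2 m hm) (hb.2 m hm)
    rwa [show m * a * m⁻¹ * (m * b * m⁻¹) = m * (a * b) * m⁻¹ by group] at this⟩
  inv_mem' := fun {a} ha => ⟨inv_mem ha.1, fun m hm => by
    have := inv_mem (ha.2 m hm)
    rwa [show (m * a * m⁻¹)⁻¹ = m * a⁻¹ * m⁻¹ by group] at this⟩

theorem mem_cor {x : G} : x ∈ cor M Y ↔ x ∈ M ∧ ∀ m ∈ M, m * x * m⁻¹ ∈ Y := Iff.rfl

theorem cor_le_left : cor M Y ≤ M := fun _ h => h.1

theorem cor_le_right : cor M Y ≤ Y := fun _ h => by simpa using h.2 1 (one_mem _)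

theorem le_norm_cor : M ≤ N_(cor M Y) := le_norm_iff.2 fun a ha k hk =>
  ⟨mul_mem (mul_mem ha hk.1) (inv_mem ha), fun m hm => by
    have := hk.2 (m * a) (mul_mem hm ha)
    rwa [show m * a * k * (m * a)⁻¹ = m * (a * k * a⁻¹) * m⁻¹ by group] at this⟩

theorem le_cor' (h1 : X ≤ M) (h : ∀ m ∈ M, cj m X ≤ Y) : X ≤ cor M Y :=
  fun _ hx => ⟨h1 hx, fun m hm => h m hm (conj_mem_cj m hx)⟩

theorem le_cor (h1 : X ≤ M) (h2 : X ≤ Y) (h : M ≤ N_(X)) : X ≤ cor M Y :=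
  le_cor' h1 fun _ hm => (cj_of_mem_norm (h hm)).le.trans h2

theorem cor_inf (M Y : Subgroup G) : cor M (M ⊓ Y) = cor M Y :=
  le_antisymm (le_cor cor_le_left (cor_le_right.trans inf_le_right) le_norm_cor)
    (le_cor cor_le_left (le_inf cor_le_left cor_le_right) le_norm_cor)

theorem cor_eq (M Y : Subgroup G) : (Y.subgroupOf M).normalCore.map M.subtype = cor M Y := by
  ext x
  constructor
  · rintro ⟨y, hy, rfl⟩
    exact ⟨y.2, fun m hm => hy ⟨m, hm⟩⟩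
  · intro hx
    exact ⟨⟨x, hx.1⟩, fun m => hx.2 m m.2, rfl⟩

theorem norm_res [Finite G] (hp : p.Prime) (hP : IsPGroup p P) (h1 : S ≤ T) (h2 : T ≤ N_(S)) (h3 : T ≤ N_(P))
    (h4 : P ≤ N_(T)) : P ≤ N_(pResidualOf p S) := by
  have := Fact.mk hp
  rw [← H26.pResidualOf_sup_eq (Q := P ⊓ T) (pg_le hP inf_le_left) (inf_le_right.trans h2)]
  refine H26.le_normalizer_pResidualOf' (le_norm_of_comm_le ?_)
  refine le_trans (comm_mono (sup_le inf_le_right h1) le_rfl) (le_trans ?_ le_sup_left)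
  exact le_inf (comm_le_right h3) (comm_le_left h4)

theorem layer_norm (h1 : S ≤ T) (h2 : T ≤ N_(S)) (h3 : T ≤ M) (h4 : M ≤ N_(T)) : layerOf M ≤ N_(S) := by
  refine H26.layerOf_le_iff.2 fun K hK => ?_
  rcases hK.le_or_comm ((H26.SubN.of_normal h3 h4).trans (H26.SubN.of_normal h1 h2)) with h | h
  · exact h.trans (le_norm _)
  · exact le_norm_of_cent (comm_eq_bot.1 h)

/-- `F*(M) = O_p(M)` -/
def ChP (p : ℕ) (M : Subgroup G) : Prop := layerOf M = ⊥ ∧ ∀ q : ℕ, q.Prime → q ≠ p → piCoreOf {q} M = ⊥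

theorem ChP.normal [Finite G] (h : ChP p M) (h1 : N ≤ M) (h2 : M ≤ N_(N)) : ChP p N :=
  ⟨eq_bot_mono h.1 (layerOf_le_layerOf_of_le_normalizer h1 h2), fun q hq e =>
    eq_bot_mono (h.2 q hq e) (pcore_le_of_norm _ h1 h2)⟩

theorem ChP.fstar [Finite G] (hp : p.Prime) (h : ChP p M) : generalizedFittingSubgroup M = pCore p M := by
  apply Subgroup.map_injective M.subtype_injective
  change fstarOf M = pCoreOf p M
  rw [fstarOf_eq, h.1, bot_sup_eq, ← H02.piCoreOf_singleton hp]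
  refine le_antisymm (fit_le_of_pcores fun s hs => ?_) (pcore_le_fit hp _)
  by_cases e : s = p
  · rw [e]
  · rw [h.2 s hs e]; exact bot_le

/-- two distinct conjugate primitive subgroups -/
structure Pr (M₁ M₂ : Subgroup G) : Prop where
  n1 : ∀ N : Subgroup G, N ≠ ⊥ → N ≤ M₁ → M₁ ≤ N_(N) → N_(N) ≤ M₁
  n2 : ∀ N : Subgroup G, N ≠ ⊥ → N ≤ M₂ → M₂ ≤ N_(N) → N_(N) ≤ M₂
  ne : M₁ ≠ M₂
  conj : ∃ g, M₂ = cj g M₁

theorem Pr.symm (h : Pr M₁ M₂) : Pr M₂ M₁ :=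
  ⟨h.n2, h.n1, h.ne.symm, by obtain ⟨g, e⟩ := h.conj; exact ⟨g⁻¹, by rw [e, cj_inv_cj]⟩⟩

theorem Pr.of_coatom (h : IsCoatom M₁) (hc : M₁.normalCore = ⊥) {g : G} (e : M₂ = cj g M₁) (hne : M₁ ≠ M₂) : Pr M₁ M₂ := by
  refine ⟨fun N h0 h1 h2 => (H16.corefree_normalizer_eq h hc h0 h1 h2).le, fun N h0 h1 h2 => ?_, hne, g, e⟩
  subst e
  rw [le_cj_iff, cj_norm]
  refine (H16.corefree_normalizer_eq h hc (by simpa using h0) (le_cj_iff.1 h1) ?_).le
  rwa [← cj_norm, ← cj_le_iff]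

theorem Pr.eq_bot (h : Pr M₁ M₂) (h1 : N ≤ M₁) (h2 : N ≤ M₂) (n1 : M₁ ≤ N_(N)) (n2 : M₂ ≤ N_(N)) : N = ⊥ := by
  by_contra h0
  exact h.ne (le_antisymm (n1.trans (h.n2 N h0 h2 n2)) (n2.trans (h.n1 N h0 h1 n1)))

theorem Pr.knapp [Finite G] (h : Pr M₁ M₂) (hp : p.Prime) (hn : M₂ ≤ N_(piCoreOf {p} (M₁ ⊓ M₂))) :
    piCoreOf {p} (M₁ ⊓ M₂) = ⊥ := by
  by_contra h0
  set P := piCoreOf {p} (M₁ ⊓ M₂) with hP
  have P1 : P ≤ M₁ := (pcore_le _ _).trans inf_le_left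
  have P2 : P ≤ M₂ := (pcore_le _ _).trans inf_le_right
  have hK : IsPGroup p ↥(piCoreOf {p} M₁ ⊔ P) := pg_sup (pcore_pg hp _) (pcore_pg hp _) (P1.trans (le_norm_pcore _ _))
  have e := nil_eq_of_norm_le (pg_nil hp hK) le_sup_right (le_trans (inf_le_inf_left _ (h.n2 P h0 P2 hn))
    (le_pcore_pg hp (pg_le hK inf_le_left) (inf_le_inf_right _ (sup_le (pcore_le _ _) P1))
      (norm_inf (norm_sup (inf_le_left.trans (le_norm_pcore _ _)) (le_norm_pcore _ _)) (inf_le_right.trans (le_norm _)))))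
  have h2 : P ≤ piCoreOf {p} M₂ := le_pcore_pg hp (pcore_pg hp _) P2 hn
  have h3 : piCoreOf {p} M₁ = piCoreOf {p} M₂ := by
    refine eq_of_le_of_card_eq ((le_sup_left.trans e.ge).trans h2) ?_
    obtain ⟨g, rfl⟩ := h.conj
    rw [pcore_cj, card_cj]
  exact h0 (eq_bot_mono (h.eq_bot (h3 ▸ pcore_le _ _) (pcore_le _ _) (h3 ▸ le_norm_pcore _ _) (le_norm_pcore _ _)) h2)

theorem Pr.knapp' [Finite G] (h : Pr M₁ M₂) (hp : p.Prime) (hn : piCoreOf {p} (M₁ ⊓ M₂) ≤ cor M₂ M₁) :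
    piCoreOf {p} (M₁ ⊓ M₂) = ⊥ := by
  refine h.knapp hp ?_
  rw [← inf_eq_left.2 hn, ← pcore_eq_inf _ (le_inf cor_le_right cor_le_left) (inf_le_right.trans le_norm_cor)]
  exact norm_pcore _ le_norm_cor

theorem Pr.le_of_res [Finite G] (h : Pr M₁ M₂) (hp : p.Prime) (h1 : S ≤ cor M₂ M₁) (h2 : M₁ ≤ N_(S))
    (h3 : ¬ IsPGroup p S) (hP : IsPGroup p P) (h4 : P ≤ M₂) (h5 : cor M₂ M₁ ≤ N_(P)) : P ≤ M₁ := by
  have := Fact.mk hp
  exact (norm_res hp hP h1 (cor_le_right.trans h2) h5 (h4.trans le_norm_cor)).trans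
    (h.n1 _ (fun e => h3 (H26.pResidualOf_eq_bot_iff.1 e)) ((H26.pResidualOf_le _).trans (h1.trans cor_le_right))
      (H26.le_normalizer_pResidualOf' h2))

theorem Pr.pcore_bot [Finite G] (h : Pr M₁ M₂) (hp : p.Prime) (h1 : S ≤ cor M₂ M₁) (h2 : M₁ ≤ N_(S))
    (h3 : ¬ IsPGroup p S) : piCoreOf {p} (M₁ ⊓ M₂) = ⊥ := by
  refine h.knapp' hp (le_cor' ((pcore_le _ _).trans inf_le_right) fun m hm => ?_)
  refine h.le_of_res hp h1 h2 h3 (isPGroup_cj.2 (pcore_pg hp _)) (cj_le_of_mem ((pcore_le _ _).trans inf_le_right) hm) ?_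
  rw [← cj_norm, ← cj_of_mem_norm (le_norm_cor hm), cj_le_cj_iff]
  exact (le_inf cor_le_right cor_le_left).trans (le_norm_pcore _ _)

theorem Pr.layer_eq (h : Pr M₁ M₂) (h1 : S ≤ cor M₂ M₁) (h2 : M₁ ≤ N_(S)) (h3 : S ≠ ⊥) :
    layerOf M₂ = layerOf (M₁ ⊓ M₂) := by
  have hN := h.n1 S h3 (h1.trans cor_le_right) h2
  refine le_antisymm (layerOf_le_layerOf_of_le inf_le_right (le_inf ?_ (layerOf_le _))) ?_
  · exact (layer_norm h1 (cor_le_right.trans h2) cor_le_left le_norm_cor).trans hN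
  · refine le_trans (layerOf_le_layerOf_of_le (le_inf cor_le_right cor_le_left) ?_)
      (layerOf_le_layerOf_of_le_normalizer cor_le_left le_norm_cor)
    refine le_cor' ((layerOf_le _).trans inf_le_right) fun m hm => ?_
    rw [cj_le_iff]
    refine le_trans (layer_norm (S := cj m⁻¹ S) (T := cor M₂ M₁) (cj_le_of_mem_norm h1 (le_norm_cor (inv_mem hm))) ?_
      (le_inf cor_le_right cor_le_left) (inf_le_right.trans le_norm_cor)) ?_
    · rw [← cj_norm, ← cj_le_iff, cj_of_mem_norm (le_norm_cor hm)]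
      exact cor_le_right.trans h2
    · rw [← cj_norm]; exact cj_mono _ hN

/-- Thompson–Wielandt -/
theorem Pr.tw [Finite G] (h : Pr M₁ M₂) (h1 : S ≤ cor M₂ M₁) (h2 : M₁ ≤ N_(S)) (h3 : S ≠ ⊥)
    (k1 : T ≤ cor M₁ M₂) (k2 : M₂ ≤ N_(T)) (k3 : T ≠ ⊥) :
    ∃ p : ℕ, p.Prime ∧ S ≤ piCoreOf {p} (M₁ ⊓ M₂) ∧ T ≤ piCoreOf {p} (M₁ ⊓ M₂) ∧ ChP p M₁ ∧ ChP p M₂ := by
  have e2 := h.layer_eq h1 h2 h3
  have e1 := h.symm.layer_eq k1 k2 k3
  rw [inf_comm] at e1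
  have e0 : layerOf (M₁ ⊓ M₂) = ⊥ := h.eq_bot ((layerOf_le _).trans inf_le_left) ((layerOf_le _).trans inf_le_right)
    (e1 ▸ (le_norm _).trans (normalizer_le_normalizer_layerOf _)) (e2 ▸ (le_norm _).trans (normalizer_le_normalizer_layerOf _))
  have hS : S ≤ M₁ ⊓ M₂ := h1.trans (le_inf cor_le_right cor_le_left)
  have hT : T ≤ M₁ ⊓ M₂ := k1.trans (le_inf cor_le_left cor_le_right)
  obtain ⟨p, hp, h0⟩ : ∃ p : ℕ, p.Prime ∧ piCoreOf {p} (M₁ ⊓ M₂) ≠ ⊥ := by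
    by_contra hno
    push Not at hno
    have b1 : fittingOf (M₁ ⊓ M₂) = ⊥ := le_bot_iff.1 (fit_le_of_pcores fun s hs => (hno s hs).le)
    have := inf_centralizer_fstarOf_le (M₁ ⊓ M₂)
    rw [fstarOf_eq, e0, b1, bot_sup_eq, cent_bot, inf_top_eq, le_bot_iff] at this
    exact h3 (eq_bot_mono this hS)
  have pS : IsPGroup p S := by_contra fun e => h0 (h.pcore_bot hp h1 h2 e)
  have pT : IsPGroup p T := by_contra fun e => h0 (by rw [inf_comm]; exact h.symm.pcore_bot hp k1 k2 e)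
  have nS : ∀ q : ℕ, q.Prime → q ≠ p → ¬ IsPGroup q S := fun q hq e hq' =>
    e (pg_prime_eq hp pS hq (pg_dvd hq hq' h3))
  have nT : ∀ q : ℕ, q.Prime → q ≠ p → ¬ IsPGroup q T := fun q hq e hq' =>
    e (pg_prime_eq hp pT hq (pg_dvd hq hq' k3))
  refine ⟨p, hp, le_pcore_pg hp pS hS (inf_le_left.trans h2), le_pcore_pg hp pT hT (inf_le_right.trans k2),
    ⟨e1.trans e0, fun q hq e => ?_⟩, e2.trans e0, fun q hq e => ?_⟩
  · refine eq_bot_mono (h.pcore_bot hq h1 h2 (nS q hq e)) (le_pcore_of_le inf_le_left le_rfl (le_inf (pcore_le _ _) ?_))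
    exact h.symm.le_of_res hq k1 k2 (nT q hq e) (pcore_pg hq _) (pcore_le _ _) (cor_le_left.trans (le_norm_pcore _ _))
  · refine eq_bot_mono (h.pcore_bot hq h1 h2 (nS q hq e)) (le_pcore_of_le inf_le_right le_rfl (le_inf ?_ (pcore_le _ _)))
    exact h.le_of_res hq h1 h2 (nS q hq e) (pcore_pg hq _) (pcore_le _ _) (cor_le_left.trans (le_norm_pcore _ _))

section perm
open MulAction
variable {Ω : Type*} [MulAction G Ω]

theorem relIndex_fix_dvd [Finite Ω] {ι : Type*} [Fintype ι] (H : Subgroup G) (S : ι → Set Ω)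
    (h : ∀ i, ∀ g ∈ H, ∀ x ∈ S i, g • x ∈ S i) :
    (⨅ i, fixingSubgroup G (S i)).relIndex H ∣ ∏ i, (S i).ncard.factorial := by
  classical
  let A : ι → SubMulAction H Ω := fun i => ⟨S i, fun g x hx => h i g g.2 x hx⟩
  let φ : H →* ∀ i, Equiv.Perm (A i) := MonoidHom.pi fun i => toPermHom H (A i)
  have hk : φ.ker = (⨅ i, fixingSubgroup G (S i)).subgroupOf H := by
    ext g
    simp only [MonoidHom.mem_ker, Subgroup.mem_subgroupOf, Subgroup.mem_iInf, mem_fixingSubgroup_iff]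
    refine ⟨fun e i x hx => ?_, fun e => funext fun i => Equiv.ext fun x => Subtype.ext (e i x x.2)⟩
    have := DFunLike.congr_fun (congrFun e i) (⟨x, hx⟩ : A i)
    exact congrArg Subtype.val this
  rw [Subgroup.relIndex, ← hk, Subgroup.index_ker]
  refine (Subgroup.card_subgroup_dvd_card _).trans (dvd_of_eq ?_)
  rw [Nat.card_pi]
  exact Finset.prod_congr rfl fun i _ => Nat.card_perm

/-- the elements fixing `x`, its `ρ`-successors and their `ρ`-predecessors -/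
def orb2 (G : Type u) {Ω : Type*} [Group G] [MulAction G Ω] (ρ : Ω → Ω → Prop) (x : Ω) : Subgroup G where
  carrier := {g | g • x = x ∧ ∀ y, ρ x y → g • y = y ∧ ∀ z, ρ z y → g • z = z}
  one_mem' := by simp
  mul_mem' := fun {a b} ha hb => ⟨by rw [mul_smul, hb.1, ha.1], fun y hy => ⟨by rw [mul_smul, (hb.2 y hy).1, (ha.2 y hy).1],
    fun z hz => by rw [mul_smul, (hb.2 y hy).2 z hz, (ha.2 y hy).2 z hz]⟩⟩
  inv_mem' := fun {a} ha => ⟨inv_smul_eq_iff.2 ha.1.symm, fun y hy => ⟨inv_smul_eq_iff.2 (ha.2 y hy).1.symm,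
    fun z hz => inv_smul_eq_iff.2 ((ha.2 y hy).2 z hz).symm⟩⟩

theorem norm_orb2 {ρ : Ω → Ω → Prop} (hρ : ∀ (g : G) x y, ρ x y → ρ (g • x) (g • y)) (x : Ω) :
    stabilizer G x ≤ N_(orb2 G ρ x) := by
  refine le_norm_iff.2 fun a ha k hk => ?_
  have ha' : a⁻¹ • x = x := inv_mem ha
  refine ⟨by rw [mul_smul, mul_smul, ha', hk.1]; exact ha, fun y hy => ?_⟩
  have := hk.2 (a⁻¹ • y) (ha' ▸ hρ a⁻¹ _ _ hy)
  exact ⟨by rw [mul_smul, mul_smul, this.1, smul_inv_smul],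
    fun z hz => by rw [mul_smul, mul_smul, this.2 _ (hρ a⁻¹ _ _ hz), smul_inv_smul]⟩

theorem orb2_le_cor {ρ : Ω → Ω → Prop} (hρ : ∀ (g : G) x y, ρ x y → ρ (g • x) (g • y)) {x y : Ω} (h : ρ x y) :
    orb2 G ρ x ≤ cor (stabilizer G y) (stabilizer G x) := fun k hk => ⟨(hk.2 y h).1, fun m hm => by
  have hm' : m⁻¹ • y = y := inv_mem hm
  rw [mem_stabilizer_iff, mul_smul, mul_smul, (hk.2 y h).2 _ (hm' ▸ hρ m⁻¹ _ _ h), smul_inv_smul]⟩

theorem relIndex_orb2 [Finite Ω] {ρ : Ω → Ω → Prop} (hρ : ∀ (g : G) x y, ρ x y → ρ (g • x) (g • y)) (x : Ω) {d : ℕ}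
    (h1 : {y | ρ x y}.ncard = d) (h2 : ∀ y, ρ x y → {z | ρ z y}.ncard = d) :
    (orb2 G ρ x).relIndex (stabilizer G x) ∣ d.factorial * (d - 1).factorial ^ d := by
  have := Fintype.ofFinite {y | ρ x y}
  have e1 := relIndex_fix_dvd (stabilizer G x) (fun _ : Unit => {y | ρ x y}) fun _ g hg y hy => by
    have := hρ g _ _ hy
    rwa [hg] at this
  have e2 := relIndex_fix_dvd (stabilizer G x ⊓ fixingSubgroup G {y | ρ x y}) (fun y : {y | ρ x y} => {z | ρ z y} \ {x})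
    fun y g hg z hz => ⟨by
      have := hρ g _ _ hz.1
      rwa [(mem_fixingSubgroup_iff G).1 hg.2 y y.2] at this, fun e => hz.2 (smul_left_cancel g (e.trans hg.1.symm))⟩
  rw [iInf_const, Finset.prod_const, Finset.card_univ, Fintype.card_unit, pow_one, h1, ← Subgroup.inf_relIndex_left] at e1
  rw [Finset.prod_congr rfl (g := fun _ => (d - 1).factorial) (fun y _ => by
    rw [← h2 y y.2, ← Set.ncard_sdiff_singleton_add_one (s := {z | ρ z y}) (a := x) y.2, Nat.add_sub_cancel]),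
    Finset.prod_const, Finset.card_univ, ← Nat.card_eq_fintype_card, Nat.card_coe_set_eq, h1,
    ← Subgroup.inf_relIndex_left] at e2
  have e3 : orb2 G ρ x = (stabilizer G x ⊓ fixingSubgroup G {y | ρ x y}) ⊓
      ⨅ y : {y | ρ x y}, fixingSubgroup G ({z | ρ z y} \ {x}) := by
    ext g
    simp only [Subgroup.mem_inf, Subgroup.mem_iInf, mem_fixingSubgroup_iff, mem_stabilizer_iff]
    refine ⟨fun hg => ⟨⟨hg.1, fun y hy => (hg.2 y hy).1⟩, fun y z hz => (hg.2 y y.2).2 z hz.1⟩,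
      fun hg => ⟨hg.1.1, fun y hy => ⟨hg.1.2 y hy, fun z hz => ?_⟩⟩⟩
    by_cases e : z = x
    · rw [e, hg.1.1]
    · exact hg.2 ⟨y, hy⟩ z ⟨hz, e⟩
  rw [e3, ← relIndex_mul inf_le_left inf_le_left, mul_comm]
  exact mul_dvd_mul e1 e2

theorem stab_smul (g : G) (a : Ω) : stabilizer G (g • a) = cj g (stabilizer G a) := by
  ext x; rw [mem_cj, mem_stabilizer_iff, mem_stabilizer_iff, mul_smul, mul_smul, inv_smul_eq_iff]

theorem pr_stab [FaithfulSMul G Ω] (hG : IsPreprimitive G Ω) {a b : Ω} (h : stabilizer G a ≠ stabilizer G b) :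
    Pr (stabilizer G a) (stabilizer G b) := by
  have := hG.toIsPretransitive
  have : Nontrivial Ω := ⟨a, b, fun e => h (e ▸ rfl)⟩
  obtain ⟨g, rfl⟩ := exists_smul_eq G a b
  exact Pr.of_coatom (IsPreprimitive.isCoatom_stabilizer_of_isPreprimitive G a) (H16.stabilizer_corefree a) (stab_smul g a) h

theorem stab_ne {a b : Ω} (h : 2 ≤ Nat.card (orbit (stabilizer G a) b)) : stabilizer G a ≠ stabilizer G b := by
  intro e
  have : orbit (stabilizer G a) b = {b} := by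
    ext y
    exact ⟨fun ⟨g, hg⟩ => hg ▸ (e ▸ g.2 : (g : G) ∈ stabilizer G b), fun hy => by rw [hy]; exact mem_orbit_self b⟩
  rw [this, Nat.card_unique] at h
  omega

theorem card_orbit_stab (a b : Ω) :
    Nat.card (orbit (stabilizer G a) b) = (stabilizer G a ⊓ stabilizer G b).relIndex (stabilizer G a) := by
  rw [Subgroup.inf_relIndex_left, Subgroup.relIndex, Nat.card_coe_set_eq, ← index_stabilizer]
  rfl

theorem card_orbit_symm [Finite G] [IsPretransitive G Ω] (a b : Ω) :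
    Nat.card (orbit (stabilizer G b) a) = Nat.card (orbit (stabilizer G a) b) := by
  have e1 := card_mul_relIndex (inf_le_left : stabilizer G a ⊓ stabilizer G b ≤ _)
  have e2 := card_mul_relIndex (inf_le_right : stabilizer G a ⊓ stabilizer G b ≤ _)
  rw [H18.card_stabilizer_eq_of_trans b a, ← e1] at e2
  rw [card_orbit_stab, card_orbit_stab, inf_comm]
  exact Nat.eq_of_mul_eq_mul_left (card_pos _) e2

/-- the orbital of `(a, b)` -/
def orbl (G : Type u) {Ω : Type*} [Group G] [MulAction G Ω] (a b x y : Ω) : Prop := ∃ g : G, g • a = x ∧ g • b = y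

theorem orbl_smul (a b : Ω) (g : G) (x y : Ω) (h : orbl G a b x y) : orbl G a b (g • x) (g • y) := by
  obtain ⟨k, rfl, rfl⟩ := h
  exact ⟨g * k, mul_smul _ _ _, mul_smul _ _ _⟩

theorem ncard_orbl (a b : Ω) (g : G) : {y | orbl G a b (g • a) y}.ncard = Nat.card (orbit (stabilizer G a) b) := by
  rw [Nat.card_coe_set_eq, ← Set.ncard_image_of_injective (orbit (stabilizer G a) b) (MulAction.injective g)]
  congr 1
  ext y
  constructor
  · rintro ⟨k, h1, rfl⟩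
    exact ⟨(g⁻¹ * k) • b, ⟨⟨g⁻¹ * k, by rw [mem_stabilizer_iff, mul_smul, h1, inv_smul_smul]⟩, rfl⟩, by simp [mul_smul]⟩
  · rintro ⟨z, hz, rfl⟩
    obtain ⟨k, rfl⟩ := hz
    exact ⟨g * k, by rw [mul_smul, k.2], mul_smul _ _ _⟩

theorem relIndex_orbl [Finite G] [Finite Ω] [IsPretransitive G Ω] (a b : Ω) {d : ℕ}
    (hd : Nat.card (orbit (stabilizer G a) b) = d) :
    (orb2 G (orbl G a b) a).relIndex (stabilizer G a) ∣ d.factorial * (d - 1).factorial ^ d := by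
  refine relIndex_orb2 (orbl_smul a b) a (by simpa [hd] using ncard_orbl a b (1 : G)) ?_
  rintro _ ⟨g, -, rfl⟩
  rw [← hd, ← card_orbit_symm, ← ncard_orbl b a g]
  congr 1
  ext z
  exact ⟨fun ⟨k, h1, h2⟩ => ⟨k, h2, h1⟩, fun ⟨k, h1, h2⟩ => ⟨k, h2, h1⟩⟩

theorem tw_perm [Finite G] [Finite Ω] [FaithfulSMul G Ω] (hG : IsPreprimitive G Ω) (a b : Ω) {d : ℕ}
    (hd : Nat.card (orbit (stabilizer G a) b) = d) (h2 : 2 ≤ d) :
    Nat.card (stabilizer G a) ∣ d.factorial * (d - 1).factorial ^ d ∨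
    ∃ p : ℕ, p.Prime ∧ ChP p (stabilizer G a) ∧ orb2 G (orbl G a b) a ≠ ⊥ ∧
      orb2 G (orbl G a b) a ≤ piCoreOf {p} (stabilizer G a ⊓ stabilizer G b) := by
  have := hG.toIsPretransitive
  by_cases h0 : orb2 G (orbl G a b) a = ⊥
  · left
    simpa [h0] using relIndex_orbl a b hd
  by_cases h1 : orb2 G (orbl G b a) b = ⊥
  · left
    rw [H18.card_stabilizer_eq_of_trans a b]
    simpa [h1] using relIndex_orbl b a ((card_orbit_symm a b).trans hd)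
  obtain ⟨p, hp, k1, -, k2, -⟩ := (pr_stab hG (stab_ne (hd ▸ h2))).tw
    (orb2_le_cor (orbl_smul a b) ⟨1, one_smul _ _, one_smul _ _⟩) (norm_orb2 (orbl_smul a b) a) h0
    (orb2_le_cor (orbl_smul b a) ⟨1, one_smul _ _, one_smul _ _⟩) (norm_orb2 (orbl_smul b a) b) h1
  exact Or.inr ⟨p, hp, k2, h0, k1⟩

end perm

end H05
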