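import Mathlib

/-! Part Z1 of S5563 (core): the central involution lies in the commutator subgroup. -/

set_option autoImplicit false

open Subgroup

namespace H05.TZ

universe u

theorem core {G : Type u} [Group G] {S : Type} [Group S] (pf : commutator S = ⊤) {X W : Subgroup G} {D : Set G} {z δ : G}
    (θ : X →* S) (su : Function.Surjective θ) (ker : ∀ x, θ x = 1 → ∃ i j : ℕ, (x : G) = z ^ i * δ ^ j) (dc : δ ∈ ⁅X, X⁆)
    (WX : W ≤ X) (zW : z ∈ W) (sq : ∀ x ∈ W, x * x = 1) (D1 : 1 ∉ D) (zD : z ∉ D)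
    (tr : ∀ x ∈ W, x ∈ D → ∀ y ∈ W, y ∈ D → y * z ∉ D → ∃ c ∈ X, c * x * c⁻¹ = y)
    (ex : ∀ x ∈ W, x ≠ 1 → x ≠ z → (x ∈ D ↔ x * z ∉ D))
    (p1 : ∃ s ∈ D, s ∈ W ∧ ∃ t ∈ D, t ∈ W ∧ s ≠ t ∧ s * t ∉ D) (p2 : ∃ s ∈ D, s ∈ W ∧ ∃ t ∈ D, t ∈ W ∧ s * t ∈ D) :
    z ∈ ⁅X, X⁆ := by
  by_contra hz
  set L := ⁅X, X⁆ with hL
  have mp : (commutator X).map X.subtype = L := by rw [commutator_def, map_commutator, ← MonoidHom.range_eq_map, X.range_subtype]
  have cj : ∀ c ∈ X, ∀ x ∈ L, c * x * c⁻¹ ∈ L := fun c hc x hx => by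
    obtain ⟨y, hy, rfl⟩ := mp.ge hx
    exact mp.le ⟨_, (inferInstance : (commutator X).Normal).conj_mem y hy ⟨c, hc⟩, rfl⟩
  have z2 := sq z zW
  have two : ∀ x ∈ X, x ∈ L ∨ x * z ∈ L := fun x hx => by
    have : θ ⟨x, hx⟩ ∈ (commutator X).map θ := by
      rw [commutator_def, map_commutator, ← MonoidHom.range_eq_map, MonoidHom.range_eq_top.2 su]; exact pf.ge (mem_top _)
    obtain ⟨c, hc, e⟩ := this
    obtain ⟨i, j, h⟩ := ker (⟨x, hx⟩ * c⁻¹) (by simp [e])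
    have h1 : x = z ^ i * (δ ^ j * c) := by rw [← mul_assoc, ← h]; simp
    have h2 : δ ^ j * (c : G) ∈ L := mul_mem (pow_mem dc j) (mp.le ⟨c, hc, rfl⟩)
    rcases Nat.even_or_odd' i with ⟨k, rfl | rfl⟩
    · left; rwa [h1, pow_mul, pow_two, z2, one_pow, one_mul]
    · right
      have := cj z (WX zW) _ h2
      rw [inv_eq_of_mul_eq_one_right z2] at this
      rwa [h1, pow_succ, pow_mul, pow_two, z2, one_pow, one_mul]
  have dz : ∀ x ∈ W, x ∈ D → x * z ∉ D := fun x hx h => (ex x hx (fun e => D1 (e ▸ h)) fun e => zD (e ▸ h)).1 h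
  have sm : ∀ x ∈ W, x ∈ D → ∀ y ∈ W, y ∈ D → x ∈ L → y ∈ L := fun x hx xD y hy yD h => by
    obtain ⟨c, hc, rfl⟩ := tr x hx xD y hy yD (dz y hy yD)
    exact cj c hc x h
  have cm : ∀ x ∈ W, ∀ y ∈ W, x * y = y * x := fun x hx y hy => by
    rw [← inv_eq_of_mul_eq_one_right (sq _ (mul_mem hx hy)), mul_inv_rev, inv_eq_of_mul_eq_one_right (sq x hx),
      inv_eq_of_mul_eq_one_right (sq y hy)]
  have pr : ∀ x ∈ W, x ∈ D → ∀ y ∈ W, y ∈ D → x * y ∈ L := fun x hx xD y hy yD => by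
    by_cases h : x ∈ L
    · exact mul_mem h (sm x hx xD y hy yD h)
    · have := mul_mem ((two x (WX hx)).resolve_left h) ((two y (WX hy)).resolve_left fun h' => h (sm y hy yD x hx xD h'))
      rwa [← cm z zW y hy, mul_assoc, ← mul_assoc z, z2, one_mul] at this
  obtain ⟨s, sD, sW, t, tD, tW, st, n⟩ := p1
  obtain ⟨s', sD', sW', t', tD', tW', n'⟩ := p2
  have h1 : s * t * z ∈ D := by
    by_contra h
    refine n ((ex _ (mul_mem sW tW) (fun e => st ?_) fun e => dz s sW sD ?_).2 h)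
    · rw [← inv_eq_of_mul_eq_one_right e, inv_eq_of_mul_eq_one_right (sq s sW)]
    · rwa [← e, ← mul_assoc, sq s sW, one_mul]
  exact hz ((mul_mem_cancel_left (pr s sW sD t tW tD)).1
    (sm _ (mul_mem sW' tW') n' _ (mul_mem (mul_mem sW tW) zW) h1 (pr s' sW' sD' t' tW' tD')))

end H05.TZ
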