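import Cfsg.Agent.H28.Tw0
import Cfsg.Agent.S0256

/-! Part D of the `²E₆(2)` cluster: the Levi factor of type `A₃` over the prime field is `A₈` (`H05.TwD.d`). -/

set_option autoImplicit false

open H11 Cfsg Cfsg.Lie StSys H11.EG H28.Tw Matrix Matrix.SpecialLinearGroup

namespace H05.TwD

theorem ac3 : AC (D := chevE6) (m := 1) J3 (![2, 3, 4] : Fin 3 → Fin 6)
    (fun a i => ((![[-1, -1, 1, 0, 1, -1], [0, -1, -1, 1, 1, -1], [0, 0, 0, -1, 2, -1], [0, 0, 0, 0, 0, 0]] :
      Fin 4 → List ℤ) a).getD i 0) :=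
  ⟨show ∀ i : Fin 6, (i.1 = 2 ∨ i.1 = 3 ∨ i.1 = 4) ↔ ∃ a : Fin 3, (![2, 3, 4] : Fin 3 → Fin 6) a = i by decide,
    by decide +kernel, by decide +kernel⟩

theorem cen : Subgroup.center (SpecialLinearGroup (Fin 4) (ZMod 2)) = ⊥ := by
  rw [eq_bot_iff]
  intro A hA
  obtain ⟨r, h1, h2⟩ := mem_center_iff.1 hA
  have : r = 1 := by
    rw [Fintype.card_fin] at h1
    exact (by decide : ∀ r : ZMod 2, r ^ 4 = 1 → r = 1) r h1
  rw [Subgroup.mem_bot]
  apply Subtype.ext
  rw [← h2, this, map_one]; rfl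

theorem sl_alt : Nonempty (alternatingGroup (Fin 8) ≃* SpecialLinearGroup (Fin 4) (ZMod 2)) := by
  obtain ⟨e⟩ := Cfsg.Agent.S0256.result (F := ZMod 2) (by simp)
  exact ⟨e.symm.trans ((QuotientGroup.quotientMulEquivOfEq cen).trans QuotientGroup.quotientBot)⟩

universe u

theorem d : DStmt.{u} := by
  intro Ω _ _
  have h := ac3
  have : Nonempty (Root chevE6) := ⟨sroot (0 : Fin 6)⟩
  choose! ρ hρ using fun a b (e : a ≠ b) => h.ex e
  have hs : ∀ r, InJ J3 r → ∃ a b, a ≠ b ∧ ρ a b = r := fun r hr => by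
    obtain ⟨a, b, e, h1⟩ := h.surj hr
    exact ⟨a, b, e, wt_injective ((hρ a b e).2.1.trans h1.2.1.symm)⟩
  obtain ⟨φ, s, hφ⟩ := exists_phi (S := sgSys chevE6 (ZMod 2)) h (hρ _ _)
  obtain ⟨f, hf⟩ := exists_sgMor (D := chevE6) (hMul_sg (K := Ω)) (ZMod.castHom (dvd_refl 2) Ω)
  have hs1 : ∀ c : (ZMod 2)ˣ, (c : ZMod 2) = 1 := by decide
  have key : ∀ a b (e : a ≠ b) t, (f.comp φ) (transvection e t) =
      (sgSys chevE6 Ω).x (ρ a b) (ZMod.castHom (dvd_refl 2) Ω t) := fun a b e t => by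
    rw [MonoidHom.comp_apply, hφ, hs1, one_mul, hf]
  obtain ⟨e⟩ := sl_alt
  have hsimp : IsSimpleGroup (alternatingGroup (Fin 8)) := alternatingGroup.isSimpleGroup (by simp)
  refine ⟨(f.comp φ).comp e.toMonoidHom, ?_, ?_⟩
  · rw [← MonoidHom.ker_eq_bot_iff]
    refine (MonoidHom.normal_ker _).eq_bot_or_eq_top.resolve_right fun ht => ?_
    have h01 : (0 : Fin 4) ≠ 1 := by decide
    have : e.symm (transvection h01 1) ∈ ((f.comp φ).comp e.toMonoidHom).ker := ht ▸ Subgroup.mem_top _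
    rw [MonoidHom.mem_ker, MonoidHom.comp_apply, MulEquiv.coe_toMonoidHom, MulEquiv.apply_symm_apply, key, map_one] at this
    exact one_ne_zero (x_eq_one (S := sgSys chevE6 Ω) (by rw [this, map_one]))
  · apply le_antisymm
    · rintro _ ⟨g, rfl⟩
      rw [MonoidHom.comp_apply]
      generalize e.toMonoidHom g = A
      induction A using H09.SL_transvection_induction with
      | h1 => rw [map_one]; exact one_mem _
      | htransvec a b hab c =>
        rw [key]
        have : c = 0 ∨ c = 1 := by revert c; decide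
        rcases this with rfl | rfl
        · rw [map_zero, StSys.x_zero]; exact one_mem _
        · rw [map_one]; exact Subgroup.subset_closure ⟨_, (hρ a b hab).1, rfl⟩
      | hmul A B hA hB => rw [map_mul]; exact mul_mem hA hB
    · refine (Subgroup.closure_le _).2 ?_
      rintro _ ⟨r, hr, rfl⟩
      obtain ⟨a, b, hab, rfl⟩ := hs r hr
      refine ⟨e.symm (transvection hab 1), ?_⟩
      rw [MonoidHom.comp_apply, MulEquiv.coe_toMonoidHom, MulEquiv.apply_symm_apply, key, map_one]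

end H05.TwD
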