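import Mathlib
import Cfsg.Agent.H05.Cov
import Cfsg.Agent.H05.Basic
import Cfsg.Agent.H05.Plane3
import Cfsg.Agent.H06.Clifford
import Cfsg.Agent.H06.Monomial
import Cfsg.Agent.H01.Basic
import Cfsg.Agent.H01.Coprime2
import Cfsg.Agent.H02.FrobCompl
import Cfsg.Agent.H02.PPrimeCore
import Cfsg.Agent.H03.PResidual
import Cfsg.Agent.H17.Constr
import Cfsg.Agent.H27.ClassSize

/-!
Vanishing `p`-singular elements of solvable groups.
* `H05.Van.avoid_ab` : `H05.Cov.avoid` for any `p` when `⟨a^G⟩` is abelian.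
* `H05.Van.van` : `x ∈ O_{p',p}`-type `p`-element not centralizing `K`, `x ∈ ⟨g⟩` ⇒ `g` is vanishing.
* `H05.Van.card_le` : all vanishing `p`-singular elements have one order ⇒ `|P O_p/O_p| ≤ p`.
-/

set_option autoImplicit false
open Subgroup Cfsg H05

namespace H05.Van
open H05.Cov

universe u

theorem faith_ab {V G : Type*} [CommGroup V] [Group G] (φ : G →* MulAut V) [Finite G] [Finite V] {p : ℕ} [hp : Fact p.Prime]
    {a : G} (hV : p.Coprime (Nat.card V)) (ih : IH φ a) (hi : Function.Injective φ)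
    (hP : IsPGroup p (normalClosure {a})) (hc : ∀ x ∈ normalClosure {a}, ∀ y ∈ normalClosure {a}, Commute x y)
    (a1 : φ a ≠ 1) : ∃ v, ∀ g : G, φ (g * a * g⁻¹) v ≠ v := by
  by_contra H
  set P := normalClosure ({a} : Set G) with hPd
  have aP : a ∈ P := subset_normalClosure rfl
  have F2 : ∀ x ∈ P, x ≠ 1 → ∀ u, φ x u = u → u = 1 := fun x hx x1 u hu => by
    by_contra u1
    refine H (step1 φ hV ih hP aP a1 u1 fun b hb => ?_)
    refine (closure_le ((MulAction.stabilizer (MulAut V) u).comap φ)).2 (fun c hc' => ?_) hb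
    obtain ⟨a', ha', hc''⟩ := Group.mem_conjugatesOfSet_iff.1 hc'
    rw [Set.mem_singleton_iff.1 ha'] at hc''
    obtain ⟨g, rfl⟩ := isConj_iff.1 hc''
    by_contra h
    refine H (step2 φ hV ih hi hP hc (hc a aP) (Normal.conj_mem inferInstance x hx g⁻¹) (fun e => x1 (conj_eq_one_iff.1 e))
      (conj_fix φ hu) fun e => h ?_)
    have := conj_fix φ (g := g) e
    rwa [ap_inv] at this
  obtain ⟨v, hv⟩ : ∃ v, φ a v ≠ v := by
    by_contra! h; exact a1 (MulEquiv.ext h)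
  refine H ⟨v, fun g e => hv ?_⟩
  rw [F2 _ (Normal.conj_mem inferInstance a aP g) (fun e => a1 (by rw [conj_eq_one_iff.1 e, map_one])) v e, map_one]

theorem avoid_ab {p : ℕ} [Fact p.Prime] (n : ℕ) : ∀ (V G : Type u) [CommGroup V] [Finite V] [Group G] [Finite G]
    (φ : G →* MulAut V) (a : G), Nat.card V = n → p.Coprime (Nat.card V) → IsPGroup p (normalClosure {a}) →
    (∀ x ∈ normalClosure {a}, ∀ y ∈ normalClosure {a}, Commute x y) → φ a ≠ 1 →
    ∃ v, ∀ g : G, φ (g * a * g⁻¹) v ≠ v := by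
  induction n using Nat.strong_induction_on with | _ n ih => ?_
  intro V G _ _ _ _ φ a hn hV hP hc a1
  have e : normalClosure {φ.rangeRestrict a} = (normalClosure {a}).map φ.rangeRestrict := by
    rw [← Set.image_singleton, ← map_normalClosure _ _ φ.rangeRestrict_surjective]
  have hP' : IsPGroup p (normalClosure {φ.rangeRestrict a}) := e ▸ hP.map _
  have hc' : ∀ x ∈ normalClosure {φ.rangeRestrict a}, ∀ y ∈ normalClosure {φ.rangeRestrict a}, Commute x y := by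
    rw [e]; rintro _ ⟨x, hx, rfl⟩ _ ⟨y, hy, rfl⟩; exact (hc x hx y hy).map _
  refine (faith_ab φ.range.subtype hV (fun N W hW ha h ⟨w, hw, aw⟩ => ?_) φ.range.subtype_injective hP' hc' a1).imp
    fun v hv g => by simpa using hv (φ.rangeRestrict g)
  have hle : normalClosure {(⟨_, ha⟩ : N)} ≤ (normalClosure {φ.rangeRestrict a}).comap N.subtype :=
    normalClosure_le_normal (Set.singleton_subset_iff.2 (subset_normalClosure rfl))
  obtain ⟨w, hw⟩ := ih _ (hn ▸ Finite.card_subtype_lt (p := (· ∈ W)) (x := (not_forall.1 fun h => hW ((eq_top_iff' W).2 h)).choose) (not_forall.1 fun h => hW ((eq_top_iff' W).2 h)).choose_spec) W N (Cov.res _ N W h) ⟨_, ha⟩ rfl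
    (hV.coprime_dvd_right W.card_subgroup_dvd_card) (hP'.comap_subtype.to_le hle)
    (fun x hx y hy => Subtype.ext (hc' _ (hle hx) _ (hle hy)).eq)
    fun e => aw (by exact congrArg Subtype.val (DFunLike.congr_fun e (⟨w, hw⟩ : W)))
  exact ⟨w, w.2, fun g hg e => hw ⟨g, hg⟩ (Subtype.ext e)⟩

theorem fix_zpow {V G : Type*} [CommGroup V] [Group G] (φ : G →* MulAut V) {g : G} {v : V} (h : φ g v = v) (i : ℤ) :
    φ (g ^ i) v = v := zpow_mem (K := (MulAction.stabilizer (MulAut V) v).comap φ) h i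

/-- the action on the dual of a normal subgroup -/
def dual {G : Type*} [Group G] (V : Subgroup G) [V.Normal] : G →* MulAut (V →* ℂˣ) where
  toFun g :=
    { toFun := fun l => l.comp (MulAut.conjNormal (H := V) g⁻¹).toMonoidHom
      invFun := fun l => l.comp (MulAut.conjNormal (H := V) g).toMonoidHom
      left_inv := fun l => by ext v; simp
      right_inv := fun l => by ext v; simp
      map_mul' := fun l m => by ext v; simp }
  map_one' := by ext l v; simp
  map_mul' x y := by ext l v; simp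

theorem dual_ap {G : Type*} [Group G] (V : Subgroup G) [V.Normal] (g : G) (l : V →* ℂˣ) (v : V) :
    dual V g l v = l (MulAut.conjNormal (H := V) g⁻¹ v) := rfl

theorem van0 {G : Type*} [Group G] [Finite G] (V : Subgroup G) [hV : V.Normal] (l : V →* ℂˣ) {g : G}
    (h : ∀ y : G, dual V (y * g * y⁻¹) l ≠ l) : ∃ χ, IsIrrCharacter G χ ∧ χ g = 0 := by
  classical
  have := Fintype.ofFinite G
  have hl := H05.isIrrCharacter_monoidHom l
  obtain ⟨χ, hχ, h1⟩ := H06.exists_irr_over V hl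
  obtain ⟨ψ, -, e, -⟩ := H06.clifford_corr_surj V (H06.inertia V fun v => (l v : ℂ)) (H06.le_inertia V hl.isClassFunction) hl rfl hχ h1
  refine ⟨χ, hχ, e ▸ H06.indFun_eq_zero_of_forall _ ψ g fun x hx => absurd ?_ (h x⁻¹)⟩
  ext v
  have := (H06.mem_inertia' V).1 (inv_mem hx) v
  rw [dual_ap, ← this]
  congr 2
  ext
  simp [mul_assoc]

theorem van {p : ℕ} [hp : Fact p.Prime] (n : ℕ) : ∀ (G : Type u) [Group G] [Finite G] [Group.IsSolvable G] (K M : Subgroup G)
    [K.Normal] [M.Normal] (x g : G), Nat.card G = n → (Nat.card K).Coprime p → (∀ m ∈ M, ∃ k, m ^ p ^ k ∈ K) →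
    (p ≠ 2 ∨ ∀ a ∈ M, ∀ b ∈ M, a * b * a⁻¹ * b⁻¹ ∈ K) → x ∈ M → (∃ k, x ^ p ^ k = 1) → x ∉ centralizer (K : Set G) →
    x ∈ zpowers g → ∃ χ, IsIrrCharacter G χ ∧ χ g = 0 := by
  induction n using Nat.strong_induction_on with | _ n ih => ?_
  intro G _ _ _ K M _ _ x g hn hK hM h2 xM ⟨k, xp⟩ xC xg
  obtain ⟨V, hVn, VK, V1, hc⟩ := H01.exists_abelian_normal_le K (by rintro rfl; exact xC (by simp [mem_centralizer_iff]))
  let π := QuotientGroup.mk' V
  have πs : Function.Surjective π := QuotientGroup.mk'_surjective V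
  have Kn : (K.map π).Normal := Normal.map inferInstance π πs
  have Mn : (M.map π).Normal := Normal.map inferInstance π πs
  have hK' : (Nat.card (K.map π)).Coprime p := hK.coprime_dvd_left (card_map_dvd K π)
  by_cases xC' : π x ∈ centralizer (K.map π : Set (G ⧸ V))
  swap
  · obtain ⟨χ, hχ, e⟩ := ih _ (by
      rw [← hn, card_eq_card_quotient_mul_card_subgroup V]
      exact lt_mul_of_one_lt_right Nat.card_pos ((one_lt_card_iff_ne_bot V).2 V1)) (G ⧸ V) (K.map π) (M.map π) (π x) (π g) rfl hK'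
      (by rintro _ ⟨m, hm, rfl⟩; obtain ⟨k, hk⟩ := hM m hm; exact ⟨k, _, hk, map_pow _ _ _⟩)
      (h2.imp_right fun h => by rintro _ ⟨a, ha, rfl⟩ _ ⟨b, hb, rfl⟩; exact ⟨_, h a ha b hb, by simp⟩)
      ⟨x, xM, rfl⟩ ⟨k, by rw [← map_pow, xp, map_one]⟩ xC' (by rw [← MonoidHom.map_zpowers]; exact ⟨x, xg, rfl⟩)
    exact ⟨_, hχ.inflate V, e⟩
  have xP : IsPGroup p (zpowers x) := IsPGroup.of_card (n := (Nat.card (zpowers x)).factorization p) (by
    obtain ⟨i, -, hi⟩ := (Nat.dvd_prime_pow hp.out).1 (orderOf_dvd_of_pow_eq_one xp)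
    rw [Nat.card_zpowers, hi]; simp [hp.out])
  have cop : p.Coprime (Nat.card V) := (hK.coprime_dvd_left (card_dvd_of_le VK)).symm
  have xV : x ∉ centralizer (V : Set G) := fun h => by
    obtain ⟨i, hi⟩ := xP.exists_card_eq
    refine xC (H01.le_centralizer_of_commutator_le (A := zpowers x) (K := K) (N := V) (hi ▸ cop.pow_left i) ?_ (zpowers_le.2 h)
      (mem_zpowers x))
    rw [← QuotientGroup.ker_mk' V, ← Subgroup.map_eq_bot_iff, map_commutator, commutator_comm, commutator_eq_bot_iff_le_centralizer,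
      MonoidHom.map_zpowers, zpowers_le]
    exact xC'
  let N := M.map π ⊓ centralizer (K.map π : Set (G ⧸ V))
  let ρ := QuotientGroup.mk' (K.map π)
  have hN : Group.IsNilpotent N := by
    have hq : IsPGroup p ((M.map π).map ρ) := by
      rintro ⟨_, _, ⟨m, hm, rfl⟩, rfl⟩
      obtain ⟨k, hk⟩ := hM m hm
      exact ⟨k, Subtype.ext (by
        change ρ (π m) ^ p ^ k = 1
        rw [← map_pow, ← map_pow]; exact (QuotientGroup.eq_one_iff _).2 ⟨_, hk, rfl⟩)⟩
    have := hq.isNilpotent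
    exact Subgroup.isNilpotent_of_ker_le_center
      ((ρ.comp N.subtype).codRestrict ((M.map π).map ρ) fun y => ⟨_, y.2.1, rfl⟩) (fun y hy =>
        mem_center_iff.2 fun z => Subtype.ext (z.2.2 y ((QuotientGroup.eq_one_iff _).1 (congrArg Subtype.val hy))).symm)
  have h1 : π x ∈ pCore p (G ⧸ V) := H02.le_pCore_of_le_fitting hp.out (P := zpowers (π x))
    (by rw [← MonoidHom.map_zpowers]; exact xP.map π)
    ((zpowers_le.2 (show π x ∈ N from ⟨⟨x, xM, rfl⟩, xC'⟩)).trans (H02.le_fitting hN)) (mem_zpowers _)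
  letI : CommGroup V := IsMulCommutative.instCommGroup
  let φ : G ⧸ V →* MulAut (V →* ℂˣ) := QuotientGroup.lift V (dual V) fun v hv => by
    ext l w
    rw [dual_ap]
    congr 2
    ext
    simpa using mul_inv_eq_iff_eq_mul.2 (congrArg Subtype.val (hc.is_comm.comm ⟨_, inv_mem hv⟩ w))
  have hle : normalClosure {π x} ≤ pCore p (G ⧸ V) ⊓ M.map π :=
    normalClosure_le_normal (Set.singleton_subset_iff.2 ⟨h1, x, xM, rfl⟩)
  have hP : IsPGroup p (normalClosure {π x}) := (H02.pCore_isPGroup (p := p) (G := G ⧸ V)).to_le (hle.trans inf_le_left)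
  have e := (CommGroup.monoidHom_mulEquiv_of_hasEnoughRootsOfUnity V ℂ).some
  have : Finite (V →* ℂˣ) := Finite.of_equiv _ e.symm.toEquiv
  have cop' : p.Coprime (Nat.card (V →* ℂˣ)) := Nat.card_congr e.toEquiv ▸ cop
  have a1 : φ (π x) ≠ 1 := fun h => xV fun v hv => by
    by_contra hne
    obtain ⟨l, hl⟩ := CommGroup.exists_apply_ne_one_of_hasEnoughRootsOfUnity V ℂ
      (a := MulAut.conjNormal (H := V) x⁻¹ ⟨v, hv⟩ / ⟨v, hv⟩) fun e => hne (by
        have := congrArg Subtype.val (div_eq_one.1 e)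
        simp only [MulAut.conjNormal_apply, inv_inv] at this
        rw [← inv_mul_eq_iff_eq_mul, ← mul_assoc, this])
    exact hl (by rw [map_div, div_eq_one]; exact DFunLike.congr_fun (DFunLike.congr_fun h l) ⟨v, hv⟩)
  obtain ⟨l, hl⟩ : ∃ l, ∀ y, φ (y * π x * y⁻¹) l ≠ l := by
    rcases h2 with h2 | h2
    · exact avoid h2 _ _ _ φ (π x) rfl cop' hP a1
    refine avoid_ab _ _ _ φ (π x) rfl cop' hP (fun a ha b hb => ?_) a1
    obtain ⟨ha1, a, ha', rfl⟩ := mem_inf.1 (hle ha)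
    obtain ⟨hb1, b, hb', rfl⟩ := mem_inf.1 (hle hb)
    have : π a * π b * (π a)⁻¹ * (π b)⁻¹ ∈ pCore p (G ⧸ V) ⊓ pPrimeCore p (G ⧸ V) :=
      mem_inf.2 ⟨mul_mem (mul_mem (mul_mem ha1 hb1) (inv_mem ha1)) (inv_mem hb1), H02.le_pPrimeCore hK' ⟨_, h2 a ha' b hb', by simp⟩⟩
    rwa [H02.pCore_inf_pPrimeCore, mem_bot, mul_inv_eq_one, mul_inv_eq_iff_eq_mul] at this
  refine van0 V l fun y e => hl (π y) ?_
  obtain ⟨i, rfl⟩ := xg
  have := fix_zpow (V := V →* ℂˣ) (dual V) (g := y * g * y⁻¹) (v := l) e i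
  rw [conj_zpow] at this
  exact this

theorem pw_of {G : Type*} [Group G] {a c : G} {p i j : ℕ} (ac : Commute a c) (hj : a ^ p ^ j = 1) (hi : (a * c) ^ p ^ i = 1) :
    c ^ p ^ (i + j) = 1 := by
  have : (a * c) ^ p ^ (i + j) = 1 := by rw [pow_add, pow_mul, hi, one_pow]
  rwa [ac.mul_pow, add_comm i j, pow_add, pow_mul a, hj, one_pow, one_mul, ← pow_add, add_comm] at this

theorem le_center {Q : Type*} [Group Q] [Finite Q] {p : ℕ} [hp : Fact p.Prime] (hQ : IsPGroup p Q) (E : Subgroup Q) [E.Normal]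
    (h : Nat.card E ≤ p) : E ≤ center Q := by
  obtain ⟨i, hi⟩ := (hQ.to_subgroup E).exists_card_eq
  rcases i with _ | i
  · rw [card_eq_one.1 hi]; exact bot_le
  · exact H04.le_center_of_card_eq hQ E (le_antisymm h (hi ▸ Nat.le_self_pow (Nat.succ_ne_zero i) p))

theorem core {p : ℕ} [hp : Fact p.Prime] {H : Type*} [Group H] [Finite H] [Group.IsSolvable H] (hO : pPrimeCore p H = ⊥)
    (V : H → Prop) (h1 : ∀ A : Subgroup H, A.Normal → IsPGroup p A → (p ≠ 2 ∨ ∀ a ∈ A, ∀ b ∈ A, Commute a b) → ∀ x ∈ A, x ≠ 1 →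
      ∀ h, x ∈ zpowers h → V h) (h2 : ∀ h, V h → ∃ k, h ^ p ^ k = 1)
    (h3 : ∀ E : Subgroup H, IsMulCommutative E → IsPGroup p E → (∀ x ∈ E, x ≠ 1 → V x) → Nat.card E ≤ p)
    {T : Subgroup H} (hT : IsPGroup p T) : Nat.card T ≤ p := by
  have hC := H17.centralizer_pCore_le_of_solvable hO
  have hQ := H02.pCore_isPGroup (p := p) (G := H)
  have cm : ∀ {A : Subgroup H}, IsMulCommutative A → ∀ a ∈ A, ∀ b ∈ A, Commute a b := fun h a ha b hb =>
    congrArg Subtype.val (h.is_comm.comm ⟨a, ha⟩ ⟨b, hb⟩)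
  have h4 : ∀ A : Subgroup H, A.Normal → IsMulCommutative A → IsPGroup p A → Nat.card A ≤ p := fun A hA hc hp =>
    h3 A hc hp fun x hx x1 => h1 A hA hp (.inr (cm hc)) x hx x1 x (mem_zpowers x)
  have hE : ∀ E : Subgroup (pCore p H), E.Normal → IsMulCommutative E → Nat.card E ≤ p := fun E hn hc => by
    rw [← card_map_of_injective (pCore p H).subtype_injective]
    have hp' := (hQ.to_subgroup E).map (pCore p H).subtype
    by_cases p2 : p = 2
    swap
    · exact h3 _ inferInstance hp' fun x hx x1 => h1 _ inferInstance hQ (.inl p2) x (map_subtype_le E hx) x1 x (mem_zpowers x)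
    suffices e : pCore p H = ⊤ from h4 _ (hn.map _ fun x => ⟨⟨x, e ▸ mem_top x⟩, rfl⟩) inferInstance hp'
    by_cases q1 : pCore p H = ⊥
    · rw [q1] at hC; exact top_le_iff.1 fun x _ => q1 ▸ hC (by simp [mem_centralizer_iff])
    obtain ⟨A, hA, AQ, A1, hc⟩ := H01.exists_abelian_normal_le _ q1
    obtain ⟨z, zA, z1⟩ := (bot_or_exists_ne_one A).resolve_left A1
    have zc : ∀ g, Commute z g := fun g => by
      have hA2 : Nat.card A = 2 := le_antisymm (p2 ▸ h4 A hA hc (hQ.to_le AQ)) ((one_lt_card_iff_ne_bot A).2 A1)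
      obtain ⟨y, -, hy⟩ := (Nat.card_eq_two_iff' (1 : A)).1 hA2
      have := (hy ⟨_, hA.conj_mem z zA g⟩ fun e => z1 (conj_eq_one_iff.1 (congrArg Subtype.val e))).trans
        (hy ⟨z, zA⟩ fun e => z1 (congrArg Subtype.val e)).symm
      exact (mul_inv_eq_iff_eq_mul.1 (congrArg Subtype.val this)).symm
    refine H02.pCore_eq_top_iff.2 fun g => ?_
    obtain ⟨u, s, -, -, ⟨k, hk⟩, hs, rfl⟩ := H03.exists_pPart_mul (p := p) g
    obtain ⟨j, hj⟩ := hQ ⟨z, AQ zA⟩
    have hj : z ^ p ^ j = 1 := congrArg Subtype.val hj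
    obtain ⟨i, hi⟩ := h2 _ (h1 A hA (hQ.to_le AQ) (.inr (cm hc)) z zA z1 (z * s) (H27.mem_zpowers_mul_of_coprime (zc s)
      ((hs.symm.pow_left j).coprime_dvd_left (orderOf_dvd_of_pow_eq_one hj))))
    rw [orderOf_eq_one_iff.1 ((hs.pow_right _).eq_one_of_dvd (orderOf_dvd_of_pow_eq_one (pw_of (zc s) hj hi))), mul_one]
    exact ⟨k, hk ▸ pow_orderOf_eq_one u⟩
  have := hQ.isNilpotent
  have hc := H06.comm_of_nilpotent_of_abelian_normal_le_center fun A hn hc => le_center hQ A (hE A hn hc)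
  have hq := h4 _ inferInstance hc hQ
  obtain ⟨P, hP⟩ := hT.exists_le_sylow
  have QP := H02.pCore_le_sylow P
  have h5 := le_center P.isPGroup' ((pCore p H).subgroupOf P) (by rwa [Nat.card_congr (subgroupOfEquivOfLe QP).toEquiv])
  exact (card_le_of_le (hP.trans (fun x hx => hC fun y hy =>
    (congrArg Subtype.val (mem_center_iff.1 (h5 (show (⟨y, QP hy⟩ : P) ∈ _ from hy)) ⟨x, hx⟩)).symm))).trans hq

theorem card_le {p : ℕ} [hp : Fact p.Prime] {G : Type*} [Group G] [Finite G] [Group.IsSolvable G] {b : ℕ}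
    (h : ∀ g χ, IsIrrCharacter G χ → χ g = 0 → p ∣ orderOf g → orderOf g = b) {P : Subgroup G} (hP : IsPGroup p P) :
    Nat.card (P.map (QuotientGroup.mk' (pCore p G))) ≤ p := by
  let π := QuotientGroup.mk' (pCore p G)
  have πs : Function.Surjective π := QuotientGroup.mk'_surjective _
  set B := G ⧸ pCore p G
  let K := pPrimeCore p B
  let ρ := QuotientGroup.mk' K
  have ρs : Function.Surjective ρ := QuotientGroup.mk'_surjective _
  have ρ1 : ∀ x, ρ x = 1 ↔ x ∈ K := QuotientGroup.eq_one_iff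
  have FK : fittingSubgroup B ≤ K := by
    have := H02.fitting_le_pCore_sup_pPrimeCore (G := B) hp.out
    rwa [H02.pCore_quotient_pCore, bot_sup_eq] at this
  have CK : centralizer (K : Set B) ≤ K := ((centralizer_le FK).trans (H02.centralizer_fitting_le B)).trans FK
  have Kp : ∀ x ∈ K, (∃ k, x ^ p ^ k = 1) → x = 1 := fun x hx ⟨k, hk⟩ => orderOf_eq_one_iff.1
    (((H02.orderOf_coprime_of_mem_pPrimeCore hx).pow_right k).eq_one_of_dvd (orderOf_dvd_of_pow_eq_one hk))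
  have inj : ∀ T : Subgroup B, IsPGroup p T → Set.InjOn ρ T := fun T hT x hx y hy e => by
    obtain ⟨k, hk⟩ := hT ⟨_, mul_mem (inv_mem hx) hy⟩
    exact inv_mul_eq_one.1 (Kp _ (QuotientGroup.eq.1 e) ⟨k, congrArg Subtype.val hk⟩)
  let V : B ⧸ K → Prop := fun h => ∃ A : Subgroup (B ⧸ K), A.Normal ∧ IsPGroup p A ∧ (p ≠ 2 ∨ ∀ a ∈ A, ∀ b ∈ A, Commute a b) ∧
    ∃ x ∈ A, x ≠ 1 ∧ x ∈ zpowers h
  have k1 : ∀ g, V (ρ (π g)) → orderOf g = b ∧ p ∣ b := by
    rintro g ⟨A, hA, hAp, h2, x, xA, x1, hx⟩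
    rw [← MonoidHom.map_zpowers] at hx
    obtain ⟨y, hy, rfl⟩ := hx
    obtain ⟨u, s, hu, hs, ⟨k, hk⟩, hs', e⟩ := H03.exists_pPart_mul (p := p) y
    have M : zpowers y ≤ A.comap ρ := zpowers_le.2 xA
    have s1 : ρ s = 1 := by
      obtain ⟨i, hi⟩ := hAp ⟨_, M hs⟩
      exact orderOf_eq_one_iff.1 (((hs'.coprime_dvd_left (orderOf_map_dvd ρ s)).pow_right i).eq_one_of_dvd
        (orderOf_dvd_of_pow_eq_one (congrArg Subtype.val hi)))
    have uK : u ∉ K := fun hu => x1 (by rw [e, map_mul, s1, (ρ1 u).2 hu, one_mul])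
    have ug := zpowers_le.2 hy hu
    obtain ⟨χ, hχ, e⟩ := van _ B K (A.comap ρ) u (π g) rfl (H02.pPrimeCore_coprime p B)
      (fun m hm => (hAp ⟨_, hm⟩).imp fun i hi => (ρ1 _).1 (by rw [map_pow]; exact congrArg Subtype.val hi))
      (h2.imp_right fun h a ha b hb => (ρ1 _).1 (by simp [(h _ ha _ hb).eq])) (M hu) ⟨k, hk ▸ pow_orderOf_eq_one u⟩
      (fun h => uK (CK h)) ug
    have pd : p ∣ orderOf g := by
      refine .trans ?_ ((orderOf_dvd_of_mem_zpowers ug).trans (orderOf_map_dvd π g))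
      rw [hk]; exact dvd_pow_self p fun k0 => uK (by rw [orderOf_eq_one_iff.1 (by rw [hk, k0, pow_zero] : orderOf u = 1)]; exact one_mem _)
    have := h g _ (hχ.comp_of_surjective π πs) e pd
    exact ⟨this, this ▸ pd⟩
  have k2 : ∀ y, V (ρ y) → ∃ k, y ^ p ^ k = 1 := fun y hy => by
    obtain ⟨g, rfl⟩ := πs y
    obtain ⟨A, hA, hAp, h2, x, xA, x1, -⟩ := id hy
    obtain ⟨i, hi⟩ := hAp ⟨x, xA⟩
    obtain ⟨g', rfl, k, hk⟩ := lift_p hp.out (ρ.comp π) (ρs.comp πs) (e := x) (congrArg Subtype.val hi)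
    exact ⟨k, by
      rw [← map_pow, orderOf_dvd_iff_pow_eq_one.1 ((k1 g hy).1.trans (k1 g' ⟨A, hA, hAp, h2, _, xA, x1, mem_zpowers _⟩).1.symm ▸
        orderOf_dvd_of_pow_eq_one hk), map_one]⟩
  have k3 : ∀ x, V x → ¬ V (x ^ p) := fun x hx hx' => by
    obtain ⟨g, rfl⟩ := (ρs.comp πs) x
    obtain ⟨e1, e2⟩ := k1 g hx
    have e3 := (k1 (g ^ p) (by rw [map_pow, map_pow]; exact hx')).1
    rw [orderOf_pow, e1, Nat.gcd_eq_right e2] at e3
    exact (Nat.div_lt_self (e1 ▸ orderOf_pos g) hp.out.one_lt).ne e3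
  refine (Nat.card_image_of_injOn (inj _ (hP.map π))).symm.trans_le (core (T := (P.map π).map ρ)
    (H02.pPrimeCore_quotient_pPrimeCore p B) V (fun A a b c x d e h f => ⟨A, a, b, c, x, d, e, f⟩)
    (fun x hx => ?_) (fun E hc hE hV => ?_) ((hP.map π).map ρ))
  · obtain ⟨y, rfl⟩ := ρs x
    exact (k2 y hx).imp fun k hk => by rw [← map_pow, hk, map_one]
  have ep : ∀ x : E, x ^ p = 1 := fun x => by
    by_contra e
    exact k3 x (hV x x.2 fun e' => e (by rw [show x = 1 from Subtype.ext e', one_pow])) (hV _ (pow_mem x.2 p) fun e' => e (Subtype.ext e'))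
  suffices IsCyclic E from IsCyclic.exponent_eq_card (α := E) ▸ Nat.le_of_dvd hp.out.pos (Monoid.exponent_dvd_of_forall_pow_eq_one ep)
  obtain ⟨S, hS⟩ := hE.exists_le_sylow
  obtain ⟨T, rfl⟩ := Sylow.mapSurjective_surjective ρs p S
  have e : (E.comap ρ ⊓ T).map ρ = E := le_antisymm (by rintro _ ⟨a, ha, rfl⟩; exact ha.1) fun x hx => by
    obtain ⟨a, ha, rfl⟩ := hS hx; exact ⟨a, ⟨hx, ha⟩, rfl⟩
  suffices IsCyclic (E.comap ρ ⊓ T : Subgroup B) from e ▸ isCyclic_of_surjective _ (ρ.subgroupMap_surjective _)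
  by_cases K1 : K = ⊥
  · have : Subsingleton B := by
      rw [K1] at CK; exact ⟨fun x y => (mem_bot.1 (CK (by simp [mem_centralizer_iff]))).trans (mem_bot.1 (CK (by simp [mem_centralizer_iff]))).symm⟩
    infer_instance
  refine H02.isCyclic_of_fpf K1 (by rw [normalizer_eq_top]; exact le_top) (fun a ha a1 => eq_bot_iff.2 fun c hc => ?_)
    (.inl ⟨⟨fun x y => Subtype.ext (inj T T.isPGroup' (mul_mem x.2.2 y.2.2) (mul_mem y.2.2 x.2.2) (by
      simpa using congrArg Subtype.val (hc.is_comm.comm ⟨_, x.2.1⟩ ⟨_, y.2.1⟩)))⟩⟩)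
  obtain ⟨j, hj⟩ := T.isPGroup' ⟨a, ha.2⟩
  have hj : a ^ p ^ j = 1 := congrArg Subtype.val hj
  obtain ⟨i, hi⟩ := k2 (a * c) (by
    rw [map_mul, (ρ1 c).2 hc.1, mul_one]; exact hV _ ha.1 fun e => a1 (Kp a ((ρ1 a).1 e) ⟨j, hj⟩))
  have ac : Commute a c := (mem_centralizer_singleton_iff.1 hc.2).symm
  exact Kp c hc.1 ⟨i + j, pw_of ac hj hi⟩

end H05.Van
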