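import Cfsg.Agent.L.Fz0
import Cfsg.Agent.H14.P24

/-! Part Sg of S5569, with the statement unfolded. -/

set_option autoImplicit false
open Subgroup

namespace H05.YS
universe u

section
open L.Fz
variable {G : Type u} [Group G] {A M B : Subgroup G} {D : Set G} {z : G} {Ω : Type u} {τ : Ω → Ω → G} {σ : M →* Equiv.Perm Ω}

theorem comm (h : Cf A M B D z) {x y : G} (i : x ∈ A) (j : y ∈ A) : x * y = y * x := by
  rw [← inv_eq_of_mul_eq_one_right (h.sq _ (mul_mem i j)), mul_inv_rev, inv_eq_of_mul_eq_one_right (h.sq _ i),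
    inv_eq_of_mul_eq_one_right (h.sq _ j)]

theorem ker (h : Cf A M B D z) (r : Tr M D τ σ) (m : M) : σ m = 1 ↔ m.1 ∈ A := by
  refine ⟨fun e => h.cen m m.2 fun x i => ?_, fun a => Equiv.ext fun i => ?_⟩
  · have c : ∀ t ∈ D, Commute m.1 t := fun t o => by
      obtain ⟨i, j, -, rfl⟩ := r.surj t o
      exact mul_inv_eq_iff_eq_mul.1 (by rw [r.act, e]; rfl)
    by_cases x1 : x = 1
    · simp [x1]
    by_cases xD : x ∈ D
    · exact c x xD
    obtain ⟨g, gm, rfl⟩ := h.trZ x i x1 xD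
    obtain ⟨t, tD, tB⟩ := h.exD
    rw [show g * z * g⁻¹ = g * t * g⁻¹ * (g * (t * z) * g⁻¹) by rw [conj_mul, ← mul_assoc t, h.sq t (h.DA t tD).1, one_mul]]
    exact (c _ (h.Dc g gm t tD)).mul_right (c _ (h.Dc g gm _ (h.Bz t tD tB)))
  · have : Finite Ω := Nat.finite_of_card_ne_zero (by rw [r.card]; norm_num)
    have c : ∀ j, j ≠ i → σ m i = i ∨ σ m i = j := fun j n =>
      (r.inj i j _ _ n.symm (by rw [← r.act, comm h a (h.DA _ (r.mem _ _ n.symm)).1, mul_inv_cancel_right])).imp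
        (fun e => e.1.symm) fun e => e.2.symm
    by_contra n
    have s : (Set.univ : Set Ω) ⊆ {i, σ m i} := fun j _ => by
      by_cases e : j = i
      exacts [.inl e, .inr ((c j e).resolve_left n).symm]
    have := (Set.ncard_le_ncard s).trans (Set.ncard_insert_le _ _)
    rw [Set.ncard_univ, r.card, Set.ncard_singleton] at this
    omega

end

theorem sg' {G : Type u} [Group G] [Finite G] {A N B : Subgroup G} {D : Set G} {z t : G} {Ω : Type u}
    {τ : Ω → Ω → G} {σ : N →* Equiv.Perm Ω} (e : Ω ≃ Cfsg.GolayPt)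
    (p7 : ∀ k : Cfsg.M24, k * k = 1 → (∃ p, k.1 p = p) → ∃ g : Cfsg.M24, g ≠ 1 ∧ g ^ 7 = 1 ∧ g * k = k * g)
    (h : L.Fz.Cf A N B D z) (r : L.Fz.Tr N D τ σ) (he : ∀ m : N, e.permCongr (σ m) ∈ Cfsg.M24)
    (cN : Nat.card N = 1771 * (2 ^ 21 * 135)) (tN : t ∈ N) (tt : t * t = 1)
    (c12 : 12 < {x | x ∈ D ∧ t * x = x * t}.ncard) : ∃ g ∈ N, g ∉ A ∧ g ^ 7 ∈ A ∧ t⁻¹ * (g * t * g⁻¹) ∈ A := by
  classical
  let φ : N →* Cfsg.M24 := (e.permCongrHom.toMonoidHom.comp σ).codRestrict _ he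
  have φ1 : ∀ m, φ m = 1 ↔ m.1 ∈ A := fun m =>
    (Subtype.ext_iff.trans (map_eq_one_iff e.permCongrHom e.permCongrHom.injective)).trans (ker h r m)
  have φk : φ.ker = A.subgroupOf N := Subgroup.ext φ1
  have c24 : Nat.card Cfsg.M24 = 244823040 := H14.card_M24
  have : Finite Cfsg.M24 := Nat.finite_of_card_ne_zero (by rw [c24]; norm_num)
  have φs : Function.Surjective φ := MonoidHom.range_eq_top.1 (eq_top_of_card_eq _ (by
    have a := φ.ker.card_mul_index
    rw [index_ker, φk, Nat.card_congr (subgroupOfEquivOfLe h.AM).toEquiv, h.cA, cN] at a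
    rw [c24]
    omega))
  let T : N := ⟨t, tN⟩
  have TT : T * T = 1 := Subtype.ext tt
  have ss : ∀ i, σ T (σ T i) = i := fun i => by
    rw [← Equiv.Perm.mul_apply, ← map_mul, TT, map_one, Equiv.Perm.one_apply]
  have fx : ∃ i, σ T i = i := by
    by_contra n
    push Not at n
    have : Finite Ω := Nat.finite_of_card_ne_zero (by rw [r.card]; norm_num)
    have := Fintype.ofFinite Ω
    have b := Finset.mul_card_image_le_card (f := fun i => τ i (σ T i)) Finset.univ 2 (fun b hb => by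
      obtain ⟨i, -, rfl⟩ := Finset.mem_image.1 hb
      refine Finset.one_lt_card.2 ⟨i, by simp, σ T i, ?_, (n i).symm⟩
      simp only [Finset.mem_filter, Finset.mem_univ, true_and]
      rw [ss, r.symm])
    have s : {x | x ∈ D ∧ t * x = x * t} ⊆ ↑(Finset.univ.image fun i => τ i (σ T i)) := by
      rintro x ⟨xD, c⟩
      obtain ⟨i, j, ij, rfl⟩ := r.surj x xD
      have a := r.act T i j
      rw [show (T : G) = t from rfl, c, mul_inv_cancel_right] at a
      rcases r.inj i j _ _ ij a with q | q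
      · exact absurd q.1.symm (n i)
      · exact Finset.mem_coe.2 (Finset.mem_image.2 ⟨i, Finset.mem_univ _, by rw [← q.2]⟩)
    have l := Set.ncard_le_ncard s (Finset.finite_toSet _)
    rw [Set.ncard_coe_finset] at l
    rw [Finset.card_univ, ← Nat.card_eq_fintype_card, r.card] at b
    omega
  obtain ⟨i, hi⟩ := fx
  obtain ⟨g, g1, g7, gc⟩ := p7 (φ T) (by rw [← map_mul, TT, map_one]) ⟨e i, by
    show e.permCongr (σ T) (e i) = e i
    simp [hi]⟩
  obtain ⟨m, rfl⟩ := φs g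
  refine ⟨m, m.2, fun a => g1 ((φ1 m).2 a), (φ1 (m ^ 7)).1 (by rw [map_pow, g7]), (φ1 (T⁻¹ * (m * T * m⁻¹))).1 ?_⟩
  rw [map_mul, map_mul, map_mul, gc, map_inv, map_inv, mul_inv_cancel_right, inv_mul_cancel]

end H05.YS
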